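import Cfsg.Agent.Cam.Ex.RE_m3
import Cfsg.Agent.Cam.Red.Count_m3
import Cfsg.Agent.DS.Nt.Kac
import Cfsg.Agent.S0205
import Cfsg.Agent.S0215
import Cfsg.Agent.S1180
import Cfsg.Agent.Lib.FinFast
import Cfsg.Agent.BpExc.AsmN_m3
import Mathlib.LinearAlgebra.Eigenspace.Basic
import Mathlib.LinearAlgebra.FiniteDimensional.Lemmas
import Mathlib.Tactic.Module
import Mathlib.Tactic.LinearCombination
import Mathlib.Tactic.Linarith
import Cfsg.Agent.FastGrp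
import Cfsg.Agent.Prune
set_option linter.all false

section
prune_inst 0x7ffcfef9abb8bddfffff7e7fae9edffdf9f99fffa6dff9cb7fe0e3ff2b9f230089e5fbad8fe090fe0ed6e2b410387853ff7eeeffe96bdc7ffffd5ff41ffbee1ff5f7350951dc88b40fb80fff83f0778e7f3fffffffffffffffffffffffffffbeffffffffffff

-- part: Cam/Odd/K3
section
prune_inst 0x301001404422000000180506100020602600059200630801814001440cc887600000270114f0131200008acc40388008111000600220000000008c00411c00a08c8b42023350ad04760007c09084000000000000000000000000000000000000000000000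
set_option linter.all false
open scoped Cfsg.Agent.FastGrp

/-!
# Exceptional rows, odd characteristic: common tools and `K3` for involutions (helper81)
-/

set_option autoImplicit false
set_option linter.unusedVariables false
set_option linter.unusedSectionVars false

namespace Cfsg.Agent.Cam.Odd

open CoxeterSystem Cfsg Cfsg.Lie Subgroup Module
open Cfsg.Agent.Tits.Roots Cfsg.Agent.Nodes.BNOf Cfsg.Agent.Nodes.RGDChev Cfsg.Agent.KFacts.RgdChevCoord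
open Cfsg.Agent.ChevalleyStructure.CoxeterGeom Cfsg.Agent.ChevalleyStructure.CoxeterGeomTypes
open Cfsg.Agent.Cam.Spor Cfsg.Agent.Cam.Ex Cfsg.Agent.Cam.Ex.S2 Cfsg.Agent.TwoFusion.PerfCore
open Cfsg.Agent.DS.Nt (dd ad Fx Tp RP DZ)
open scoped commutatorElement

variable {D : ChevalleyDatum} {l : ℕ} {M : CoxeterMatrix (Fin l)} {hp : IsType D l M} {p : ℕ} [Fact p.Prime]

theorem prim2 (h2 : p ≠ 2) : IsPrimitiveRoot (-1 : kb p) 2 := IsPrimitiveRoot.neg_one p h2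

/-- the dimension of the fixed space of a torus element -/
theorem dd_psiS {t : YY D p} (ht : t ∈ TT D (kb p)) : dd p t = l + (PsiS hp {t}).ncard := by
  classical
  rw [DS.Nt.dd_tor (hp := hp) ht]
  congr 1
  have h1 : PsiS hp {t} = (fun s : Fin D.nroots => vec D l s) ''
      ((Finset.univ.filter fun s : Fin D.nroots => H129.TorusChar.cX hp t (vec D l s) = 1 : Finset _) : Set _) := by
    ext a
    constructor
    · rintro ⟨ha, h⟩
      obtain ⟨r, hr, rfl⟩ := (isRoot_iff hp M.toCoxeterSystem a).1 ha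
      refine ⟨⟨r, hr⟩, ?_, rfl⟩
      simp only [Finset.coe_filter, Finset.mem_univ, true_and, Set.mem_ofPred_eq]
      rw [cX_rt ht ha]
      exact h t rfl
    · rintro ⟨s, hs, rfl⟩
      simp only [Finset.coe_filter, Finset.mem_univ, true_and, Set.mem_ofPred_eq] at hs
      have ha : Rt hp (vec D l s) := (isRoot_iff hp M.toCoxeterSystem _).2 ⟨s, s.2, rfl⟩
      refine ⟨ha, fun u hu => ?_⟩
      rw [Set.mem_singleton_iff.1 hu, ← cX_rt ht ha]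
      exact hs
  rw [h1, Set.ncard_image_of_injective _ fun a b hab => Fin.ext (vec_inj hp a.2 b.2 hab), Set.ncard_coe_finset]

theorem dd_chi {m : ℕ} [NeZero m] {ζ : kb p} (hζ : IsPrimitiveRoot ζ m) {t : YY D p} {φ : Lat l →+ ZMod m}
    (h : Chi hp ζ t φ) : dd p t = l + nk hp φ := by
  rw [dd_psiS (hp := hp) h.1, h.psiS hζ]

/-- if the stabilizer in `W` is the reflection group then the centralizer is connected -/
theorem mem_DZ_of_conn {Z : Set (YY D p)} (hfin : Z.Finite) (hZ : ∀ t ∈ Z, t ∈ TT D (kb p))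
    (h : ∀ w, (∀ a, Rt hp a → ∀ t ∈ Z, ch hp (wa hp w a) t = ch hp a t) → w ∈ WW hp (PsiS hp Z)) {c : YY D p}
    (hc : ∀ t ∈ Z, c * t = t * c) : c ∈ DZ hp p Z := by
  have := finite_WW hp
  obtain ⟨m, hm, w, -, k, hk, hkZ, rfl⟩ := DS.Nt.form hp hfin hZ hc
  have hw := h w fun a ha t ht => by
    have h1 := ch_rp hk (hZ t ht) ha
    rwa [hkZ t ht, mul_inv_cancel_right] at h1
  have cs := cs_psiS (hp := hp) hZ
  obtain ⟨m', hm', hk'⟩ := DS.Ex.Tor.exists_rp_MS (p := p) (fun a ha => ha.1) (fun a ha => cs.neg a ha) hw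
  have h1 : m'⁻¹ * k ∈ TT D (kb p) := by
    have h2 := hk'.inv.mul hk
    rw [inv_mul_cancel] at h2
    exact h2.mem_T
  refine mul_mem (DS.Nt.Mz_le_DZ hm) ?_
  rw [show k = m' * (m'⁻¹ * k) by group]
  exact mul_mem (DS.Nt.Mz_le_DZ hm') (DS.Nt.T_le_DZ h1)

/-- a toral set of involutions and an involution of its connected centralizer -/
theorem tor_DZ (h2 : p ≠ 2) {Z : Set (YY D p)} (hfin : Z.Finite) (hZ : ∀ t ∈ Z, t ∈ TT D (kb p) ∧ t ^ 2 = 1)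
    {x : YY D p} (hx : x ∈ DZ hp p Z) (hx2 : x ^ 2 = 1) :
    ∃ g : YY D p, (∀ t ∈ Z, g * t * g⁻¹ ∈ TT D (kb p)) ∧ g * x * g⁻¹ ∈ TT D (kb p) := by
  have hc : ∀ t ∈ Z, x * t = t * x := fun t ht => DS.Nt.DZ_comm (fun t ht => (hZ t ht).1) hx ht
  have hQ : IsPGroup 2 (closure (insert x Z)) := DS.Nt.isPGroup_of_comm (by
    rintro a (rfl | ha) b (rfl | hb)
    · rfl
    · exact hc b hb
    · exact (hc a ha).symm
    · exact T_comm hp (hZ a ha).1 (hZ b hb).1) (by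
    rintro a (rfl | ha)
    · exact ⟨1, hx2⟩
    · exact ⟨1, (hZ a ha).2⟩)
  obtain ⟨g, hg⟩ := DS.Nt.toral_step (n := 1) Nat.prime_two h2.symm hfin (fun t ht => (hZ t ht).1) hx hx2 hQ le_rfl
  exact ⟨g, fun t ht => hg t (subset_closure (Or.inr ht)), hg x (subset_closure (Or.inl rfl))⟩

/-- a toral set of involutions and an involution of a perfect group centralizing it -/
theorem tor_perf (hp : IsType D l M) (h2 : p ≠ 2) {Z : Set (YY D p)} (hfin : Z.Finite) {z : YY D p}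
    (hZ : ∀ t ∈ Z, z * t * z⁻¹ ∈ TT D (kb p) ∧ t ^ 2 = 1) {J : Subgroup (YY D p)} (hJ : ⁅J, J⁆ = J)
    (hc : ∀ j ∈ J, ∀ t ∈ Z, j * t = t * j) {x : YY D p} (hx : x ∈ J) (hx2 : x ^ 2 = 1) :
    ∃ g : YY D p, (∀ t ∈ Z, g * t * g⁻¹ ∈ TT D (kb p)) ∧ g * x * g⁻¹ ∈ TT D (kb p) := by
  have hsq : ∀ y : YY D p, y ^ 2 = 1 → (z * y * z⁻¹) ^ 2 = 1 := fun y hy => by
    rw [conj_pow, hy, mul_one, mul_inv_cancel]
  have h1 := chi_perf hp Nat.prime_two (Q := (fun t => z * t * z⁻¹) '' Z) (by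
    rintro _ ⟨t, ht, rfl⟩
    exact ⟨(hZ t ht).1, 1, hsq t (hZ t ht).2⟩) (map_perfect hJ (MulAut.conj z).toMonoidHom) (by
    rintro _ ⟨j, hj, rfl⟩
    rw [mem_centralizer_iff]
    rintro _ ⟨t, ht, rfl⟩
    exact DS.Nt.conj_comm (hc j hj t ht).symm)
  obtain ⟨g, hg, hg'⟩ := tor_DZ (hp := hp) h2 (hfin.image fun t => z * t * z⁻¹) (by
    rintro _ ⟨t, ht, rfl⟩
    exact ⟨(hZ t ht).1, hsq t (hZ t ht).2⟩) (DS.Nt.Mz_le_DZ (h1 ⟨x, hx, rfl⟩)) (hsq x hx2)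
  refine ⟨g * z, fun t ht => ?_, ?_⟩
  · have h3 := hg _ ⟨t, ht, rfl⟩
    rwa [show g * (z * t * z⁻¹) * g⁻¹ = g * z * t * (g * z)⁻¹ by group] at h3
  · change g * (z * x * z⁻¹) * g⁻¹ ∈ _ at hg'
    rwa [show g * (z * x * z⁻¹) * g⁻¹ = g * z * x * (g * z)⁻¹ by group] at hg'

theorem A1c.map {K : Type} [AddCommGroup K] {φ : Lat l →+ K} {f : Lat l ≃+ Lat l} (hr : ∀ a, Rt hp (f a) ↔ Rt hp a)
    (hc : ∀ a c, Rt hp c → cp hp (f a) (f c) = cp hp a c) (hφ : ∀ a, φ (f a) = φ a) {c : Lat l}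
    (h : A1c hp (Psi hp φ) c) : A1c hp (Psi hp φ) (f c) := by
  refine ⟨⟨(hr c).2 h.1.1, (hφ c).trans h.1.2⟩, fun a ha => ?_⟩
  obtain ⟨a, rfl⟩ := f.surjective a
  rcases h.2 a ⟨(hr a).1 ha.1, (hφ a).symm.trans ha.2⟩ with h1 | h1 | h1
  · exact Or.inl (by rw [h1])
  · exact Or.inr (Or.inl (by rw [h1, map_neg]))
  · exact Or.inr (Or.inr (by rw [hc a c h.1.1, h1]))

theorem A1c.wa {K : Type} [AddCommGroup K] {φ : Lat l →+ K} {w : M.Group} (hφ : Fixs hp w φ) {c : Lat l}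
    (h : A1c hp (Psi hp φ) c) : A1c hp (Psi hp φ) (wa hp w c) := by
  refine ⟨⟨h.1.1.wa' w, (hφ c).trans h.1.2⟩, fun a ha => ?_⟩
  rw [← wa_wa_inv (hp := hp) w a] at ha ⊢
  rcases h.2 (Ex.wa hp w⁻¹ a) ⟨by have := ha.1.wa' w⁻¹; rwa [wa_inv_wa] at this, (hφ _).symm.trans ha.2⟩ with h1 | h1 | h1
  · exact Or.inl (by rw [h1])
  · exact Or.inr (Or.inl (by rw [h1, wa_neg]))
  · exact Or.inr (Or.inr (by rw [cp_wa w _ h.1.1, h1]))

section frame

variable {d : ℕ} {g0 : Lat l ≃+ Lat l} {L : Type} [Group L] [Finite L]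

theorem cj_q {E E' : Frame hp p d g0 L} (h : E.Cj E') : E'.q = E.q := by
  unfold Frame.q
  rw [h.1]

theorem cj_dd {E E' : Frame hp p d g0 L} (h : E.Cj E') (x : L) : dd p (E'.ι x) = dd p (E.ι x) := by
  obtain ⟨-, z, hz⟩ := h
  have h1 := DS.Nt.dd_conj z⁻¹ (E.ι x)
  rwa [inv_inv, ← hz] at h1

theorem cj_trans {E E' E'' : Frame hp p d g0 L} (h : E.Cj E') (h' : E'.Cj E'') : E.Cj E'' := by
  obtain ⟨h1, z, hz⟩ := h
  obtain ⟨h2, z', hz'⟩ := h'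
  exact ⟨h2.trans h1, z * z', fun x => by rw [hz', hz]; group⟩

theorem cj_tp {E E' : Frame hp p d g0 L} (h : E.Cj E') {x y : L} :
    Tp p (E'.ι x) (E'.ι y) ↔ Tp p (E.ι x) (E.ι y) := by
  obtain ⟨-, z, hz⟩ := h
  rw [hz, hz]
  constructor
  · intro h
    refine DS.Nt.Tp.of_conj (c := z⁻¹) ?_
    rwa [inv_inv]
  · intro h
    have h1 := h.conj z⁻¹
    rwa [inv_inv] at h1

theorem q_odd (E : Frame hp p d g0 L) (h2 : p ≠ 2) : (E.q : ZMod 2) = 1 := by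
  have h1 : Odd E.q := ((Fact.out : p.Prime).odd_of_ne_two h2).pow
  exact (ZMod.natCast_eq_one_iff_odd).2 h1

/-- the character of a toral involution of `L` -/
theorem exists_chi2 (E : Frame hp p d g0 L) (h2 : p ≠ 2) {x : L} (hx : E.ι x ∈ TT D (kb p)) (hx2 : x ^ 2 = 1) :
    ∃ φ : Lat l →+ ZMod 2, Chi hp (-1) (E.ι x) φ :=
  chi_ex hp (prim2 h2) two_pos hx (by rw [← map_pow, hx2, map_one])

theorem chi2_g (E : Frame hp p d g0 L) (h2 : p ≠ 2) {x : L} {φ : Lat l →+ ZMod 2} (h : Chi hp (-1) (E.ι x) φ)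
    (a : Lat l) : φ (E.g a) = φ a := by
  rw [h.frob (prim2 h2) boxChi E (E.fix x) a, q_odd E h2, one_mul]

/-- the `A₁` component is moved by the Frobenius map to an `A₁` component -/
theorem a1c_g (E : Frame hp p d g0 L) (h2 : p ≠ 2) {x : L} {φ : Lat l →+ ZMod 2} (h : Chi hp (-1) (E.ι x) φ)
    {c : Lat l} (hc : A1c hp (Psi hp φ) c) : A1c hp (Psi hp φ) (E.g c) :=
  A1c.map E.fr.root E.gcp (chi2_g E h2 h) hc

/-- a perfect group centralizing a toral involution acts on an `A₁` component by inner automorphisms -/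
theorem inn_of_perf (h2 : p ≠ 2) {x : YY D p} {φ : Lat l →+ ZMod 2} (h : Chi hp (-1) x φ) {c : Lat l}
    (hc : A1c hp (Psi hp φ) c) {J : Subgroup (YY D p)} (hJ : ⁅J, J⁆ = J) (hx : ∀ j ∈ J, x * j = j * x) {j : YY D p}
    (hj : j ∈ J) : ∃ s, IA (sl p hc.1.1) j s := by
  have h1 := chi_perf hp Nat.prime_two (Q := {x}) (by
    rintro _ rfl
    exact ⟨h.1, 1, h.pow_eq_one (prim2 h2)⟩) hJ (fun j hj => mem_centralizer_iff.2 (by
    rintro _ rfl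
    exact hx j hj))
  rw [h.psiS (prim2 h2)] at h1
  exact (spl_psi hc.1.1 hc).inn _ (h1 hj)

/-- a torus element centralizes `K_c` iff its character kills `c` -/
theorem cz_chi (h2 : p ≠ 2) {x : YY D p} {φ : Lat l →+ ZMod 2} (h : Chi hp (-1) x φ) {c : Lat l} (hc : Rt hp c) :
    Cz (sl p hc) x ↔ φ c = 0 := by
  rw [cz_T hc h.1, h.2 c hc, zeta_eq_one (prim2 h2)]

variable {U : Type} [Group U] [Finite U] {τ α β : U →* L} {R R' : Subgroup L}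

/-- **`K3` for involutions.** -/
theorem k3 (one : BoxOne) (hl : l ≤ 7) (hB : D ≠ chevB2) (E : Frame hp p d g0 L) (C : Core τ α β R R') (h2 : p ≠ 2)
    (hq : 5 ≤ E.q) {u : U} {φ : Lat l →+ ZMod 2} (h : Chi hp (-1) (E.ι (τ u)) φ) {c : Lat l}
    (hc : A1c hp (Psi hp φ) c) (hg : E.g c = c ∨ E.g c = -c) {u' : U} (hi : ∃ j, IA (sl p hc.1.1) (E.ι (τ u')) j) :
    Cz (sl p hc.1.1) (E.ι (τ u')) := by
  obtain ⟨j, hj⟩ := hi
  have hcom : ∀ v : U, ∀ r ∈ R.map E.ι, E.ι (τ v) * r = r * E.ι (τ v) := by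
    rintro v _ ⟨r, hr, rfl⟩
    rw [← map_mul, ← map_mul, C.pair.comm v r hr]
  refine (sl_ck hc.1.1).cz_of_perfect (map_perfect C.pair.perfect E.ι)
    (fun r hr => inn_of_perf h2 h hc (map_perfect C.pair.perfect E.ι) (hcom u) hr) (fun hall => ?_) hj (hcom u')
  exact one D l M hp hl hB p d g0 L E U τ α β R R' C h2 hq c hc.1.1 hg fun a ha y hy x hx =>
    (cz_iff hc.1.1).1 (hall _ ⟨x, hx, rfl⟩) a ha y hy

/-- **`K3` for a toral pair of involutions.** -/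
theorem k3t (one : BoxOne) (hl : l ≤ 7) (hB : D ≠ chevB2) (E : Frame hp p d g0 L) (C : Core τ α β R R') (h2 : p ≠ 2)
    (hq : 5 ≤ E.q) {u u' : U} {φ φ' : Lat l →+ ZMod 2} (h : Chi hp (-1) (E.ι (τ u)) φ)
    (h' : Chi hp (-1) (E.ι (τ u')) φ') {c : Lat l} (hc : A1c hp (Psi hp φ) c) (hg : E.g c = c ∨ E.g c = -c) :
    φ' c = 0 := by
  obtain ⟨a, -, -, ha⟩ := inn_T hc.1.1 h'.1
  exact (cz_chi h2 h' hc.1.1).1 (k3 one hl hB E C h2 hq h hc hg ⟨_, ha⟩)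

/-- the core whose first group is `α U` -/
theorem exists_coreA (C : Core τ α β R R') : ∃ (θ : MulAut L) (ψ : U →* U) (α' β' : U →* L) (Q Q' : Subgroup L),
    Function.Injective ψ ∧ Core (θ.toMonoidHom.comp τ) α' β' Q Q' ∧ ∀ u, (θ.toMonoidHom.comp τ) (ψ u) = α u := by
  obtain ⟨θ, ψ, h1, h2⟩ := exists_cmp C
  exact ⟨θ, ψ, _, _, _, _, h1, C.map θ, h2⟩

theorem dd_conjL (E : Frame hp p d g0 L) (g x : L) : dd p (E.ι (g * x * g⁻¹)) = dd p (E.ι x) := by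
  rw [map_mul, map_mul, map_inv]
  exact DS.Nt.dd_conj _ _

/-- a frame in which a finite toral set lies in the torus -/
theorem exists_frame (E : Frame hp p d g0 L) {Q : Set L} (hQ : Q.Finite) {g : YY D p}
    (hg : ∀ x ∈ Q, g * E.ι x * g⁻¹ ∈ TT D (kb p)) :
    ∃ E' : Frame hp p d g0 L, E.Cj E' ∧ ∀ x ∈ Q, E'.ι x ∈ TT D (kb p) := by
  obtain ⟨E', h1, h2⟩ := E.exists_cj hQ hg
  exact ⟨E', h1, fun x hx => by rw [h2 x hx]; exact hg x hx⟩

theorem exists_frame₂ (E : Frame hp p d g0 L) {x y : L} (h : Tp p (E.ι x) (E.ι y)) :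
    ∃ E' : Frame hp p d g0 L, E.Cj E' ∧ E'.ι x ∈ TT D (kb p) ∧ E'.ι y ∈ TT D (kb p) := by
  obtain ⟨g, h1, h2⟩ := h
  obtain ⟨E', h3, h4⟩ := exists_frame E (Q := {x, y}) (Set.toFinite _) (g := g) (by
    rintro _ (rfl | rfl)
    · exact h1
    · exact h2)
  exact ⟨E', h3, h4 x (Or.inl rfl), h4 y (Or.inr rfl)⟩

theorem exists_frame₁ (E : Frame hp p d g0 L) (h2 : p ≠ 2) {x : L} (hx : x ^ 2 = 1) :
    ∃ E' : Frame hp p d g0 L, E.Cj E' ∧ E'.ι x ∈ TT D (kb p) := by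
  obtain ⟨g, hg⟩ := DS.Nt.exists_conj_T hp (x := E.ι x) (n := 1) Nat.prime_two h2.symm
    (by rw [pow_one, ← map_pow, hx, map_one])
  obtain ⟨E', h3, h4, -⟩ := exists_frame₂ E (x := x) (y := x) ⟨g, hg, hg⟩
  exact ⟨E', h3, h4⟩

/-- `α u` and `β v` are toral together -/
theorem tp_ab (E : Frame hp p d g0 L) (C : Core τ α β R R') (h2 : p ≠ 2) {u v : U} (hu : u ^ 2 = 1) (hv : v ^ 2 = 1) :
    Tp p (E.ι (α u)) (E.ι (β v)) := by
  obtain ⟨z, hz⟩ := DS.Nt.exists_conj_T hp (x := E.ι (α u)) (n := 1) Nat.prime_two h2.symm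
    (by rw [pow_one, ← map_pow, ← map_pow, hu, map_one, map_one])
  obtain ⟨g, h3, h4⟩ := tor_perf hp h2 (Z := {E.ι (α u)}) (Set.toFinite _) (z := z) (by
    rintro _ rfl
    exact ⟨hz, by rw [← map_pow, ← map_pow, hu, map_one, map_one]⟩) (map_perfect C.pair'.perfect E.ι) (by
    rintro _ ⟨r, hr, rfl⟩ _ rfl
    rw [← map_mul, ← map_mul, C.pair'.comm u r hr]) (x := E.ι (β v)) ⟨_, C.bmem v, rfl⟩
    (by rw [← map_pow, ← map_pow, hv, map_one, map_one])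
  exact ⟨g, h3 _ rfl, h4⟩

end frame

end Cfsg.Agent.Cam.Odd
end

-- part: Cam/Odd/One_mg
section
prune_inst 0x1000400022000000000000100000000400000000000000000000000000060000000000002000000000000000300000000000000000000000000000000400000000000200000000000000000080000000000000000000000000000000000000000000000
set_option linter.all false
open scoped Cfsg.Agent.FastGrp

-- part: Cam/Odd/LowA
section
/-!
# S3689, S3690, exceptional rows: involutions, the abstract argument (helper70)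

`p` is odd.  An involution of `L` has type one if the root system of its centralizer has a component `A₁`.  The type is a
quadratic form on the involutions of a torus (`QD`); it is additive on the commuting involutions of `τ U` and of `α U`
(`K3`), and the `Z*`-theorem gives a totally singular three-dimensional subspace.
-/

set_option autoImplicit false
set_option linter.unusedVariables false
set_option linter.unusedSectionVars false

namespace Cfsg.Agent.Cam.Odd.Low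

open CoxeterSystem Cfsg Cfsg.Lie Subgroup
open Cfsg.Agent.ChevalleyStructure.CoxeterGeom Cfsg.Agent.ChevalleyStructure.CoxeterGeomTypes
open Cfsg.Agent.Tits.Roots Cfsg.Agent.Nodes.BNOf Cfsg.Agent.Nodes.RGDChev Cfsg.Agent.Nodes.Coroot
open Cfsg.Agent.KFacts.RgdChevCoord Cfsg.Agent.BpExc.TorCent Cfsg.Agent.BpExc.LangFr Cfsg.Agent.BpExc.SubBN
open Cfsg.Agent.Cam.Spor Cfsg.Agent.Cam.Ex Cfsg.Agent.Cam.Ex.S2
open Cfsg.Agent.DS.Nt (RP DZ)
open scoped commutatorElement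

section zstar

variable {G : Type} [Group G] [Finite G]

/-- an involution of a non-abelian simple group commutes with another conjugate -/
theorem exists_commuting (hs : IsSimpleGroup G) (hG : ¬ IsMulCommutative G) {z : G} (hz : z * z = 1) (h1 : z ≠ 1) :
    ∃ g : G, g * z * g⁻¹ ≠ z ∧ z * (g * z * g⁻¹) = (g * z * g⁻¹) * z := by
  have : Fact (Nat.Prime 2) := ⟨Nat.prime_two⟩
  have hz2 : orderOf z = 2 := orderOf_eq_prime (by rw [pow_two, hz]) h1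
  by_contra hcon
  push Not at hcon
  have hiso : Cfsg.IsIsolatedInvolution z := ⟨hz2, fun g hg => by
    by_contra hne
    exact hcon g hne hg.eq⟩
  have hp : IsPGroup 2 (zpowers z) := IsPGroup.of_card (n := 1) (by rw [Nat.card_zpowers, hz2, pow_one])
  obtain ⟨P, hP⟩ := hp.exists_le_sylow
  have htP : z ∈ P := hP (mem_zpowers z)
  obtain ⟨N, hN, hodd, hcomm⟩ := Cfsg.Agent.S0215.result P z hz2 htP
    (fun g hg => Cfsg.Agent.S1180.eq_of_conj_mem_isPGroup z hiso (P : Subgroup G) P.2 htP g hg)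
  rcases hN.eq_bot_or_eq_top with h | h
  · have htc : z ∈ center G := by
      rw [mem_center_iff]
      intro g
      have := hcomm g
      rw [h, mem_bot, mul_inv_eq_one, mul_inv_eq_iff_eq_mul] at this
      exact this.symm
    rcases (inferInstance : (center G).Normal).eq_bot_or_eq_top with hc | hc
    · rw [hc, mem_bot] at htc
      exact h1 htc
    · exact hG ⟨⟨fun a b => mem_center_iff.1 (by rw [hc]; exact mem_top b) a⟩⟩
  · rw [h, card_top] at hodd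
    exact (Nat.not_even_iff_odd.2 hodd) (even_iff_two_dvd.2 (hz2 ▸ _root_.orderOf_dvd_natCard z))

theorem exists_inv (hs : IsSimpleGroup G) (hG : ¬ IsMulCommutative G) : ∃ z : G, z * z = 1 ∧ z ≠ 1 := by
  have : Fact (Nat.Prime 2) := ⟨Nat.prime_two⟩
  have h1 : 2 ∣ Nat.card G := by
    by_contra h
    have h2 := Cfsg.Agent.S0205.result (G := G) (Nat.not_even_iff_odd.1 fun h3 => h (even_iff_two_dvd.1 h3))
    exact hG ⟨⟨IsSimpleGroup.comm_iff_isSolvable.2 h2⟩⟩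
  obtain ⟨z, hz⟩ := exists_prime_orderOf_dvd_card' 2 h1
  refine ⟨z, by rw [← pow_two, ← hz, pow_orderOf_eq_one], ?_⟩
  rintro rfl
  rw [orderOf_one] at hz
  omega

theorem conj_sq {z : G} (hz : z * z = 1) (g : G) : g * z * g⁻¹ * (g * z * g⁻¹) = 1 := by
  calc g * z * g⁻¹ * (g * z * g⁻¹) = g * (z * z) * g⁻¹ := by group
    _ = 1 := by rw [hz, mul_one, mul_inv_cancel]

theorem mul_sq {a b : G} (ha : a * a = 1) (hb : b * b = 1) (h : a * b = b * a) : a * b * (a * b) = 1 := by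
  calc a * b * (a * b) = a * (b * a) * b := by group
    _ = 1 := by rw [← h, ← mul_assoc, ha, one_mul, hb]

theorem mul_ne {a b : G} (ha : a * a = 1) (h : b ≠ a) : a * b ≠ 1 := fun e =>
  h (mul_left_cancel (e.trans ha.symm))

end zstar

variable {D : ChevalleyDatum} {l : ℕ} {M : CoxeterMatrix (Fin l)} {hp : IsType D l M} {p : ℕ} [Fact p.Prime]

/-- the core of `P8` for an `A₁`-component of the centralizer of an involution -/
def OneA : Prop := ∀ (D : ChevalleyDatum) (l : ℕ) (M : CoxeterMatrix (Fin l)) (hp : IsType D l M), l ≤ 7 → D ≠ chevB2 →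
  ∀ (p : ℕ) [Fact p.Prime] (d : ℕ) (g0 : Lat l ≃+ Lat l) (L : Type) [Group L] [Finite L] (E : Frame hp p d g0 L)
    (U : Type) [Group U] [Finite U] (τ α β : U →* L) (R R' : Subgroup L), Core τ α β R R' → p ≠ 2 → 5 ≤ E.q →
    ∀ (u : U) (φ : Lat l →+ ZMod 2), Chi hp (-1) (E.ι (τ u)) φ → ∀ c, A1c hp (Psi hp φ) c →
    (E.g c = c ∨ E.g c = -c) → ¬ Cen E R {c, -c}

theorem prim2 (hp2 : p ≠ 2) : IsPrimitiveRoot (-1 : kb p) 2 := IsPrimitiveRoot.neg_one p hp2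

theorem z2 (x : ZMod 2) : x = 0 ∨ x = 1 := by revert x; decide

/-- `S` has a component `A₁` -/
def Rho (hp : IsType D l M) (S : Set (Lat l)) : Prop := ∃ c, A1c hp S c

theorem rho_conj {s y : YY D p} (hs : s ∈ TT D (kb p)) (hy : y * s * y⁻¹ ∈ TT D (kb p)) (h : Rho hp (PsiS hp {s})) :
    Rho hp (PsiS hp {y * s * y⁻¹}) := by
  obtain ⟨w, hw⟩ := exists_weyl (hp := hp) boxChi y
  have key : ∀ a, Rt hp a → (wa hp w a ∈ PsiS hp {y * s * y⁻¹} ↔ a ∈ PsiS hp {s}) := fun a ha => by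
    constructor
    · rintro ⟨-, h1⟩
      refine ⟨ha, ?_⟩
      rintro _ rfl
      rw [← hw _ hs hy a ha]
      exact h1 _ rfl
    · rintro ⟨-, h1⟩
      refine ⟨ha.wa' w, ?_⟩
      rintro _ rfl
      rw [hw s hs hy a ha]
      exact h1 _ rfl
  obtain ⟨c, hc, hc'⟩ := h
  refine ⟨wa hp w c, (key c hc.1).2 hc, fun a ha => ?_⟩
  have h1 : Rt hp (wa hp w⁻¹ a) := ha.1.wa' _
  rcases hc' _ ((key _ h1).1 (by rwa [wa_wa_inv])) with h2 | h2 | h2
  · left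
    rw [← h2, wa_wa_inv]
  · right; left
    rw [← wa_neg, ← h2, wa_wa_inv]
  · right; right
    rw [← cp_wa w _ hc.1, wa_wa_inv] at h2
    exact h2

open Classical in
/-- the type of an element -/
noncomputable def lam (hp : IsType D l M) (y : YY D p) : ZMod 2 :=
  if ∃ g : YY D p, g * y * g⁻¹ ∈ TT D (kb p) ∧ Rho hp (PsiS hp {g * y * g⁻¹}) then 1 else 0

theorem lam_conj (z y : YY D p) : lam hp (z * y * z⁻¹) = lam hp y := by
  classical
  unfold lam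
  refine if_congr ⟨?_, ?_⟩ rfl rfl
  · rintro ⟨g, h⟩
    refine ⟨g * z, ?_⟩
    rwa [show g * z * y * (g * z)⁻¹ = g * (z * y * z⁻¹) * g⁻¹ by group]
  · rintro ⟨g, h⟩
    refine ⟨g * z⁻¹, ?_⟩
    rwa [show g * z⁻¹ * (z * y * z⁻¹) * (g * z⁻¹)⁻¹ = g * y * g⁻¹ by group]

theorem lam_eq_one {t : YY D p} (ht : t ∈ TT D (kb p)) : lam hp t = 1 ↔ Rho hp (PsiS hp {t}) := by
  unfold lam
  split_ifs with h
  · refine iff_of_true rfl ?_
    obtain ⟨g, h1, h2⟩ := h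
    have e : g⁻¹ * (g * t * g⁻¹) * g⁻¹⁻¹ = t := by group
    have h3 := rho_conj (y := g⁻¹) h1 (by rwa [e]) h2
    rwa [e] at h3
  · refine iff_of_false zero_ne_one fun h1 => h ⟨1, ?_⟩
    rw [inv_one, one_mul, mul_one]
    exact ⟨ht, h1⟩

/-- the type is a quadratic form of Witt index at most two on the admissible characters -/
structure QD (hp : IsType D l M) (S : (Lat l →+ ZMod 2) → Prop) (Q : (Lat l →+ ZMod 2) → ZMod 2) : Prop where
  rho : ∀ φ, S φ → (Q φ = 1 ↔ Rho hp (Psi hp φ))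
  tri : ∀ φ ψ χ, Q (φ + ψ + χ) + Q (φ + ψ) + Q (φ + χ) + Q (ψ + χ) + Q φ + Q ψ + Q χ = 0
  k3 : ∀ φ ψ, S φ → S ψ → ∀ c, A1c hp (Psi hp φ) c → ψ c = 0 → Q (φ + ψ) = Q φ + Q ψ
  witt : ∀ φ ψ χ, S φ → S ψ → S χ → Q φ = 0 → Q ψ = 0 → Q (φ + ψ) = 0 → Q χ = 0 → Q (φ + χ) = 0 → Q (ψ + χ) = 0 →
    Q (φ + ψ + χ) = 0 → φ = 0 ∨ ψ = 0 ∨ φ + ψ = 0 ∨ χ = 0 ∨ φ + χ = 0 ∨ ψ + χ = 0 ∨ φ + ψ + χ = 0

theorem QD.lam {S : (Lat l →+ ZMod 2) → Prop} {Q : (Lat l →+ ZMod 2) → ZMod 2} (qd : QD hp S Q) (hp2 : p ≠ 2)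
    {t : YY D p} {φ : Lat l →+ ZMod 2} (h : Chi hp (-1) t φ) (hS : S φ) : lam hp t = Q φ := by
  have h1 := lam_eq_one (hp := hp) h.1
  rw [h.psiS (prim2 hp2), ← qd.rho φ hS] at h1
  rcases z2 (Low.lam hp t) with h2 | h2 <;> rcases z2 (Q φ) with h3 | h3
  · rw [h2, h3]
  · exact h1.2 h3 ▸ h3.symm
  · exact h1.1 h2 ▸ h2
  · rw [h2, h3]

variable {d : ℕ} {g0 : Lat l ≃+ Lat l} {L : Type} [Group L]

theorem cj_trans {E E' E'' : Frame hp p d g0 L} (h : E.Cj E') (h' : E'.Cj E'') : E.Cj E'' := by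
  obtain ⟨e, z, hz⟩ := h
  obtain ⟨e', z', hz'⟩ := h'
  exact ⟨e'.trans e, z * z', fun x => by rw [hz', hz]; group⟩

theorem cj_q {E E' : Frame hp p d g0 L} (h : E.Cj E') : E'.q = E.q := by
  unfold Frame.q
  rw [h.1]

theorem cj_lam {E E' : Frame hp p d g0 L} (h : E.Cj E') (x : L) : lam hp (E'.ι x) = lam hp (E.ι x) := by
  obtain ⟨-, z, hz⟩ := h
  rw [hz, ← lam_conj z⁻¹ (E.ι x), inv_inv]

theorem lam_conj' (E : Frame hp p d g0 L) (z x : L) : lam hp (E.ι (z * x * z⁻¹)) = lam hp (E.ι x) := by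
  rw [map_mul, map_mul, map_inv, lam_conj]

/-- the centralizer of `x` in `L` lies in the connected centralizer -/
def Conn (E : Frame hp p d g0 L) (x : L) : Prop := ∀ y : L, y * x = x * y → E.ι y ∈ DZ hp p {E.ι x}

theorem sq_ι (E : Frame hp p d g0 L) {x : L} (hx : x * x = 1) : E.ι x ^ 2 = 1 := by
  rw [← map_pow, pow_two, hx, map_one]

theorem exists_one (hp2 : p ≠ 2) (E : Frame hp p d g0 L) {x : L} (hx : x * x = 1) :
    ∃ E' : Frame hp p d g0 L, E.Cj E' ∧ E'.ι x ∈ TT D (kb p) := by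
  obtain ⟨g, hg⟩ := DS.Nt.exists_conj_T hp (x := E.ι x) Nat.prime_two hp2.symm (n := 1) (by rw [pow_one, sq_ι E hx])
  obtain ⟨E', h1, h2⟩ := E.exists_cj (Set.finite_singleton x) (g := g) (by rintro _ rfl; exact hg)
  exact ⟨E', h1, by rw [h2 x rfl]; exact hg⟩

/-- one more toral involution -/
theorem exists_step (hp2 : p ≠ 2) (E : Frame hp p d g0 L) {Z : Set L} (hfin : Z.Finite)
    (hZ : ∀ x ∈ Z, E.ι x ∈ TT D (kb p) ∧ x * x = 1) {y : L} (hy : E.ι y ∈ DZ hp p (E.ι '' Z)) (hy2 : y * y = 1) :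
    ∃ E' : Frame hp p d g0 L, E.Cj E' ∧ E'.ι y ∈ TT D (kb p) ∧ ∀ x ∈ Z, E'.ι x ∈ TT D (kb p) := by
  have hT : E.ι '' Z ⊆ TT D (kb p) := by
    rintro _ ⟨x, hx, rfl⟩
    exact (hZ x hx).1
  have h2 : IsPGroup 2 (closure (insert (E.ι y) (E.ι '' Z))) := by
    refine DS.Nt.isPGroup_of_comm ?_ ?_
    · rintro a (rfl | ha) b (rfl | hb)
      · rfl
      · exact DS.Nt.DZ_comm hT hy hb
      · exact (DS.Nt.DZ_comm hT hy ha).symm
      · exact T_comm hp (hT ha) (hT hb)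
    · rintro a (rfl | ⟨x, hx, rfl⟩)
      · exact ⟨1, by rw [pow_one, sq_ι E hy2]⟩
      · exact ⟨1, by rw [pow_one, sq_ι E (hZ x hx).2]⟩
  obtain ⟨g, hg⟩ := DS.Nt.toral_step (n := 1) Nat.prime_two hp2.symm (hfin.image E.ι) hT hy
    (by rw [pow_one, sq_ι E hy2]) h2 le_rfl
  have h3 : ∀ x ∈ insert y Z, g * E.ι x * g⁻¹ ∈ TT D (kb p) := by
    rintro x (rfl | hx)
    · exact hg _ (_root_.Subgroup.subset_closure (Set.mem_insert _ _))
    · exact hg _ (_root_.Subgroup.subset_closure (Set.mem_insert_of_mem _ ⟨x, hx, rfl⟩))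
  obtain ⟨E', h1, h4⟩ := E.exists_cj (hfin.insert y) h3
  refine ⟨E', h1, ?_, fun x hx => ?_⟩
  · rw [h4 y (Set.mem_insert _ _)]
    exact h3 y (Set.mem_insert _ _)
  · rw [h4 x (Set.mem_insert_of_mem _ hx)]
    exact h3 x (Set.mem_insert_of_mem _ hx)

/-- all toral involutions have connected centralizers -/
def ConnAll (hp : IsType D l M) (p : ℕ) [Fact p.Prime] (d : ℕ) (g0 : Lat l ≃+ Lat l) (L : Type) [Group L] : Prop :=
  ∀ (E : Frame hp p d g0 L) (x : L), x * x = 1 → E.ι x ∈ TT D (kb p) → Conn E x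

theorem exists_two (hp2 : p ≠ 2) (E : Frame hp p d g0 L) {x y : L} (hx : x * x = 1) (hy : y * y = 1)
    (hxy : x * y = y * x) (hc : ∀ E' : Frame hp p d g0 L, E.Cj E' → E'.ι x ∈ TT D (kb p) → Conn E' x) :
    ∃ E' : Frame hp p d g0 L, E.Cj E' ∧ E'.ι x ∈ TT D (kb p) ∧ E'.ι y ∈ TT D (kb p) := by
  obtain ⟨E₁, h1, h2⟩ := exists_one hp2 E hx
  obtain ⟨E₂, h3, h4, h5⟩ := exists_step hp2 E₁ (Set.finite_singleton x) (by rintro _ rfl; exact ⟨h2, hx⟩) (y := y)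
    (by rw [Set.image_singleton]; exact hc E₁ h1 h2 y hxy.symm) hy
  exact ⟨E₂, cj_trans h1 h3, h5 x rfl, h4⟩

/-- a toral pair and an involution of a perfect group centralizing the pair -/
theorem exists_three (hp2 : p ≠ 2) (E : Frame hp p d g0 L) {x y z : L} (hx : x * x = 1) (hy : y * y = 1)
    (hz : z * z = 1) (hx' : E.ι x ∈ TT D (kb p)) (hy' : E.ι y ∈ TT D (kb p)) {J : Subgroup L} (hJ : ⁅J, J⁆ = J)
    (hzJ : z ∈ J) (hxJ : ∀ j ∈ J, x * j = j * x) (hyJ : ∀ j ∈ J, y * j = j * y) :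
    ∃ E' : Frame hp p d g0 L, E.Cj E' ∧ E'.ι x ∈ TT D (kb p) ∧ E'.ι y ∈ TT D (kb p) ∧ E'.ι z ∈ TT D (kb p) := by
  have hZ : ∀ a ∈ ({x, y} : Set L), E.ι a ∈ TT D (kb p) ∧ a * a = 1 := by
    rintro a (rfl | rfl)
    · exact ⟨hx', hx⟩
    · exact ⟨hy', hy⟩
  have h1 := E.perf_le (Q := E.ι '' {x, y}) Nat.prime_two
    (by rintro _ ⟨a, ha, rfl⟩; exact ⟨(hZ a ha).1, sq_ι E (hZ a ha).2⟩) hJ (by
      rintro _ ⟨a, rfl | rfl, rfl⟩ j hj
      · rw [← map_mul, hxJ j hj, map_mul]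
      · rw [← map_mul, hyJ j hj, map_mul]) (mem_map_of_mem _ hzJ)
  obtain ⟨E', h2, h3, h4⟩ := exists_step hp2 E (Set.toFinite {x, y}) hZ (DS.Nt.Mz_le_DZ h1) hz
  exact ⟨E', h2, h4 x (Or.inl rfl), h4 y (Or.inr rfl), h3⟩

theorem exists_chi (hp2 : p ≠ 2) (E : Frame hp p d g0 L) {x : L} (hx : x * x = 1) (h : E.ι x ∈ TT D (kb p)) :
    ∃ φ : Lat l →+ ZMod 2, Chi hp (-1) (E.ι x) φ := chi_ex hp (prim2 hp2) two_pos h (sq_ι E hx)

theorem chi_mul (hp2 : p ≠ 2) {E : Frame hp p d g0 L} {x y : L} {φ ψ : Lat l →+ ZMod 2} (h : Chi hp (-1) (E.ι x) φ)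
    (h' : Chi hp (-1) (E.ι y) ψ) : Chi hp (-1) (E.ι (x * y)) (φ + ψ) := by
  rw [map_mul]
  exact h.mul (prim2 hp2) h'

theorem chi_zero (hp2 : p ≠ 2) {E : Frame hp p d g0 L} {x : L} {φ : Lat l →+ ZMod 2} (h : Chi hp (-1) (E.ι x) φ)
    (h0 : φ = 0) : x = 1 := by
  by_contra h1
  exact h.ne_zero (prim2 hp2) boxChi (fun h2 => h1 (E.inj (by rw [h2, map_one]))) h0

variable [Finite L] {U : Type} [Group U] [Finite U] {τ α β : U →* L} {R R' : Subgroup L}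

/-- **`K3` for involutions**: a toral element of `T` commuting with the toral involution `τ u` centralizes the
`A₁`-components -/
theorem k3_tau (one : OneA) (hl : l ≤ 7) (hB2 : D ≠ chevB2) (hp2 : p ≠ 2) (E : Frame hp p d g0 L) (hq : 5 ≤ E.q)
    (co : Core τ α β R R') {u v : U} (hu : u * u = 1) (hu' : E.ι (τ u) ∈ TT D (kb p)) (hv : E.ι (τ v) ∈ TT D (kb p))
    {c : Lat l} (hc : A1c hp (PsiS hp {E.ι (τ u)}) c) (hg : E.g c = c ∨ E.g c = -c) : ch hp c (E.ι (τ v)) = 1 := by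
  have hτ : τ u * τ u = 1 := by rw [← map_mul, hu, map_one]
  obtain ⟨φ, hφ⟩ := exists_chi hp2 E hτ hu'
  have h1 : R.map E.ι ≤ MS D l p (PsiS hp {E.ι (τ u)}) := by
    refine E.perf_le Nat.prime_two ?_ co.pair.perfect ?_
    · rintro _ rfl
      exact ⟨hu', sq_ι E hτ⟩
    · rintro _ rfl y hy
      rw [← map_mul, co.pair.comm u y hy, map_mul]
  rw [hφ.psiS (prim2 hp2)] at hc h1
  have hcen := one D l M hp hl hB2 p d g0 L E U τ α β R R' co hp2 hq u φ hφ c hc hg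
  have hS := spl_psi (p := p) hc.1.1 hc
  obtain ⟨a, -, -, ha⟩ := inn_T hc.1.1 hv
  refine (cz_T hc.1.1 hv).1 ((sl_ck hc.1.1).cz_of_perfect (map_perf _ co.pair.perfect) (fun y hy => hS.inn _ (h1 hy))
    (fun h => hcen ((cen_iff E hc.1.1).2 h)) ha ?_)
  rintro _ ⟨y, hy, rfl⟩
  rw [← map_mul, co.pair.comm v y hy, map_mul]

/-- `K3` for the homomorphism `f` in all frames -/
def K3P (hp : IsType D l M) (p : ℕ) [Fact p.Prime] (d : ℕ) (g0 : Lat l ≃+ Lat l) (f : U →* L) : Prop :=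
  ∀ E : Frame hp p d g0 L, 5 ≤ E.q → ∀ u v : U, u * u = 1 → E.ι (f u) ∈ TT D (kb p) → E.ι (f v) ∈ TT D (kb p) →
    ∀ c, A1c hp (PsiS hp {E.ι (f u)}) c → (E.g c = c ∨ E.g c = -c) → ch hp c (E.ι (f v)) = 1

theorem k3p_tau (one : OneA) (hl : l ≤ 7) (hB2 : D ≠ chevB2) (hp2 : p ≠ 2) (co : Core τ α β R R') : K3P hp p d g0 τ :=
  fun E hq u v hu hu' hv c hc hg => k3_tau one hl hB2 hp2 E hq co hu hu' hv hc hg

theorem k3p_alpha (one : OneA) (hl : l ≤ 7) (hB2 : D ≠ chevB2) (hp2 : p ≠ 2) (co : Core τ α β R R') :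
    K3P hp p d g0 α := by
  obtain ⟨θ, ψ, -, h⟩ := exists_cmp co
  intro E hq u v hu hu' hv c hc hg
  rw [← h] at hu' hv hc ⊢
  exact k3p_tau one hl hB2 hp2 (co.map θ) E hq (ψ u) (ψ v) (by rw [← map_mul, hu, map_one]) hu' hv c hc hg

variable {S : (Lat l →+ ZMod 2) → Prop} {Q : (Lat l →+ ZMod 2) → ZMod 2}

/-- the characters of the involutions of `L` are admissible, and some `A₁`-component is stable -/
def Adm (hp : IsType D l M) (p : ℕ) [Fact p.Prime] (d : ℕ) (g0 : Lat l ≃+ Lat l) (L : Type) [Group L]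
    (S : (Lat l →+ ZMod 2) → Prop) : Prop :=
  ∀ (E : Frame hp p d g0 L) (x : L) (φ : Lat l →+ ZMod 2), Chi hp (-1) (E.ι x) φ →
    S φ ∧ (Rho hp (Psi hp φ) → ∃ c, A1c hp (Psi hp φ) c ∧ (E.g c = c ∨ E.g c = -c))

theorem add_of_k3 (qd : QD hp S Q) (hp2 : p ≠ 2) (hS : Adm hp p d g0 L S) {f : U →* L}
    (k3 : K3P hp p d g0 f) (E : Frame hp p d g0 L) (hq : 5 ≤ E.q) {u v : U} (hu : u * u = 1)
    {φ ψ : Lat l →+ ZMod 2} (h : Chi hp (-1) (E.ι (f u)) φ) (h' : Chi hp (-1) (E.ι (f v)) ψ) (h1 : Q φ = 1) :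
    Q (φ + ψ) = Q φ + Q ψ := by
  obtain ⟨c, hc', hg⟩ := (hS E _ φ h).2 ((qd.rho φ (hS E _ φ h).1).1 h1)
  refine qd.k3 φ ψ (hS E _ φ h).1 (hS E _ ψ h').1 c hc' ?_
  have h2 := k3 E hq u v hu h.1 h'.1 c (by rwa [h.psiS (prim2 hp2)]) hg
  rw [h'.2 c hc'.1.1] at h2
  exact (zeta_eq_one (prim2 hp2)).1 h2

/-- **The type is additive** on commuting involutions -/
theorem lam_mul (qd : QD hp S Q) (hp2 : p ≠ 2) (hS : Adm hp p d g0 L S) (hc : ConnAll hp p d g0 L) {f : U →* L}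
    (k3 : K3P hp p d g0 f) (E : Frame hp p d g0 L) (hq : 5 ≤ E.q) {u v : U} (hu : u * u = 1) (hv : v * v = 1)
    (huv : u * v = v * u) : lam hp (E.ι (f u * f v)) = lam hp (E.ι (f u)) + lam hp (E.ι (f v)) := by
  have hu' : f u * f u = 1 := by rw [← map_mul, hu, map_one]
  have hv' : f v * f v = 1 := by rw [← map_mul, hv, map_one]
  obtain ⟨E', h1, h2, h3⟩ := exists_two hp2 E hu' hv' (by rw [← map_mul, huv, map_mul]) fun E' _ h => hc E' _ hu' h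
  obtain ⟨φ, hφ⟩ := exists_chi hp2 E' hu' h2
  obtain ⟨ψ, hψ⟩ := exists_chi hp2 E' hv' h3
  have hq' : 5 ≤ E'.q := by rwa [cj_q h1]
  have h4 := chi_mul hp2 hφ hψ
  rw [← cj_lam h1, ← cj_lam h1, ← cj_lam h1, qd.lam hp2 hφ (hS E' _ _ hφ).1, qd.lam hp2 hψ (hS E' _ _ hψ).1,
    qd.lam hp2 h4 (hS E' _ _ h4).1]
  rcases z2 (Q φ) with h5 | h5
  · rcases z2 (Q ψ) with h6 | h6
    · rcases z2 (Q (φ + ψ)) with h7 | h7
      · rw [h5, h6, h7, add_zero]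
      · rw [← map_mul f] at h4
        have h8 := add_of_k3 qd hp2 hS k3 E' hq' (mul_sq hu hv huv) h4 hψ h7
        have h9 : φ + ψ + ψ = φ := by
          refine AddMonoidHom.ext fun a => ?_
          rw [AddMonoidHom.add_apply, AddMonoidHom.add_apply, add_assoc, CharTwo.add_self_eq_zero, add_zero]
        rw [h9, h5, h6, h7] at h8
        exact absurd h8 (by decide)
    · rw [add_comm φ, add_comm (Q φ)]
      exact add_of_k3 qd hp2 hS k3 E' hq' hv hψ hφ h6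
  · exact add_of_k3 qd hp2 hS k3 E' hq' hu hφ hψ h5

/-- toral triples -/
theorem triple (qd : QD hp S Q) (hp2 : p ≠ 2) (hS : Adm hp p d g0 L S) (hc : ConnAll hp p d g0 L)
    (E : Frame hp p d g0 L) {x y z : L} (hx : x * x = 1) (hy : y * y = 1) (hz : z * z = 1) (hxy : x * y = y * x)
    {J : Subgroup L} (hJ : ⁅J, J⁆ = J) (hzJ : z ∈ J) (hxJ : ∀ j ∈ J, x * j = j * x) (hyJ : ∀ j ∈ J, y * j = j * y) :
    lam hp (E.ι (x * y * z)) + lam hp (E.ι (x * y)) + lam hp (E.ι (x * z)) + lam hp (E.ι (y * z)) + lam hp (E.ι x) +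
      lam hp (E.ι y) + lam hp (E.ι z) = 0 ∧
    (lam hp (E.ι x) = 0 → lam hp (E.ι y) = 0 → lam hp (E.ι (x * y)) = 0 → lam hp (E.ι z) = 0 →
      lam hp (E.ι (x * z)) = 0 → lam hp (E.ι (y * z)) = 0 → lam hp (E.ι (x * y * z)) = 0 →
      x = 1 ∨ y = 1 ∨ x * y = 1 ∨ z = 1 ∨ x * z = 1 ∨ y * z = 1 ∨ x * y * z = 1) := by
  obtain ⟨E₁, h1, h2, h3⟩ := exists_two hp2 E hx hy hxy fun E' _ h => hc E' _ hx h
  obtain ⟨E₂, h4, h5, h6, h7⟩ := exists_three hp2 E₁ hx hy hz h2 h3 hJ hzJ hxJ hyJ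
  have h8 := cj_trans h1 h4
  obtain ⟨φ, hφ⟩ := exists_chi hp2 E₂ hx h5
  obtain ⟨ψ, hψ⟩ := exists_chi hp2 E₂ hy h6
  obtain ⟨χ, hχ⟩ := exists_chi hp2 E₂ hz h7
  have c1 := chi_mul hp2 hφ hψ
  have c2 := chi_mul hp2 hφ hχ
  have c3 := chi_mul hp2 hψ hχ
  have c4 := chi_mul hp2 c1 hχ
  simp only [← cj_lam h8]
  rw [qd.lam hp2 hφ (hS E₂ _ _ hφ).1, qd.lam hp2 hψ (hS E₂ _ _ hψ).1, qd.lam hp2 hχ (hS E₂ _ _ hχ).1,
    qd.lam hp2 c1 (hS E₂ _ _ c1).1, qd.lam hp2 c2 (hS E₂ _ _ c2).1, qd.lam hp2 c3 (hS E₂ _ _ c3).1,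
    qd.lam hp2 c4 (hS E₂ _ _ c4).1]
  refine ⟨qd.tri φ ψ χ, fun e1 e2 e3 e4 e5 e6 e7 => ?_⟩
  rcases qd.witt φ ψ χ (hS E₂ _ _ hφ).1 (hS E₂ _ _ hψ).1 (hS E₂ _ _ hχ).1 e1 e2 e3 e4 e5 e6 e7 with
    h | h | h | h | h | h | h
  · exact Or.inl (chi_zero hp2 hφ h)
  · exact Or.inr (Or.inl (chi_zero hp2 hψ h))
  · exact Or.inr (Or.inr (Or.inl (chi_zero hp2 c1 h)))
  · exact Or.inr (Or.inr (Or.inr (Or.inl (chi_zero hp2 hχ h))))
  · exact Or.inr (Or.inr (Or.inr (Or.inr (Or.inl (chi_zero hp2 c2 h)))))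
  · exact Or.inr (Or.inr (Or.inr (Or.inr (Or.inr (Or.inl (chi_zero hp2 c3 h))))))
  · exact Or.inr (Or.inr (Or.inr (Or.inr (Or.inr (Or.inr (chi_zero hp2 c4 h))))))

theorem ab_eq_one (co : Core τ α β R R') {x y : U} (h : α x * β y = 1) : y = 1 := by
  have h1 : α x = β y⁻¹ := by rw [map_inv, eq_inv_iff_mul_eq_one, h]
  have h2 : x = 1 := co.pair'.eq_one_of_mem co.simple co.noncomm (h1 ▸ co.bmem _)
  rw [h2, map_one, one_mul] at h
  exact co.binj (by rw [h, map_one])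

/-- **The abstract argument.** -/
theorem noCore_of (one : OneA) (hl : l ≤ 7) (hB2 : D ≠ chevB2) (qd : QD hp S Q) (hp2 : p ≠ 2) (hS : Adm hp p d g0 L S)
    (hc : ConnAll hp p d g0 L) (E : Frame hp p d g0 L) (hq : 5 ≤ E.q) : NoCore L := by
  intro U _ _ τ α β R R' co
  have kt := fun {u v : U} => lam_mul qd hp2 hS hc (k3p_tau one hl hB2 hp2 co) E hq (u := u) (v := v)
  have ka := fun {u v : U} => lam_mul qd hp2 hS hc (k3p_alpha one hl hB2 hp2 co) E hq (u := u) (v := v)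
  have cj : ∀ (f : U →* L) (g u : U), lam hp (E.ι (f (g * u * g⁻¹))) = lam hp (E.ι (f u)) := fun f g u => by
    rw [map_mul f, map_mul f, map_inv f, lam_conj']
  obtain ⟨e, he, he1⟩ := exists_inv co.simple co.noncomm
  obtain ⟨g, hg1, hg2⟩ := exists_commuting co.simple co.noncomm he he1
  have hx := mul_sq he (conj_sq he g) hg2
  have hx1 := mul_ne he hg1
  have tx := kt he (conj_sq he g) hg2
  have ax := ka he (conj_sq he g) hg2
  rw [cj, CharTwo.add_self_eq_zero, ← map_mul] at tx ax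
  generalize e * (g * e * g⁻¹) = x at hx hx1 tx ax
  obtain ⟨k, hk1, hk2⟩ := exists_commuting co.simple co.noncomm hx hx1
  have hy := conj_sq hx k
  have ty := (cj τ k x).trans tx
  have ay := (cj α k x).trans ax
  have by' := cj β k x
  have e1 : ∀ b : U, lam hp (E.ι (α (k * x * k⁻¹) * β b)) = lam hp (E.ι (α x * β b)) := fun b => by
    rw [← lam_conj' E (α k) (α x * β b), map_mul α, map_mul α, map_inv α, mul_assoc (α k * α x), ← map_inv α, co.ab,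
      map_inv α]
    congr 2
    group
  have e2 : lam hp (E.ι (β (k * x * k⁻¹) * α x)) = lam hp (E.ι (β x * α x)) := by
    rw [← lam_conj' E (β k) (β x * α x), map_mul β, map_mul β, map_inv β, mul_assoc (β k * β x), ← map_inv β, ← co.ab,
      map_inv β]
    congr 2
    group
  have hy1 : k * x * k⁻¹ ≠ 1 := fun h => hx1 (by rwa [conj_eq_one_iff] at h)
  generalize k * x * k⁻¹ = y at hk1 hk2 hy ty ay by' e1 e2 hy1
  have hz := mul_sq hx hy hk2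
  have hz1 := mul_ne hx hk1
  have tz := kt hx hy hk2
  have az := ka hx hy hk2
  rw [tx, ty, add_zero, ← map_mul, co.eq, map_mul α] at tz
  rw [ax, ay, add_zero] at az
  have sq : ∀ (f : U →* L) {u : U}, u * u = 1 → f u * f u = 1 := fun f u hu => by rw [← map_mul, hu, map_one]
  obtain ⟨t1, t2⟩ := triple qd hp2 hS hc E (sq α hx) (sq α hy) (sq β hz) (by rw [← map_mul, hk2, map_mul])
    (range_perfect co.simple co.noncomm β) ⟨_, rfl⟩ (by rintro _ ⟨j, rfl⟩; exact co.ab _ j)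
    (by rintro _ ⟨j, rfl⟩; exact co.ab _ j)
  obtain ⟨t3, -⟩ := triple qd hp2 hS hc E (sq β hx) (sq β hy) (sq α hx) (by rw [← map_mul, hk2, map_mul])
    (range_perfect co.simple co.noncomm α) ⟨_, rfl⟩ (by rintro _ ⟨j, rfl⟩; exact (co.ab j _).symm)
    (by rintro _ ⟨j, rfl⟩; exact (co.ab j _).symm)
  rw [tz, az, e1, ax, ay, zero_add, zero_add, CharTwo.add_self_eq_zero, zero_add, zero_add, zero_add] at t1
  rw [e2, by', ← map_mul β, t1, ← co.ab x x, ← co.eq, tx, ax, add_zero, add_zero, add_zero, add_zero, add_assoc,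
    CharTwo.add_self_eq_zero, add_zero, ← co.ab] at t3
  rcases t2 ax ay az t1 t3 ((e1 _).trans t3) tz with h | h | h | h | h | h | h
  · exact hx1 (co.pair'.inj (by rw [h, map_one]))
  · exact hy1 (co.pair'.inj (by rw [h, map_one]))
  · exact hz1 (co.pair'.inj (by rw [map_mul, h, map_one]))
  · exact hz1 (co.binj (by rw [h, map_one]))
  · exact hz1 (ab_eq_one co h)
  · exact hz1 (ab_eq_one co h)
  · exact hz1 (ab_eq_one co (by rwa [← map_mul] at h))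

end Cfsg.Agent.Cam.Odd.Low
end

-- part: Cam/Odd/LowB
section
/-!
# S3689, S3690, exceptional rows: involutions, the quadratic forms (helper70)
-/

set_option autoImplicit false
set_option linter.unusedVariables false
set_option linter.unusedSectionVars false
set_option maxRecDepth 100000
set_option synthInstance.maxSize 4096

namespace Cfsg.Agent.Cam.Odd.Low

open CoxeterSystem Cfsg Cfsg.Lie
open Cfsg.Agent.ChevalleyStructure.CoxeterGeom Cfsg.Agent.ChevalleyStructure.CoxeterGeomTypes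
open Cfsg.Agent.Tits.Roots Cfsg.Agent.Nodes.RGDChev Cfsg.Agent.Nodes.Coroot
open Cfsg.Agent.Cam.Ex
open Cfsg.Agent.Cam.Ex.Cb (V gt dot toF Ent Dt Tab toF_inj psi_toF eq_sum dG2 dD4 dF4 dE6 tabG2 tabD4 tabF4 tabE6)

variable {D : ChevalleyDatum} {l : ℕ} {M : CoxeterMatrix (Fin l)} {hp : IsType D l M} {d : Dt}

/-- the value of a character on a list -/
noncomputable def ev (n : Fin l → ZMod 2) (x : V) : ZMod 2 := ∑ i : Fin l, ((gt x i : ℤ) : ZMod 2) * n i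

/-- the coordinates of a character -/
def co (φ : Lat l →+ ZMod 2) : Fin l → ZMod 2 := fun i => φ (sr i)

theorem ev_co (φ : Lat l →+ ZMod 2) (x : V) : ev (co φ) x = φ (toF l x) := (eq_sum φ (toF l x)).symm

theorem co_eq_zero {φ : Lat l →+ ZMod 2} (h : co φ = 0) : φ = 0 := by
  refine AddMonoidHom.ext fun a => ?_
  rw [eq_sum φ a]
  exact Finset.sum_eq_zero fun i _ => by rw [show φ (sr i) = 0 from congrFun h i, mul_zero]

/-- the check for an `A₁`-component -/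
def a1k (d : Dt) (n : Fin l → ZMod 2) (e : Ent) : Prop :=
  ev n e.b = 0 ∧ ∀ e' ∈ d.T, ev n e'.b = 0 → e'.b = e.b ∨ dot e'.b e.cv = 0

theorem psi_neg' {φ : Lat l →+ ZMod 2} {c : Lat l} (h : c ∈ Psi hp φ) : -c ∈ Psi hp φ :=
  ⟨h.1.neg', by rw [map_neg, h.2, neg_zero]⟩

theorem a1c_neg {φ : Lat l →+ ZMod 2} {c : Lat l} (h : A1c hp (Psi hp φ) c) : A1c hp (Psi hp φ) (-c) := by
  refine ⟨psi_neg' h.1, fun a ha => ?_⟩
  rcases h.2 a ha with h1 | h1 | h1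
  · exact Or.inr (Or.inl (by rw [neg_neg, h1]))
  · exact Or.inl h1
  · exact Or.inr (Or.inr (by rw [cp_neg_right _ h.1.1, h1, neg_zero]))

theorem psi_ex (hT : Tab hp d) {φ : Lat l →+ ZMod 2} {c : Lat l} (h : c ∈ Psi hp φ) :
    ∃ e ∈ d.T, ev (co φ) e.b = 0 ∧ (c = toF l e.b ∨ c = -toF l e.b) := by
  obtain ⟨e, he, h1⟩ := hT.sur c h.1
  refine ⟨e, he, ?_, h1⟩
  rw [ev_co]
  rcases h1 with h1 | h1
  · rw [← h1, h.2]
  · rw [← neg_eq_iff_eq_neg.2 h1, map_neg, h.2, neg_zero]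

theorem cp_toF (hT : Tab hp d) {e e' : Ent} (he : e ∈ d.T) (he' : e' ∈ d.T) :
    cp hp (toF l e'.b) (toF l e.b) = dot e'.b e.cv := by
  rw [hT.cpe e he, psi_toF (hT.lb e' he')]

theorem ne_neg_toF (hT : Tab hp d) {e e' : Ent} (he : e ∈ d.T) (he' : e' ∈ d.T) : toF l e'.b ≠ -toF l e.b := fun h =>
  (hT.rt e he).ne_zero' (le_antisymm (neg_nonneg.1 (h ▸ hT.pos e' he')) (hT.pos e he))

theorem a1c_iff (hT : Tab hp d) {φ : Lat l →+ ZMod 2} {e : Ent} (he : e ∈ d.T) :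
    A1c hp (Psi hp φ) (toF l e.b) ↔ a1k d (co φ) e := by
  constructor
  · intro h
    refine ⟨by rw [ev_co, h.1.2], fun e' he' h1 => ?_⟩
    rcases h.2 _ ⟨hT.rt e' he', by rwa [ev_co] at h1⟩ with h2 | h2 | h2
    · exact Or.inl (toF_inj (hT.lb e' he') (hT.lb e he) h2)
    · exact absurd h2 (ne_neg_toF hT he he')
    · exact Or.inr (by rwa [cp_toF hT he he'] at h2)
  · intro h
    refine ⟨⟨hT.rt e he, by rw [← ev_co, h.1]⟩, fun a ha => ?_⟩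
    obtain ⟨e', he', h1, h2⟩ := psi_ex hT ha
    rcases h.2 e' he' h1 with h3 | h3
    · rw [h3] at h2
      exact h2.imp_right Or.inl
    · right; right
      rcases h2 with rfl | rfl
      · rw [cp_toF hT he he', h3]
      · rw [cp_neg _ (hT.rt e he), cp_toF hT he he', h3, neg_zero]

theorem a1c_ex (hT : Tab hp d) {φ : Lat l →+ ZMod 2} {c : Lat l} (h : A1c hp (Psi hp φ) c) :
    ∃ e ∈ d.T, a1k d (co φ) e ∧ (c = toF l e.b ∨ c = -toF l e.b) := by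
  obtain ⟨e, he, -, h1⟩ := psi_ex hT h.1
  refine ⟨e, he, (a1c_iff hT he).1 ?_, h1⟩
  rcases h1 with h1 | h1
  · rwa [← h1]
  · rw [← neg_eq_iff_eq_neg.2 h1]
    exact a1c_neg h

theorem tri_of {X : Type} [AddCommGroup X] (B : X → X → ZMod 2) (h1 : ∀ x y z, B (x + y) z = B x z + B y z)
    (h2 : ∀ x y z, B x (y + z) = B x y + B x z) (x y z : X) :
    B (x + y + z) (x + y + z) + B (x + y) (x + y) + B (x + z) (x + z) + B (y + z) (y + z) + B x x + B y y + B z z = 0 := by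
  simp only [h1, h2]
  have h : (2 : ZMod 2) = 0 := rfl
  linear_combination (2 * B x x + 2 * B y y + 2 * B z z + B x y + B y x + B x z + B z x + B y z + B z y) * h

/-- the three finite checks -/
structure QK (d : Dt) (S : (Fin l → ZMod 2) → Prop) (B : (Fin l → ZMod 2) → (Fin l → ZMod 2) → ZMod 2) : Prop where
  b1 : ∀ x y z, B (x + y) z = B x z + B y z
  b2 : ∀ x y z, B x (y + z) = B x y + B x z
  rho : ∀ n, S n → (B n n = 1 ↔ ∃ e ∈ d.T, a1k d n e)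
  k3 : ∀ n, S n → ∀ e ∈ d.T, a1k d n e → ∀ m, S m → ev m e.b = 0 → B (n + m) (n + m) = B n n + B m m
  witt : ∀ x, S x → B x x = 0 → x = 0 ∨ ∀ y, S y → B y y = 0 → B (x + y) (x + y) = 0 → y = 0 ∨ x + y = 0 ∨
    ∀ z, S z → B z z = 0 → B (x + z) (x + z) = 0 → B (y + z) (y + z) = 0 → B (x + y + z) (x + y + z) = 0 →
      z = 0 ∨ x + z = 0 ∨ y + z = 0 ∨ x + y + z = 0

theorem QK.qd (hT : Tab hp d) {S : (Fin l → ZMod 2) → Prop} {B : (Fin l → ZMod 2) → (Fin l → ZMod 2) → ZMod 2}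
    (h : QK d S B) : QD hp (fun φ => S (co φ)) (fun φ => B (co φ) (co φ)) where
  rho φ hφ := by
    rw [h.rho _ hφ]
    constructor
    · rintro ⟨e, he, h1⟩
      exact ⟨_, (a1c_iff hT he).2 h1⟩
    · rintro ⟨c, hc⟩
      obtain ⟨e, he, h1, -⟩ := a1c_ex hT hc
      exact ⟨e, he, h1⟩
  tri φ ψ χ := tri_of B h.b1 h.b2 (co φ) (co ψ) (co χ)
  k3 φ ψ hφ hψ c hc h0 := by
    obtain ⟨e, he, h1, h2⟩ := a1c_ex hT hc
    refine h.k3 (co φ) hφ e he h1 (co ψ) hψ ?_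
    rw [ev_co]
    rcases h2 with h2 | h2
    · rw [← h2, h0]
    · rw [← neg_eq_iff_eq_neg.2 h2, map_neg, h0, neg_zero]
  witt φ ψ χ h1 h2 h3 e1 e2 e3 e4 e5 e6 e7 := by
    rcases h.witt _ h1 e1 with h4 | h4
    · exact Or.inl (co_eq_zero h4)
    rcases h4 _ h2 e2 e3 with h5 | h5 | h5
    · exact Or.inr (Or.inl (co_eq_zero h5))
    · exact Or.inr (Or.inr (Or.inl (co_eq_zero h5)))
    rcases h5 _ h3 e4 e5 e6 e7 with h6 | h6 | h6 | h6
    · exact Or.inr (Or.inr (Or.inr (Or.inl (co_eq_zero h6))))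
    · exact Or.inr (Or.inr (Or.inr (Or.inr (Or.inl (co_eq_zero h6)))))
    · exact Or.inr (Or.inr (Or.inr (Or.inr (Or.inr (Or.inl (co_eq_zero h6))))))
    · exact Or.inr (Or.inr (Or.inr (Or.inr (Or.inr (Or.inr (co_eq_zero h6))))))

/-- uniqueness of the `A₁`-component -/
theorem uniq_of (hT : Tab hp d) (h : ∀ n : Fin l → ZMod 2, ∀ e ∈ d.T, a1k d n e → ∀ e' ∈ d.T, a1k d n e' → e'.b = e.b)
    {φ : Lat l →+ ZMod 2} {c c' : Lat l} (hc : A1c hp (Psi hp φ) c) (hc' : A1c hp (Psi hp φ) c') :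
    c' = c ∨ c' = -c := by
  obtain ⟨e, he, h1, h2⟩ := a1c_ex hT hc
  obtain ⟨e', he', h3, h4⟩ := a1c_ex hT hc'
  rw [h _ e he h1 e' he' h3] at h4
  rcases h2 with rfl | rfl
  · exact h4
  · rw [neg_neg]
    exact h4.symm

/-- `G₂` -/
def b2 (n m : Fin 2 → ZMod 2) : ZMod 2 := n 0 * m 0 + n 0 * m 1 + n 1 * m 1

/-- `D₄` -/
def bd (n m : Fin 4 → ZMod 2) : ZMod 2 := n 0 * m 0 + n 0 * m 1 + n 1 * m 1

/-- `F₄` -/
def b4 (n m : Fin 4 → ZMod 2) : ZMod 2 := n 2 * m 2 + n 2 * m 3 + n 3 * m 3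

/-- `E₆` -/
def b6 (n m : Fin 6 → ZMod 2) : ZMod 2 :=
  n 0 * m 1 + n 0 * m 2 + n 1 * m 1 + n 1 * m 3 + n 1 * m 5 + n 2 * m 2 + n 3 * m 3 + n 4 * m 4 + n 4 * m 5

/-- the characters of `D₄` that are fixed by a twisted triality -/
def Sd (n : Fin 4 → ZMod 2) : Prop := n 0 = n 2 ∧ n 0 = n 3

theorem qk2 : QK dG2 (fun _ => True) b2 where
  b1 x y z := by simp only [b2, Pi.add_apply]; ring
  b2 x y z := by simp only [b2, Pi.add_apply]; ring
  rho := by unfold a1k; decide +kernel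
  k3 := by unfold a1k; decide +kernel
  witt := by decide +kernel

theorem qkd : QK dD4 Sd bd where
  b1 x y z := by simp only [bd, Pi.add_apply]; ring
  b2 x y z := by simp only [bd, Pi.add_apply]; ring
  rho := by unfold a1k Sd; decide +kernel
  k3 := by unfold a1k Sd; decide +kernel
  witt := by unfold Sd; decide +kernel

private noncomputable def _root_.Cfsg.Agent.LsF.fd56983_0 : {f // @Cfsg.Agent.Cam.Odd.Low.b4 = f} := ⟨_, by first | (delta Cfsg.Agent.Cam.Odd.Low.b4; rewrite [Cfsg.Agent.LsF.zadd_pat, Cfsg.Agent.LsF.zmul_pat]; exact rfl) | exact rfl⟩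
private noncomputable def _root_.Cfsg.Agent.LsF.fd56983_1 : {f // @Cfsg.Agent.Cam.Odd.Low.ev = f} := ⟨_, by first | (delta Cfsg.Agent.Cam.Odd.Low.ev; rewrite [Cfsg.Agent.LsF.zmul_pat, Cfsg.Agent.LsF.finFintype_eq, Cfsg.Agent.LsF.fsum_eq, Cfsg.Agent.LsF.zACM_pat]; exact rfl) | exact rfl⟩
private noncomputable def _root_.Cfsg.Agent.LsF.fd56983_2 : {f // @Cfsg.Agent.Cam.Ex.Cb.dot = f} := ⟨_, by first | (delta Cfsg.Agent.Cam.Ex.Cb.dot; rewrite [Cfsg.Agent.LsF.iadd_eq, Cfsg.Agent.LsF.imul_eq]; (try delta List.casesOn); exact rfl) | exact rfl⟩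
theorem qk4 : QK dF4 (fun _ => True) b4 where
  b1 x y z := by simp only [b4, Pi.add_apply]; ring
  b2 x y z := by simp only [b4, Pi.add_apply]; ring
  rho := by unfold a1k; (refine of_decide_eq_true ?_; (try (rewrite [Cfsg.Agent.LsF.fd56983_0.2, Cfsg.Agent.LsF.fd56983_1.2, Cfsg.Agent.LsF.fd56983_2.2, Cfsg.Agent.LsF.zdecEq_eq, Cfsg.Agent.LsF.finFintype_eq, Cfsg.Agent.LsF.zFintype_eq, Cfsg.Agent.LsF.dForall_eq, Cfsg.Agent.LsF.instIDecEq_eq, Cfsg.Agent.LsF.dAnd_eq, Cfsg.Agent.LsF.dOr_eq, Cfsg.Agent.LsF.dFinEq_eq, Cfsg.Agent.LsF.dBAll_eq, Cfsg.Agent.LsF.dBEx_eq, Cfsg.Agent.LsF.dListEq_eq, Cfsg.Agent.LsF.decide_eq])); decide +kernel)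
  k3 := by unfold a1k; (refine of_decide_eq_true ?_; (try (rewrite [Cfsg.Agent.LsF.fd56983_1.2, Cfsg.Agent.LsF.fd56983_2.2, Cfsg.Agent.LsF.fd56983_0.2, Cfsg.Agent.LsF.zadd_pat, Cfsg.Agent.LsF.zdecEq_eq, Cfsg.Agent.LsF.finFintype_eq, Cfsg.Agent.LsF.zFintype_eq, Cfsg.Agent.LsF.dForall_eq, Cfsg.Agent.LsF.instZAdd_pat, Cfsg.Agent.LsF.instIDecEq_eq, Cfsg.Agent.LsF.dAnd_eq, Cfsg.Agent.LsF.dOr_eq, Cfsg.Agent.LsF.dFinEq_eq, Cfsg.Agent.LsF.dBAll_eq, Cfsg.Agent.LsF.dListEq_eq, Cfsg.Agent.LsF.decide_eq])); decide +kernel)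
  witt := by decide +kernel

private noncomputable def _root_.Cfsg.Agent.LsF.fd56983_3 : {f // @Cfsg.Agent.Cam.Odd.Low.b6 = f} := ⟨_, by first | (delta Cfsg.Agent.Cam.Odd.Low.b6; rewrite [Cfsg.Agent.LsF.zadd_pat, Cfsg.Agent.LsF.zmul_pat]; exact rfl) | exact rfl⟩
theorem qk6 : QK dE6 (fun _ => True) b6 where
  b1 x y z := by simp only [b6, Pi.add_apply]; ring
  b2 x y z := by simp only [b6, Pi.add_apply]; ring
  rho := by unfold a1k; (refine of_decide_eq_true ?_; (try (rewrite [Cfsg.Agent.LsF.fd56983_3.2, Cfsg.Agent.LsF.fd56983_1.2, Cfsg.Agent.LsF.fd56983_2.2, Cfsg.Agent.LsF.zdecEq_eq, Cfsg.Agent.LsF.finFintype_eq, Cfsg.Agent.LsF.zFintype_eq, Cfsg.Agent.LsF.dForall_eq, Cfsg.Agent.LsF.instIDecEq_eq, Cfsg.Agent.LsF.dAnd_eq, Cfsg.Agent.LsF.dOr_eq, Cfsg.Agent.LsF.dFinEq_eq, Cfsg.Agent.LsF.dBAll_eq, Cfsg.Agent.LsF.dBEx_eq, Cfsg.Agent.LsF.dListEq_eq, Cfsg.Agent.LsF.decide_eq])); decide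 +kernel)
  k3 := by unfold a1k; (refine of_decide_eq_true ?_; (try (rewrite [Cfsg.Agent.LsF.fd56983_1.2, Cfsg.Agent.LsF.fd56983_2.2, Cfsg.Agent.LsF.fd56983_3.2, Cfsg.Agent.LsF.zadd_pat, Cfsg.Agent.LsF.zdecEq_eq, Cfsg.Agent.LsF.finFintype_eq, Cfsg.Agent.LsF.zFintype_eq, Cfsg.Agent.LsF.dForall_eq, Cfsg.Agent.LsF.instZAdd_pat, Cfsg.Agent.LsF.instIDecEq_eq, Cfsg.Agent.LsF.dAnd_eq, Cfsg.Agent.LsF.dOr_eq, Cfsg.Agent.LsF.dFinEq_eq, Cfsg.Agent.LsF.dBAll_eq, Cfsg.Agent.LsF.dListEq_eq, Cfsg.Agent.LsF.decide_eq])); decide +kernel)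
  witt := by (refine of_decide_eq_true ?_; (try (rewrite [Cfsg.Agent.LsF.fd56983_3.2, Cfsg.Agent.LsF.zdecEq_eq, Cfsg.Agent.LsF.finFintype_eq, Cfsg.Agent.LsF.zFintype_eq, Cfsg.Agent.LsF.dForall_eq, Cfsg.Agent.LsF.dPi_eq, Cfsg.Agent.LsF.instZAdd_pat, Cfsg.Agent.LsF.dOr_eq, Cfsg.Agent.LsF.dImp_eq, Cfsg.Agent.LsF.dFinEq_eq, Cfsg.Agent.LsF.decide_eq])); decide +kernel)

theorem un4 : ∀ n : Fin 4 → ZMod 2, ∀ e ∈ dF4.T, a1k dF4 n e → ∀ e' ∈ dF4.T, a1k dF4 n e' → e'.b = e.b := by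
  unfold a1k
  (refine of_decide_eq_true ?_; (try (rewrite [Cfsg.Agent.LsF.fd56983_1.2, Cfsg.Agent.LsF.fd56983_2.2, Cfsg.Agent.LsF.zdecEq_eq, Cfsg.Agent.LsF.finFintype_eq, Cfsg.Agent.LsF.zFintype_eq, Cfsg.Agent.LsF.dForall_eq, Cfsg.Agent.LsF.instIDecEq_eq, Cfsg.Agent.LsF.dAnd_eq, Cfsg.Agent.LsF.dOr_eq, Cfsg.Agent.LsF.dFinEq_eq, Cfsg.Agent.LsF.dBAll_eq, Cfsg.Agent.LsF.dListEq_eq, Cfsg.Agent.LsF.decide_eq])); decide +kernel)

theorem un6 : ∀ n : Fin 6 → ZMod 2, ∀ e ∈ dE6.T, a1k dE6 n e → ∀ e' ∈ dE6.T, a1k dE6 n e' → e'.b = e.b := by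
  unfold a1k
  (refine of_decide_eq_true ?_; (try (rewrite [Cfsg.Agent.LsF.fd56983_1.2, Cfsg.Agent.LsF.fd56983_2.2, Cfsg.Agent.LsF.zdecEq_eq, Cfsg.Agent.LsF.finFintype_eq, Cfsg.Agent.LsF.zFintype_eq, Cfsg.Agent.LsF.dForall_eq, Cfsg.Agent.LsF.instIDecEq_eq, Cfsg.Agent.LsF.dAnd_eq, Cfsg.Agent.LsF.dOr_eq, Cfsg.Agent.LsF.dFinEq_eq, Cfsg.Agent.LsF.dBAll_eq, Cfsg.Agent.LsF.dListEq_eq, Cfsg.Agent.LsF.decide_eq])); decide +kernel)

end Cfsg.Agent.Cam.Odd.Low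
end

-- part: Cam/Odd/Low
section
/-!
# S3689, S3690, exceptional rows: `G₂`, `³D₄`, `F₄`, `E₆`, `²E₆` in odd characteristic (helper70)

`boxLow : BoxOne → BoxLow`.
-/

set_option autoImplicit false
set_option linter.unusedVariables false
set_option linter.unusedSectionVars false
set_option maxRecDepth 100000
set_option synthInstance.maxSize 4096

namespace Cfsg.Agent.Cam.Odd.Low

open CoxeterSystem Cfsg Cfsg.Lie Subgroup
open Cfsg.Agent.ChevalleyStructure.CoxeterGeom Cfsg.Agent.ChevalleyStructure.CoxeterGeomTypes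
open Cfsg.Agent.Tits.Roots Cfsg.Agent.Nodes.BNOf Cfsg.Agent.Nodes.RGDChev Cfsg.Agent.Nodes.Coroot
open Cfsg.Agent.KFacts.RgdChevCoord Cfsg.Agent.BpExc.TorCent Cfsg.Agent.BpExc.LangFr Cfsg.Agent.BpExc.SubBN
open Cfsg.Agent.Cam.Spor Cfsg.Agent.Cam.Ex Cfsg.Agent.Cam.Ex.S2
open Cfsg.Agent.Cam.Ex.Cb (V gt dot toF Ent Dt Tab toF_inj psi_toF eq_sum dG2 dD4 dF4 dE6 tabG2 tabD4 tabF4 tabE6 chkG2
  wa_simple)
open Cfsg.Agent.DS.Nt (RP DZ)
open Cfsg.Agent.H931.KC (psi psi_apply psi_sr)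
open Cfsg.Agent.H92.NE (bl bl_apply bl_comm bl_rep)

variable {D : ChevalleyDatum} {l : ℕ} {M : CoxeterMatrix (Fin l)} {hp : IsType D l M} {p : ℕ} [Fact p.Prime]

/-- the killed roots separate the simple roots from the negative roots -/
def sepk (d : Dt) (n : Fin l → ZMod 2) : Prop :=
  ∀ i : Fin l, ∀ e' ∈ d.T, ∃ c ∈ d.T, ev n c.b = 0 ∧ gt c.cv i + dot e'.b c.cv ≠ 0

theorem eq_one_of_fix' {d : Dt} (hT : Tab hp d) {φ : Lat l →+ ZMod 2} (hs : sepk d (co φ)) {w : M.Group}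
    (hw : ∀ c ∈ Psi hp φ, 0 ≤ c → wa hp w c = c) : w = 1 := by
  refine eq_one_of_nonneg M.toCoxeterSystem hp.isCartan w fun i => ?_
  obtain ⟨e', he', h1 | h1⟩ := hT.sur _ ((rt_sr hp i).wa' w)
  · exact (hT.pos e' he').trans_eq h1.symm
  · obtain ⟨c, hc, h2, h3⟩ := hs i e' he'
    have h4 := cp_wa w (sr i) (hT.rt c hc)
    rw [hw _ ⟨hT.rt c hc, by rwa [ev_co] at h2⟩ (hT.pos c hc), h1, cp_neg _ (hT.rt c hc), cp_toF hT hc he', hT.cpe c hc,
      psi_sr] at h4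
    exact absurd (by rw [show gt c.cv i = toF l c.cv i from rfl, ← h4, neg_add_cancel]) h3

/-- **A criterion for the connected centralizer.** -/
theorem mem_DZ_of {d : Dt} (hT : Tab hp d) (hp2 : p ≠ 2) {t y : YY D p} {φ : Lat l →+ ZMod 2} (h : Chi hp (-1) t φ)
    (hs : φ ≠ 0 → sepk d (co φ)) (hy : y * t = t * y)
    (hw : φ ≠ 0 → ∀ m ∈ MS D l p (Psi hp φ), ∀ w k, RP hp p w k → Fixs hp w φ → y = m * k →
      ∀ c ∈ Psi hp φ, wa hp w c = c ∨ wa hp w c = -c) : y ∈ DZ hp p {t} := by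
  have := DS.Nt.finW hp
  obtain ⟨m, hm, w, hw', k, hk, hkt, rfl⟩ := DS.Nt.form hp (Set.finite_singleton t) (Set.singleton_subset_iff.2 h.1)
    (c := y) (by rintro _ rfl; exact hy)
  have hpos : ∀ c ∈ Psi hp φ, 0 ≤ c → 0 ≤ wa hp w c := fun c hc h0 =>
    hw'.2 c (by rw [← h.psiS (prim2 hp2)] at hc; exact hc) h0
  have h1 : w = 1 := by
    by_cases h0 : φ = 0
    · refine eq_one_of_nonneg M.toCoxeterSystem hp.isCartan w fun i => hpos _ ⟨rt_sr hp i, by rw [h0]; rfl⟩ ?_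
      exact fun j => by
        by_cases e : j = i
        · rw [e]; simp
        · simp [Pi.single_eq_of_ne e]
    · refine eq_one_of_fix' hT (hs h0) fun c hc hc0 => ?_
      have h2 := hw h0 m (by rw [← h.psiS (prim2 hp2)]; exact hm) w k hk
        (fun a => Chi.of_conj (prim2 hp2) h h (fun a ha => hw'.1 a ha t rfl) a) rfl c hc
      refine h2.resolve_right fun h3 => hc.1.ne_zero' (le_antisymm ?_ hc0)
      have h4 := hpos c hc hc0
      rwa [h3, neg_nonneg] at h4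
  subst h1
  exact mul_mem (DS.Nt.Mz_le_DZ hm) (DS.Nt.T_le_DZ hk.mem_T)

variable {d : ℕ} {g0 : Lat l ≃+ Lat l} {L : Type} [Group L] [Finite L]

theorem comm_ι (E : Frame hp p d g0 L) {x y : L} (h : y * x = x * y) : E.ι y * E.ι x = E.ι x * E.ι y := by
  rw [← map_mul, h, map_mul]

/-! ### `F₄`, `E₆` -/

theorem adm_uniq (hp2 : p ≠ 2) (h : ∀ (φ : Lat l →+ ZMod 2) (c c' : Lat l), A1c hp (Psi hp φ) c →
    A1c hp (Psi hp φ) c' → c' = c ∨ c' = -c) : Adm hp p d g0 L (fun _ => True) :=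
  fun E x φ hφ => ⟨trivial, fun ⟨c, hc⟩ => ⟨c, hc, h φ _ _ hc (a1c_g E hp2 hφ hc)⟩⟩

theorem conn_typ (hp2 : p ≠ 2) (hD : DS.Ex.Typ D) (h7 : D ≠ chevE7) : ConnAll hp p d g0 L := by
  intro E x hx ht y hy
  rcases (DS.Nt.DZ_one hp hD Nat.prime_two hp2.symm ht (sq_ι E hx)).2 with h | h | h
  · exact h _ (comm_ι E hy)
  · exact absurd h.2.1 (by norm_num)
  · exact absurd h.1 h7

theorem ne_E7 {D : ChevalleyDatum} (h : D.nroots ≠ chevE7.nroots) : D ≠ chevE7 := fun e => h (by rw [e])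

/-! ### `G₂` -/

theorem sep2 : ∀ n : Fin 2 → ZMod 2, n ≠ 0 → sepk dG2 n := by
  unfold sepk
  decide +kernel

theorem len2 : ∀ n : Fin 2 → ZMod 2, n ≠ 0 → ∀ e ∈ dG2.T, ev n e.b = 0 → ∀ e' ∈ dG2.T, ev n e'.b = 0 →
    (∑ i, ∑ j, toF 2 e.b i * ![![2, -3], ![-3, 6]] i j * toF 2 e.b j =
      ∑ i, ∑ j, toF 2 e'.b i * ![![2, -3], ![-3, 6]] i j * toF 2 e'.b j) → e'.b = e.b := by
  decide +kernel

theorem co_ne {φ : Lat l →+ ZMod 2} (h : φ ≠ 0) : co φ ≠ 0 := fun e => h (co_eq_zero e)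

theorem fix2 {φ : Lat 2 →+ ZMod 2} (h0 : φ ≠ 0) {w : CoxeterMatrix.G₂.Group} (hw : Fixs tG2 w φ) {c : Lat 2}
    (hc : c ∈ Psi tG2 φ) : wa tG2 w c = c ∨ wa tG2 w c = -c := by
  obtain ⟨e, he, h1, h2⟩ := psi_ex tabG2 hc
  obtain ⟨e', he', h3, h4⟩ := psi_ex tabG2 (c := wa tG2 w c) ⟨hc.1.wa' w, by rw [hw c, hc.2]⟩
  have h5 := bl_rep tG2 chkG2.1 w c c
  have key : ∀ x y : Lat 2, (x = y ∨ x = -y) → bl ![![2, -3], ![-3, 6]] x x = bl ![![2, -3], ![-3, 6]] y y := by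
    rintro x y (rfl | rfl)
    · rfl
    · rw [map_neg, bl_comm chkG2.1.1, map_neg, neg_neg]
  rw [key _ _ h4, key _ _ h2] at h5
  rw [len2 _ (co_ne h0) e he h1 e' he' h3 h5.symm] at h4
  rcases h2 with h2 | h2
  · rwa [← h2] at h4
  · rw [← neg_eq_iff_eq_neg.2 h2, neg_neg] at h4
    exact h4.symm

theorem rho_ne {φ : Lat 2 →+ ZMod 2} (h : Rho tG2 (Psi tG2 φ)) : φ ≠ 0 := by
  rintro rfl
  exact absurd (((qk2.qd tabG2).rho 0 trivial).2 h) (by decide)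

theorem adm2 (hp2 : p ≠ 2) : Adm tG2 p d (sg 2 1) L (fun _ => True) := by
  intro E x φ hφ
  refine ⟨trivial, fun h => ?_⟩
  obtain ⟨w, hw⟩ := E.gr
  have hw' : ∀ a, E.g a = wa tG2 w a := fun a => by rw [hw, sg_apply, Units.val_one, one_smul]
  obtain ⟨c, hc⟩ := id h
  refine ⟨c, hc, ?_⟩
  rw [hw']
  exact fix2 (rho_ne h) (fun a => by rw [← hw', chi2_g E hp2 hφ]) hc.1

theorem conn2 (hp2 : p ≠ 2) {g0 : Lat 2 ≃+ Lat 2} : ConnAll tG2 p d g0 L := by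
  intro E x hx ht y hy
  obtain ⟨φ, hφ⟩ := exists_chi hp2 E hx ht
  exact mem_DZ_of tabG2 hp2 hφ (fun h0 => sep2 _ (co_ne h0)) (comm_ι E hy) fun h0 m _ w k _ hw _ c hc => fix2 h0 hw hc

/-! ### `D₄` -/

/-- reduction modulo two -/
def red (x : Lat l) : Fin l → ZMod 2 := fun i => (x i : ZMod 2)

theorem red_add (x y : Lat l) : red (x + y) = red x + red y := funext fun i => Int.cast_add _ _

theorem red_pm {x y : Lat l} (h : x = y ∨ x = -y) : red x = red y := by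
  rcases h with rfl | rfl
  · rfl
  · exact funext fun i => by rw [red, red, Pi.neg_apply, Int.cast_neg, CharTwo.neg_eq]

theorem apply_red (φ : Lat l →+ ZMod 2) (x : Lat l) : φ x = ∑ i, red x i * co φ i := eq_sum φ x

/-- the radical of the form modulo two -/
def Rad (v : Fin 4 → ZMod 2) : Prop := v 1 = 0 ∧ v 0 + v 2 + v 3 = 0

theorem rad_car : ∀ v : Fin 4 → ZMod 2, Rad v → ∀ j : Fin 4, ∑ i, v i * (cartanOf chevD4 4 j i : ZMod 2) = 0 := by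
  unfold Rad
  decide +kernel

theorem red_wa (w : coxeterD4.Group) {x : Lat 4} (h : Rad (red x)) : red (wa tD4 w x) = red x := by
  induction w using coxeterD4.toCoxeterSystem.simple_induction_left with
  | one => rw [wa_one]
  | mul_simple_left w j ih =>
    rw [wa_mul, wa_simple]
    funext i
    have h1 := rad_car _ (ih ▸ h) j
    rw [red, Pi.sub_apply, Pi.smul_apply, smul_eq_mul, Int.cast_sub, Int.cast_mul, psi_apply, Int.cast_sum]
    simp only [Int.cast_mul]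
    rw [show ∑ i, ((wa tD4 w x i : ℤ) : ZMod 2) * (cartanOf chevD4 4 j i : ZMod 2) = 0 from h1, zero_mul, sub_zero]
    exact congrFun ih i

/-- the two trialities -/
def rt4 (b : Bool) (v : Fin 4 → ZMod 2) : Fin 4 → ZMod 2 := if b then ![v 3, v 1, v 0, v 2] else ![v 2, v 1, v 3, v 0]

private noncomputable def _root_.Cfsg.Agent.LsF.fd56983_4 : {f // @Cfsg.Lie.ChevalleyDatum.cartan = f} := ⟨_, by first | (delta Cfsg.Lie.ChevalleyDatum.cartan; rewrite [Cfsg.Agent.LsF.agetD_eq]; exact rfl) | exact rfl⟩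
private noncomputable def _root_.Cfsg.Agent.LsF.fd56983_5 : {f // @Cfsg.Lie.ChevalleyDatum.simple = f} := ⟨_, by first | (delta Cfsg.Lie.ChevalleyDatum.simple; rewrite [Cfsg.Agent.LsF.agetD_eq]; exact rfl) | exact rfl⟩
private noncomputable def _root_.Cfsg.Agent.LsF.fd56983_6 : {f // @Cfsg.Agent.ChevalleyStructure.CoxeterGeomTypes.cartanOf = f} := ⟨_, by first | (delta Cfsg.Agent.ChevalleyStructure.CoxeterGeomTypes.cartanOf; rewrite [Cfsg.Agent.LsF.fd56983_4.2, Cfsg.Agent.LsF.fd56983_5.2]; exact rfl) | exact rfl⟩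
theorem tri_perm : ∀ σ : Equiv.Perm (Fin 4), σ ^ 3 = 1 → σ ≠ 1 →
    (∀ i j, cartanOf chevD4 4 (σ i) (σ j) = cartanOf chevD4 4 i j) →
    σ 1 = 1 ∧ ((σ 0 = 2 ∧ σ 2 = 3 ∧ σ 3 = 0) ∨ (σ 0 = 3 ∧ σ 3 = 2 ∧ σ 2 = 0)) := by
  (refine of_decide_eq_true ?_; (try (rewrite [Cfsg.Agent.LsF.fd56983_6.2, Cfsg.Agent.LsF.finFintype_eq, Cfsg.Agent.LsF.dForall_eq, Cfsg.Agent.LsF.instIDecEq_eq, Cfsg.Agent.LsF.dAnd_eq, Cfsg.Agent.LsF.dOr_eq, Cfsg.Agent.LsF.dNot_eq, Cfsg.Agent.LsF.dFinEq_eq, Cfsg.Agent.LsF.dForallFin_eq, Cfsg.Agent.LsF.decide_eq])); decide +kernel)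

theorem tri_red {g0 : Lat 4 ≃+ Lat 4} (h : IsTri g0) : ∃ b, ∀ x, red (g0 x) = rt4 b (red x) := by
  obtain ⟨σ, h1, h2, h3⟩ := h
  have key : ∀ x j, g0 x (σ j) = x j := fun x j => by
    have e : x = ∑ k, x k • (sr k : Lat 4) := by
      funext j
      simp [Finset.sum_apply, sr, Pi.single_apply]
    conv_lhs => rw [e, map_sum]
    simp only [map_zsmul, h3]
    simp [Finset.sum_apply, sr, Pi.single_apply]
  obtain ⟨e1, ⟨e0, e2, e3⟩ | ⟨e0, e3, e2⟩⟩ := tri_perm σ (by rw [← h1, pow_orderOf_eq_one])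
    (by rintro rfl; rw [orderOf_one] at h1; omega) h2
  · refine ⟨true, fun x => funext fun i => ?_⟩
    have := key x 0; have := key x 1; have := key x 2; have := key x 3
    fin_cases i <;> simp_all only [red, rt4, _root_.Fin.isValue, _root_.Fin.zero_eta, ↓ _root_.reduceIte, _root_.Matrix.cons_val_zero, _root_.Fin.mk_one, _root_.Matrix.cons_val_one, _root_.Fin.reduceFinMk, _root_.Matrix.cons_val]
  · refine ⟨false, fun x => funext fun i => ?_⟩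
    have := key x 0; have := key x 1; have := key x 2; have := key x 3
    fin_cases i <;> simp_all only [red, rt4, _root_.Fin.isValue, _root_.Fin.zero_eta, _root_.Bool.false_eq_true, ↓ _root_.reduceIte, _root_.Matrix.cons_val_zero, _root_.Fin.mk_one, _root_.Matrix.cons_val_one, _root_.Fin.reduceFinMk, _root_.Matrix.cons_val]

theorem rad_rt : ∀ (b : Bool) (v : Fin 4 → ZMod 2), Rad v → Rad (rt4 b v) ∧ (rt4 b v = v → v = 0) := by
  unfold Rad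
  decide +kernel

theorem red_g {g0 : Lat 4 ≃+ Lat 4} (h : IsTri g0) (E : Frame tD4 p d g0 L) :
    ∃ b, ∀ x, Rad (red x) → red (E.g x) = rt4 b (red x) := by
  obtain ⟨b, hb⟩ := tri_red h
  obtain ⟨w, hw⟩ := E.gr
  exact ⟨b, fun x hx => by rw [hw, red_wa w (by rw [hb]; exact (rad_rt b _ hx).1), hb]⟩

theorem sd_chk : ∀ (b : Bool) (n : Fin 4 → ZMod 2),
    (∑ i, rt4 b (red ![1, 0, 1, 0]) i * n i = ∑ i, red ![1, 0, 1, 0] i * n i) →
    (∑ i, rt4 b (red ![1, 0, 0, 1]) i * n i = ∑ i, red ![1, 0, 0, 1] i * n i) → Sd n := by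
  unfold Sd
  decide +kernel

theorem sd_of (hp2 : p ≠ 2) {g0 : Lat 4 ≃+ Lat 4} (h : IsTri g0) (E : Frame tD4 p d g0 L) {x : L}
    {φ : Lat 4 →+ ZMod 2} (hφ : Chi tD4 (-1) (E.ι x) φ) : Sd (co φ) := by
  obtain ⟨b, hb⟩ := red_g h E
  refine sd_chk b _ ?_ ?_
  · rw [← hb _ (by unfold Rad; decide), ← apply_red, ← apply_red, chi2_g E hp2 hφ]
  · rw [← hb _ (by unfold Rad; decide), ← apply_red, ← apply_red, chi2_g E hp2 hφ]

private noncomputable def _root_.Cfsg.Agent.LsF.fd56983_7 : {f // @Cfsg.Agent.Cam.Odd.Low.rt4 = f} := ⟨_, by first | (delta Cfsg.Agent.Cam.Odd.Low.rt4; rewrite [Cfsg.Agent.LsF.vecCons_eq, Cfsg.Agent.LsF.dBoolEq_eq, Cfsg.Agent.LsF.ite_eq]; exact rfl) | exact rfl⟩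
theorem d4_chk : ∀ n : Fin 4 → ZMod 2, Sd n → n ≠ 0 → sepk dD4 n ∧ ∀ e ∈ dD4.T, ev n e.b = 0 → a1k dD4 n e ∧
    ∀ e' ∈ dD4.T, ev n e'.b = 0 → Rad (red (toF 4 e.b) + red (toF 4 e'.b)) ∧
      (red (toF 4 e'.b) = red (toF 4 e.b) → e'.b = e.b) ∧ ∀ b : Bool, ∃ f ∈ dD4.T, ev n f.b = 0 ∧
        red (toF 4 e'.b) + rt4 b (red (toF 4 e.b) + red (toF 4 f.b)) = red (toF 4 f.b) := by
  unfold Sd sepk a1k Rad
  (refine of_decide_eq_true ?_; (try (rewrite [Cfsg.Agent.LsF.fd56983_1.2, Cfsg.Agent.LsF.fd56983_2.2, Cfsg.Agent.LsF.fd56983_7.2, Cfsg.Agent.LsF.iadd_pat, Cfsg.Agent.LsF.zadd_pat, Cfsg.Agent.LsF.zdecEq_eq, Cfsg.Agent.LsF.finFintype_eq, Cfsg.Agent.LsF.zFintype_eq, Cfsg.Agent.LsF.dForall_eq, Cfsg.Agent.LsF.dPi_eq, Cfsg.Agent.LsF.instZAdd_pat, Cfsg.Agent.LsF.instIDecEq_eq, Cfsg.Agent.LsF.dAnd_eq, Cfsg.Agent.LsF.dOr_eq, Cfsg.Agent.LsF.dNot_eq, Cfsg.Agent.LsF.dFinEq_eq, Cfsg.Agent.LsF.dBAll_eq,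 Cfsg.Agent.LsF.dBEx_eq, Cfsg.Agent.LsF.dListEq_eq, Cfsg.Agent.LsF.dForallFin_eq, Cfsg.Agent.LsF.decide_eq])); decide +kernel)

section d4

variable {φ : Lat 4 →+ ZMod 2} (hS : Sd (co φ)) (h0 : φ ≠ 0) {c c' : Lat 4}
include hS h0

theorem d4_a1c (hc : c ∈ Psi tD4 φ) : A1c tD4 (Psi tD4 φ) c := by
  obtain ⟨e, he, h1, h2⟩ := psi_ex tabD4 hc
  have h3 := (a1c_iff tabD4 he).2 ((d4_chk _ hS (co_ne h0)).2 e he h1).1
  rcases h2 with rfl | rfl
  · exact h3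
  · exact a1c_neg h3

theorem d4_rad (hc : c ∈ Psi tD4 φ) (hc' : c' ∈ Psi tD4 φ) : Rad (red (c + c')) := by
  obtain ⟨e, he, h1, h2⟩ := psi_ex tabD4 hc
  obtain ⟨e', he', h3, h4⟩ := psi_ex tabD4 hc'
  rw [red_add, red_pm h2, red_pm h4]
  exact (((d4_chk _ hS (co_ne h0)).2 e he h1).2 e' he' h3).1

theorem d4_eq (hc : c ∈ Psi tD4 φ) (hc' : c' ∈ Psi tD4 φ) (h : red c' = red c) : c' = c ∨ c' = -c := by
  obtain ⟨e, he, h1, h2⟩ := psi_ex tabD4 hc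
  obtain ⟨e', he', h3, h4⟩ := psi_ex tabD4 hc'
  rw [red_pm h2, red_pm h4] at h
  rw [(((d4_chk _ hS (co_ne h0)).2 e he h1).2 e' he' h3).2.1 h] at h4
  rcases h2 with rfl | rfl
  · exact h4
  · rw [neg_neg]
    exact h4.symm

theorem d4_fix (hc : c ∈ Psi tD4 φ) (hc' : c' ∈ Psi tD4 φ) (b : Bool) :
    ∃ f ∈ Psi tD4 φ, red c' + rt4 b (red (c + f)) = red f := by
  obtain ⟨e, he, h1, h2⟩ := psi_ex tabD4 hc
  obtain ⟨e', he', h3, h4⟩ := psi_ex tabD4 hc'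
  obtain ⟨f, hf, h5, h6⟩ := (((d4_chk _ hS (co_ne h0)).2 e he h1).2 e' he' h3).2.2 b
  exact ⟨toF 4 f.b, ⟨tabD4.rt f hf, by rwa [ev_co] at h5⟩, by rwa [red_add, red_pm h2, red_pm h4]⟩

end d4

theorem add_self_red (v : Fin l → ZMod 2) : v + v = 0 := funext fun i => CharTwo.add_self_eq_zero _

theorem psi_g (hp2 : p ≠ 2) (E : Frame hp p d g0 L) {x : L} {φ : Lat l →+ ZMod 2} (hφ : Chi hp (-1) (E.ι x) φ)
    {c : Lat l} (hc : c ∈ Psi hp φ) : E.g c ∈ Psi hp φ :=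
  ⟨(E.fr.root c).2 hc.1, by rw [chi2_g E hp2 hφ, hc.2]⟩

theorem admd (hp2 : p ≠ 2) {g0 : Lat 4 ≃+ Lat 4} (h : IsTri g0) : Adm tD4 p d g0 L (fun φ => Sd (co φ)) := by
  intro E x φ hφ
  have hS := sd_of hp2 h E hφ
  refine ⟨hS, fun hr => ?_⟩
  have h0 : φ ≠ 0 := by
    rintro rfl
    exact absurd (((qkd.qd tabD4).rho 0 hS).2 hr) (by decide)
  obtain ⟨c, hc, -⟩ := hr
  obtain ⟨b, hb⟩ := red_g h E
  obtain ⟨f, hf, h1⟩ := d4_fix hS h0 hc (psi_g hp2 E hφ hc) b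
  refine ⟨f, d4_a1c hS h0 hf, d4_eq hS h0 hf (psi_g hp2 E hφ hf) ?_⟩
  rw [← hb _ (d4_rad hS h0 hc hf), map_add, red_add, ← add_assoc, add_self_red, zero_add] at h1
  exact h1

theorem not_comm {a : Lat l} (ha : Rt hp a) : xc hp a (1 : kb p) * xc hp (-a) 1 ≠ xc hp (-a) 1 * xc hp a 1 := by
  intro h
  rw [← sl_up ha, ← sl_lo ha] at h
  have h1 := comm_of_tr (tr_lo (1 : kb p)) ((sl_ck ha).cmt h)
  have h2 := congrArg (fun g : SL (kb p) => g.1 0 0) h1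
  simp only [mul_e, up00, up01, up10, lo00, lo01, lo10] at h2
  exact one_ne_zero (α := kb p) (by linear_combination h2)

/-- a fixed point permutes the `A₁`-components compatibly with the Frobenius map -/
theorem comm_g (E : Frame hp p d g0 L) {φ : Lat l →+ ZMod 2} (hA : ∀ a ∈ Psi hp φ, A1c hp (Psi hp φ) a)
    (hg : ∀ a ∈ Psi hp φ, E.g a ∈ Psi hp φ) {m k : YY D p} (hm : m ∈ MS D l p (Psi hp φ)) {w : M.Group}
    (hk : RP hp p w k) (hw : Fixs hp w φ) (hF : E.F (m * k) = m * k) {c : Lat l} (hc : c ∈ Psi hp φ) :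
    wa hp w (E.g c) = E.g (wa hp w c) ∨ wa hp w (E.g c) = -E.g (wa hp w c) := by
  have hwa : ∀ a ∈ Psi hp φ, wa hp w a ∈ Psi hp φ := fun a ha => ⟨ha.1.wa' w, by rw [hw a, ha.2]⟩
  have c1 : ∀ a ∈ Psi hp φ, ∀ x ∈ XR D l p a, m * k * x * (m * k)⁻¹ ∈ MS D l p {wa hp w a, -wa hp w a} := by
    intro a ha x hx
    obtain ⟨s, rfl⟩ := (mem_XR ha.1).1 hx
    obtain ⟨μ, -, h1⟩ := rp_xc hk ha.1
    have h2 := (hwa a ha).1
    obtain ⟨j, hj⟩ := (spl_psi (p := p) h2 (hA _ (hwa a ha))).inn _ hm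
    have h3 : m * k * xc hp a s * (m * k)⁻¹ = m * (k * xc hp a s * k⁻¹) * m⁻¹ := by group
    rw [h3, h1, ← sl_up h2, hj]
    exact sl_mem h2 _
  have c2 : ∀ a ∈ Psi hp φ, ∀ x ∈ XR D l p (E.g a),
      m * k * x * (m * k)⁻¹ ∈ MS D l p {E.g (wa hp w a), -E.g (wa hp w a)} := by
    intro a ha x hx
    obtain ⟨x, rfl⟩ := E.F.surjective x
    have h1 := c1 a ha x ((E.fr.map a ha.1 x).1 hx)
    rw [← hF, ← map_inv, ← map_mul, ← map_mul]
    refine (E.fr.mem_Sup ?_ (fun b => ?_) _).2 h1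
    · rintro _ (rfl | rfl)
      · exact (hwa a ha).1
      · exact (hwa a ha).1.neg'
    · simp only [Set.mem_insert_iff, Set.mem_singleton_iff, ← map_neg, EmbeddingLike.apply_eq_iff_eq]
  by_contra hne
  rw [not_or] at hne
  have hb := hwa _ (hg c hc)
  have hb' := hg _ (hwa c hc)
  have hgc := (hg c hc).1
  have h1 := c1 _ (hg c hc) _ (xc_mem_XR hgc 1)
  have h2 := c2 _ (psi_neg' hc) (xc hp (-E.g c) 1) (by rw [map_neg]; exact xc_mem_XR hgc.neg' 1)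
  rw [wa_neg, map_neg, neg_neg, Set.pair_comm, ← sl_range hb'.1] at h2
  obtain ⟨j, hj⟩ := h2
  have h3 := (spl_psi (p := p) hb'.1 (hA _ hb')).cz _ (RGD.Sup_mono (by
    rintro _ (rfl | rfl)
    · exact ⟨hb, hne⟩
    · exact ⟨psi_neg' hb, fun e => hne.2 (neg_eq_iff_eq_neg.1 e), fun e => hne.1 (neg_injective e)⟩) h1) j
  rw [hj] at h3
  refine not_comm (p := p) hgc ((MulAut.conj (m * k)).injective ?_)
  rw [map_mul (MulAut.conj (m * k)), map_mul (MulAut.conj (m * k))]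
  exact h3

theorem connd (hp2 : p ≠ 2) {g0 : Lat 4 ≃+ Lat 4} (h : IsTri g0) : ConnAll tD4 p d g0 L := by
  intro E x hx ht y hy
  obtain ⟨φ, hφ⟩ := exists_chi hp2 E hx ht
  have hS := sd_of hp2 h E hφ
  refine mem_DZ_of tabD4 hp2 hφ (fun h0 => (d4_chk _ hS (co_ne h0)).1) (comm_ι E hy) fun h0 m hm w k hk hw e c hc => ?_
  obtain ⟨b, hb⟩ := red_g h E
  have hwc : wa tD4 w c ∈ Psi tD4 φ := ⟨hc.1.wa' w, by rw [hw c, hc.2]⟩
  have h1 := red_pm (comm_g E (fun a ha => d4_a1c hS h0 ha) (fun a ha => psi_g hp2 E hφ ha) hm hk hw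
    (by rw [← e, E.fix]) hc)
  have h2 := red_wa w (d4_rad hS h0 hc (psi_g hp2 E hφ hc))
  have h3 := d4_rad hS h0 hc hwc
  have h4 := hb _ h3
  rw [wa_add, red_add, red_add, h1] at h2
  rw [map_add, red_add] at h4
  have h5 := (rad_rt b _ h3).2 (by
    rw [← h4, red_add, ← add_zero (red (E.g c) + _), ← add_self_red (red (wa tD4 w c))]
    calc red (E.g c) + red (E.g (wa tD4 w c)) + (red (wa tD4 w c) + red (wa tD4 w c))
        = red (E.g c) + (red (wa tD4 w c) + red (E.g (wa tD4 w c))) + red (wa tD4 w c) := by abel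
      _ = red (E.g c) + red (E.g c) + (red c + red (wa tD4 w c)) := by rw [h2]; abel
      _ = _ := by rw [add_self_red, zero_add])
  refine d4_eq hS h0 hc hwc ?_
  rw [red_add] at h5
  rw [← add_zero (red c), ← h5, ← add_assoc, add_self_red, zero_add]

theorem noCore_f4 (one : OneA) (hp2 : p ≠ 2) {g0 : Lat 4 ≃+ Lat 4} (E : Frame tF4 p d g0 L) (hq : 5 ≤ E.q) : NoCore L :=
  noCore_of one (by norm_num) f4_ne (qk4.qd tabF4) hp2 (adm_uniq hp2 fun _ _ _ => uniq_of tabF4 un4)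
    (conn_typ hp2 (Or.inl rfl) (ne_E7 (by decide))) E hq

theorem boxLow' (one : OneA) : BoxLow where
  g2 p _ L _ _ E U _ _ τ α β R R' c hp2 hq :=
    noCore_of one (by norm_num) g2_ne (qk2.qd tabG2) hp2 (adm2 hp2) (conn2 hp2) E hq U τ α β R R' c
  d4 g0 h p _ L _ _ E U _ _ τ α β R R' c hp2 hq :=
    noCore_of one (by norm_num) d4_ne (qkd.qd tabD4) hp2 (admd hp2 h) (connd hp2 h) E hq U τ α β R R' c
  f4 p _ L _ _ E U _ _ τ α β R R' c hp2 hq := noCore_f4 one hp2 E hq U τ α β R R' c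
  e6 d ε _ p _ L _ _ E U _ _ τ α β R R' c hp2 hq :=
    noCore_of one (by norm_num) e6_ne (qk6.qd tabE6) hp2 (adm_uniq hp2 fun _ _ _ => uniq_of tabE6 un6)
      (conn_typ hp2 (Or.inr (Or.inl rfl)) (ne_E7 (by decide))) E hq U τ α β R R' c

end Cfsg.Agent.Cam.Odd.Low
end

-- part: Cam/Ex/E2B
section
/-!
# S3689, S3690, `E₇` in characteristic two: root elements (helper53)
-/

set_option autoImplicit false
set_option linter.unusedVariables false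
set_option linter.unusedSectionVars false
set_option linter.unusedSimpArgs false

namespace Cfsg.Agent.Cam.Ex.E2

open CoxeterSystem Cfsg Cfsg.Lie Subgroup
open Cfsg.Agent.ChevalleyStructure.CoxeterGeom Cfsg.Agent.ChevalleyStructure.CoxeterGeomTypes
open Cfsg.Agent.Tits.Roots Cfsg.Agent.Nodes.BNOf Cfsg.Agent.Nodes.RGDChev Cfsg.Agent.Nodes.Coroot
open Cfsg.Agent.KFacts.RgdChevCoord Cfsg.Agent.BpExc.TorCent Cfsg.Agent.BpExc.LangFr
open Cfsg.Agent.Cam.Spor Cfsg.Agent.Cam.Ex.S2 Cfsg.Agent.Cam.Ex.En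
open Cfsg.Agent.ChevalleyStructure.SL2Hom (up lo)
open Cfsg.Agent.Nodes.RGDFoldSL (hS wS)
open Cfsg.Agent.DS.Nt (RP)
open scoped commutatorElement

section mat

variable {k : Type*} [Field k]

/-- diagonalization -/
theorem exists_diag [IsAlgClosed k] {j : SL k} (h : tr j ^ 2 ≠ 4) :
    ∃ (κ : SL k) (μ : k), μ ≠ 0 ∧ κ * j * κ⁻¹ = hS μ := by
  have hd := det_e j
  obtain ⟨x, hx⟩ := IsAlgClosed.exists_root (Polynomial.X ^ 2 - Polynomial.C (tr j) * Polynomial.X + 1 : Polynomial k) (by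
    have : (Polynomial.X ^ 2 - Polynomial.C (tr j) * Polynomial.X + 1 : Polynomial k).degree = 2 := by
      compute_degree!
    rw [this]; norm_num)
  simp only [Polynomial.IsRoot.def, Polynomial.eval_add, Polynomial.eval_sub, Polynomial.eval_pow, Polynomial.eval_X,
    Polynomial.eval_mul, Polynomial.eval_C, Polynomial.eval_one] at hx
  have hx0 : x ≠ 0 := by
    rintro rfl
    simp at hx
  obtain ⟨y, hy⟩ : ∃ y, x⁻¹ = y := ⟨_, rfl⟩
  have hxy : x * y = 1 := hy ▸ mul_inv_cancel₀ hx0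
  have hs : x + y = j.1 0 0 + j.1 1 1 := mul_left_cancel₀ hx0 (by rw [tr] at hx; linear_combination hx + hxy)
  have hne : y - x ≠ 0 := fun h0 => h (by
    rw [tr, ← hs]
    linear_combination (y - x) * h0 + 4 * hxy)
  by_cases hb : j.1 0 1 = 0
  · by_cases hc : j.1 1 0 = 0
    · have ha : j.1 0 0 ≠ 0 := fun h0 => by rw [h0, hb] at hd; simp at hd
      refine ⟨1, j.1 0 0, ha, ?_⟩
      rw [one_mul, inv_one, mul_one]
      refine ext4 (hS00 ha).symm (hb.trans (hS01 ha).symm) (hc.trans (hS10 ha).symm) ?_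
      rw [hS11 ha]
      rw [hb, zero_mul, sub_zero] at hd
      exact (inv_eq_of_mul_eq_one_right hd).symm
    · obtain ⟨e, he⟩ : ∃ e, (j.1 1 0 * (x - y)) * e = 1 :=
        ⟨_, mul_inv_cancel₀ (mul_ne_zero hc fun h0 => hne (by linear_combination -h0))⟩
      let P : SL k := ⟨!![x - j.1 1 1, (y - j.1 1 1) * e; j.1 1 0, j.1 1 0 * e], by
        rw [Matrix.det_fin_two_of]; linear_combination he⟩
      have p00 : P.1 0 0 = x - j.1 1 1 := rfl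
      have p01 : P.1 0 1 = (y - j.1 1 1) * e := rfl
      have p10 : P.1 1 0 = j.1 1 0 := rfl
      have p11 : P.1 1 1 = j.1 1 0 * e := rfl
      refine ⟨P⁻¹, x, hx0, ?_⟩
      rw [inv_inv, mul_assoc, inv_mul_eq_iff_eq_mul]
      apply ext4 <;> simp only [mul_e, p00, p01, p10, p11, hS00 hx0, hS01 hx0, hS10 hx0, hS11 hx0, hy]
      · linear_combination (-1 : k) * hd - x * hs + hxy
      · linear_combination (-e) * hd - y * e * hs + e * hxy
      · ring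
      · ring
  · obtain ⟨e, he⟩ : ∃ e, (j.1 0 1 * (y - x)) * e = 1 := ⟨_, mul_inv_cancel₀ (mul_ne_zero hb hne)⟩
    let P : SL k := ⟨!![j.1 0 1, j.1 0 1 * e; x - j.1 0 0, (y - j.1 0 0) * e], by
      rw [Matrix.det_fin_two_of]; linear_combination he⟩
    have p00 : P.1 0 0 = j.1 0 1 := rfl
    have p01 : P.1 0 1 = j.1 0 1 * e := rfl
    have p10 : P.1 1 0 = x - j.1 0 0 := rfl
    have p11 : P.1 1 1 = (y - j.1 0 0) * e := rfl
    refine ⟨P⁻¹, x, hx0, ?_⟩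
    rw [inv_inv, mul_assoc, inv_mul_eq_iff_eq_mul]
    apply ext4 <;> simp only [mul_e, p00, p01, p10, p11, hS00 hx0, hS01 hx0, hS10 hx0, hS11 hx0, hy]
    · ring
    · ring
    · linear_combination (-1 : k) * hd - x * hs + hxy
    · linear_combination (-e) * hd - y * e * hs + e * hxy

theorem hS_one : (hS 1 : SL k) = 1 := by
  have h1 : (1 : k) ≠ 0 := one_ne_zero
  apply ext4 <;> simp only [hS00 h1, hS01 h1, hS10 h1, hS11 h1, one00, one01, one10, one11, inv_one]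

variable [CharP k 2]

theorem two_eq : (2 : k) = 0 := CharP.ofNat_eq_zero k 2

theorem eq_one_of_sq {x : k} (h : x * x = 1) : x = 1 := by
  have : (x - 1) ^ 2 = 0 := by linear_combination h + (1 - x) * two_eq (k := k)
  exact sub_eq_zero.1 (pow_eq_zero_iff two_ne_zero |>.1 this)

theorem center_eq_one {z : SL k} (hz : z ∈ center (SL k)) : z = 1 := eq_one_of_center hz (eq_one_of_sq (center_sq hz))

theorem sq_of_tr {j : SL k} (h : tr j ^ 2 = 4) : j * j = 1 := by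
  have h2 := two_eq (k := k)
  have h0 : j.1 0 0 + j.1 1 1 = 0 := by
    have : tr j ^ 2 = 0 := by linear_combination h + 2 * h2
    exact pow_eq_zero_iff two_ne_zero |>.1 this
  have hd := det_e j
  apply ext4 <;> simp only [mul_e, one00, one01, one10, one11]
  · linear_combination (j.1 0 0) * h0 - hd - h2
  · linear_combination (j.1 0 1) * h0
  · linear_combination (j.1 1 0) * h0
  · linear_combination (j.1 1 1) * h0 - hd - h2

theorem tr_up_lo {s t : k} (hs : s ≠ 0) (ht : t ≠ 0) : tr (up s * lo t : SL k) ^ 2 ≠ 4 := by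
  have h2 := two_eq (k := k)
  simp only [tr, mul_e, up00, up01, up10, up11, lo00, lo01, lo10, lo11]
  intro h
  have : (s * t) ^ 2 = 0 := by linear_combination h - 2 * (s * t) * h2
  exact mul_ne_zero hs ht (pow_eq_zero_iff two_ne_zero |>.1 this)

theorem eq_of_comm_up_lo {s t s' t' : k} (hs : s ≠ 0) (hs' : s' ≠ 0) (ht : t ≠ 0)
    (h : (up s * lo t * (up s' * lo t') : SL k) = up s' * lo t' * (up s * lo t)) : s = s' := by
  have a1 := congrArg (fun x : SL k => x.1 0 0) h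
  have a2 := congrArg (fun x : SL k => x.1 0 1) h
  simp only [mul_e, up00, up01, up10, up11, lo00, lo01, lo10, lo11] at a1 a2
  have h1 : t = t' := mul_left_cancel₀ (mul_ne_zero hs hs') (by linear_combination a2)
  subst h1
  exact mul_right_cancel₀ ht (by linear_combination a1)

end mat

/-- the ambient group -/
abbrev Y7 : Type := YY chevE7 2

/-- the torus -/
noncomputable abbrev T7 : Subgroup Y7 := TT chevE7 (kb 2)

variable {b : Lat 7} (hb : Rt tE7 b)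

theorem sl_inj : Function.Injective (sl 2 hb) :=
  (injective_iff_map_eq_one _).2 fun g hg => center_eq_one (sl_ck hb g hg)

theorem eq_one_of_cz {y : Y7} (hy : y ∈ (sl 2 hb).range) (h : Cz (sl 2 hb) y) : y = 1 := by
  obtain ⟨j, rfl⟩ := hy
  rw [center_eq_one ((sl_ck hb).center_of_cz (DS.Nt.JL.Inn.self j) h), map_one]

theorem tor_sl {t : Y7} (ht : t ∈ T7) (h : t ∈ (sl 2 hb).range) : ∃ μ : kb 2, μ ≠ 0 ∧ t = sl 2 hb (hS μ) := by
  obtain ⟨j, rfl⟩ := h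
  obtain ⟨a, ha, -, h1⟩ := inn_T hb ht
  have h2 := center_eq_one ((sl_ck hb).inn_unique (DS.Nt.JL.Inn.self j) h1)
  exact ⟨a, ha, by rw [inv_mul_eq_one.1 h2]⟩

theorem psiS_h {μ : kb 2} (h0 : μ ≠ 0) (h1 : μ ≠ 1) : PsiS tE7 {sl 2 hb (hS μ)} = Ort b := by
  ext a
  refine and_congr_right fun ha => ?_
  simp only [Set.mem_singleton_iff, forall_eq]
  rw [ch_sl_hS hb h0 ha]
  refine ⟨fun h => ?_, fun h => by rw [h, zpow_zero]⟩
  have h2 : μ ^ (2 : ℤ) ≠ 1 := fun h3 => h1 (eq_one_of_sq (by rwa [zpow_two] at h3))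
  by_cases e1 : a = b
  · rw [e1, cp_self hb] at h
    exact absurd h h2
  by_cases e2 : a = -b
  · rw [e2, cp_neg _ hb, cp_self hb, zpow_neg, inv_eq_one] at h
    exact absurd h h2
  have h3 := abs_le.1 (abs_cp ha hb e1 e2)
  obtain h4 | h4 | h4 : cp tE7 a b = -1 ∨ cp tE7 a b = 0 ∨ cp tE7 a b = 1 := by omega
  · rw [h4, zpow_neg_one, inv_eq_one] at h
    exact absurd h h1
  · exact h4
  · rw [h4, zpow_one] at h
    exact absurd h h1

variable {L : Type} [Group L]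

/-- frames of type `E₇` in characteristic two -/
abbrev F7 (L : Type) [Group L] : Type := Frame tE7 2 1 (sg 7 1) L

theorem g_psiS (E : F7 L) {Q : Set Y7} (hQ : ∀ t ∈ Q, t ∈ T7 ∧ E.F t = t) (a : Lat 7) :
    E.g a ∈ PsiS tE7 Q ↔ a ∈ PsiS tE7 Q := by
  refine ⟨fun h => ⟨(E.fr.root a).1 h.1, fun t ht => ?_⟩, fun h => ⟨(E.fr.root a).2 h.1, fun t ht => ?_⟩⟩
  · have h1 := boxChi.frob _ _ _ tE7 2 1 _ L E t (hQ t ht).1 a ((E.fr.root a).1 h.1)
    rw [(hQ t ht).2, h.2 t ht, Frame.q] at h1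
    have h2 : (ch tE7 a t - 1) ^ 2 ^ E.e = 0 := by rw [sub_pow_char_pow, ← h1, one_pow, sub_self]
    exact sub_eq_zero.1 (pow_eq_zero_iff (by positivity) |>.1 h2)
  · have h1 := boxChi.frob _ _ _ tE7 2 1 _ L E t (hQ t ht).1 a h.1
    rwa [(hQ t ht).2, h.2 t ht, one_pow] at h1

theorem g_pm (re : BoxRE) (E : F7 L) {μ : kb 2} (h0 : μ ≠ 0) (h1 : μ ≠ 1) (hF : sl 2 hb (hS μ) ∈ E.ι.range) :
    E.g b = b ∨ E.g b = -b := by
  refine re.perp b hb _ ((E.fr.root b).2 hb) fun a ha h => ?_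
  have h2 := g_psiS E (Q := {sl 2 hb (hS μ)}) (by
    rintro _ rfl
    obtain ⟨x, hx⟩ := hF
    exact ⟨sl_hS_mem hb h0, by rw [← hx, E.fix]⟩) (E.g.symm a)
  rw [psiS_h hb h0 h1, AddEquiv.apply_symm_apply] at h2
  have h3 := E.gcp (E.g.symm a) b hb
  rw [AddEquiv.apply_symm_apply] at h3
  rw [h3]
  exact (h2.1 ⟨ha, h⟩).2

theorem mem_range (E : F7 L) {y : Y7} (h : E.F y = y) : y ∈ E.ι.range := by simpa using E.idx y h

theorem cj_q {E E' : F7 L} (h : E.Cj E') : E'.q = E.q := by rw [Frame.q, Frame.q, h.1]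

variable [Finite L] {U : Type} [Group U] [Finite U] {τ α β : U →* L} {R R' : Subgroup L}

/-- no non-trivial element of `T` is conjugate into the torus of a root `SL₂` -/
theorem not_tor (re : BoxRE) (p1 : BoxP1) (E : F7 L) (hq : 4 ≤ E.q) (c : Core τ α β R R') {w : L} (hw : w ∈ τ.range)
    (hw1 : w ≠ 1) {z : Y7} {μ : kb 2} (h0 : μ ≠ 0) (h : z * E.ι w * z⁻¹ = sl 2 hb (hS μ)) : False := by
  obtain ⟨r, hr, hd⟩ := Nat.exists_prime_and_dvd (n := orderOf w) (fun h1 => hw1 (orderOf_eq_one_iff.1 h1))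
  obtain ⟨m, hm⟩ := hd
  have ho : orderOf (w ^ m) = r := by
    have h1 : 0 < orderOf w := orderOf_pos w
    have h2 : m ≠ 0 := by rintro rfl; omega
    rw [orderOf_pow' w h2, hm, Nat.gcd_mul_left_left, Nat.mul_div_cancel _ (Nat.pos_of_ne_zero h2)]
  have h1 : z * E.ι (w ^ m) * z⁻¹ = sl 2 hb (hS μ) ^ m := by rw [map_pow, ← conj_pow, h]
  have h2 : sl 2 hb (hS μ) ^ m ∈ T7 := pow_mem (sl_hS_mem hb h0) m
  obtain ⟨ν, hν, h3⟩ := tor_sl hb h2 (pow_mem (MonoidHom.mem_range.2 ⟨_, rfl⟩) m)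
  obtain ⟨E', hE, h4⟩ := E.exists_cj (Q := {w ^ m}) (Set.finite_singleton _) (g := z) (by rintro _ rfl; rwa [h1])
  have h5 : E'.ι (w ^ m) = sl 2 hb (hS ν) := by rw [h4 _ rfl, h1, h3]
  have hν1 : ν ≠ 1 := by
    intro h6
    have h7 : E'.ι (w ^ m) = E'.ι 1 := by rw [h5, h6, hS_one, map_one, map_one]
    rw [E'.inj h7, orderOf_one] at ho
    exact hr.one_lt.ne ho
  refine p1 L E' U τ α β R R' c b hb (g_pm hb re E' hν hν1 ⟨_, h5⟩) (by rwa [cj_q hE]) ((cen_iff E' hb).2 fun y hy => ?_)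
  refine cz_MS_ort hb ?_
  rw [← psiS_h hb hν hν1]
  refine E'.perf_le hr ?_ c.pair.perfect ?_ hy
  · rintro _ rfl
    exact ⟨sl_hS_mem hb hν, by rw [← h5, ← map_pow, ← ho, pow_orderOf_eq_one, map_one]⟩
  · rintro _ rfl y hy
    obtain ⟨v, rfl⟩ := hw
    rw [← h5, ← map_mul, ← map_mul, ← map_pow, c.pair.comm _ y hy]

theorem pgroup_of {E : F7 L} {z : Y7} {S : Set L} {P : Subgroup Y7} (hP : IsPGroup 2 P)
    (h : ∀ x ∈ S, z * E.ι x * z⁻¹ ∈ P) : IsPGroup 2 (closure S) := by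
  refine (hP.comap_of_injective ((MulAut.conj z).toMonoidHom.comp E.ι) ((MulAut.conj z).injective.comp E.inj)).to_le ?_
  rw [closure_le]
  exact h

/-- **Lemma A**: a root element normalizing `T` centralizes `T` -/
theorem lemA (re : BoxRE) (p1 : BoxP1) (E : F7 L) (hq : 4 ≤ E.q) (c : Core τ α β R R') {u : L} {δ : Lat 7}
    (hδ : Rt tE7 δ) (hu : E.ι u ∈ XR chevE7 7 2 δ) (hn : u ∈ normalizer (τ.range : Set L)) :
    ∀ t ∈ τ.range, u * t = t * u := by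
  by_contra hc
  have hu1 : u ≠ 1 := by
    rintro rfl
    exact hc fun t _ => by rw [one_mul, mul_one]
  obtain ⟨t, ht, h2⟩ := exists_pair (p := 2) (range_simple c.simple c.pair.inj) (range_noncomm c.noncomm c.pair.inj) hn hc
  rcases re.pair δ hδ (E.ι t) with h | ⟨z, b, hb, h3, h4⟩
  · refine h2 (pgroup_of (E := E) (z := 1) h ?_)
    rintro _ (rfl | rfl)
    · rw [one_mul, inv_one, mul_one]
      exact mem_sup_left hu
    · rw [one_mul, inv_one, mul_one, map_mul, map_mul, map_inv]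
      exact mem_sup_right ⟨_, hu, rfl⟩
  obtain ⟨s, hs⟩ := (mem_XR hb).1 (h3 _ hu)
  obtain ⟨s', hs'⟩ := (mem_XR hb.neg').1 (h4 _ hu)
  have hι : E.ι u ≠ 1 := fun h => hu1 (E.inj (h.trans (map_one _).symm))
  have n1 : s ≠ 0 := by
    rintro rfl
    rw [xc_zero hb] at hs
    exact hι (by simpa only [_root_.conj_eq_one_iff] using hs.symm)
  have n2 : s' ≠ 0 := by
    rintro rfl
    rw [xc_zero hb.neg'] at hs'
    exact hι (by simpa only [_root_.conj_eq_one_iff] using hs'.symm)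
  have hu2 : u * u = 1 := by
    obtain ⟨x, hx⟩ := (mem_XR hδ).1 hu
    exact E.inj (by rw [map_mul, map_one, ← hx, ← pow_two, xc_pow_p hδ])
  obtain ⟨κ, μ, hμ, e⟩ := exists_diag (tr_up_lo n1 n2)
  have e1 : z * E.ι (u * (t * u * t⁻¹)) * z⁻¹ = sl 2 hb (up s * lo s') := by
    rw [map_mul (sl 2 hb), sl_up, sl_lo, hs, hs', map_mul, map_mul, map_mul, map_inv]; group
  refine not_tor hb re p1 E hq c (w := u * (t * u * t⁻¹)) ?_ (fun h0 => ?_) (z := sl 2 hb κ * z) hμ ?_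
  · have h5 := mul_mem (conj_mem_of_norm hn ht) (inv_mem ht)
    rwa [inv_eq_of_mul_eq_one_right hu2, mul_assoc, mul_assoc, ← mul_assoc t] at h5
  · rw [h0, map_one, mul_one, mul_inv_cancel, ← map_one (sl 2 hb)] at e1
    refine tr_up_lo n1 n2 ?_
    rw [← sl_inj hb e1, tr, one00, one11]
    norm_num
  · rw [← e, map_mul (sl 2 hb), map_mul (sl 2 hb), map_inv, ← e1]; group

/-- Lemma A for the images of `α U` -/
theorem lemA' (re : BoxRE) (p1 : BoxP1) (E : F7 L) (hq : 4 ≤ E.q) (c : Core τ α β R R') (θ : MulAut L) {u : L}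
    {δ : Lat 7} (hδ : Rt tE7 δ) (hu : E.ι u ∈ XR chevE7 7 2 δ)
    (hn : u ∈ normalizer ((α.range.map θ.toMonoidHom : Subgroup L) : Set L)) :
    ∀ t ∈ α.range.map θ.toMonoidHom, u * t = t * u := by
  obtain ⟨θ₁, h₁⟩ := c.aconj
  have h2 : (θ.toMonoidHom.comp (θ₁.toMonoidHom.comp τ)).range = α.range.map θ.toMonoidHom := by
    rw [range_comp_equiv, range_comp_equiv, h₁]
  rw [← h2] at hn ⊢
  exact lemA re p1 E hq ((c.map θ₁).map θ) hδ hu hn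

/-- **Lemma B**: two root elements normalizing `α U R'` -/
theorem lemB (re : BoxRE) (p1 : BoxP1) (E : F7 L) (hq : 4 ≤ E.q) (c : Core τ α β R R') {u₁ u₂ : L} {δ : Lat 7}
    (hδ : Rt tE7 δ) (h₁ : E.ι u₁ ∈ XR chevE7 7 2 δ) (h₂ : E.ι u₂ ∈ XR chevE7 7 2 δ) (n₁ : u₁ ≠ 1) (n₂ : u₂ ≠ 1)
    (n₁₂ : u₁ ≠ u₂) (m₁ : u₁ ∈ normalizer ((α.range ⊔ R' : Subgroup L) : Set L))
    (m₂ : u₂ ∈ normalizer ((α.range ⊔ R' : Subgroup L) : Set L)) :
    ∀ a ∈ α.range, ∀ x ∈ XR chevE7 7 2 δ, E.ι a * x = x * E.ι a := by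
  have key : ∀ u : L, E.ι u ∈ XR chevE7 7 2 δ → u ≠ 1 → u ∈ normalizer (α.range : Set L) →
      ∀ a ∈ α.range, ∀ x ∈ XR chevE7 7 2 δ, E.ι a * x = x * E.ι a := fun u hu h1 hn a ha => by
    have h2 := lemA' re p1 E hq c 1 hδ hu (by rwa [stab_one]) a (by rwa [stab_one])
    exact re.cent δ hδ _ hu (fun h => h1 (E.inj (h.trans (map_one _).symm))) _ (by rw [← map_mul, ← h2, map_mul])
  rcases norm_or_comm c.simple c.pair' m₁ with k₁ | k₁
  · exact key u₁ h₁ n₁ k₁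
  rcases norm_or_comm c.simple c.pair' m₂ with k₂ | k₂
  · exact key u₂ h₂ n₂ k₂
  rcases norm_or_comm c.simple c.pair' (mul_mem (inv_mem m₁) m₂) with k₃ | k₃
  · exact key _ (by rw [map_mul, map_inv]; exact mul_mem (inv_mem h₁) h₂) (fun h => n₁₂ (inv_mul_eq_one.1 h)) k₃
  exfalso
  obtain ⟨v, hv⟩ := exists_not_two c.simple c.noncomm
  have ha : α v ∈ α.range := ⟨v, rfl⟩
  have sq : ∀ u : L, E.ι u ∈ XR chevE7 7 2 δ → u⁻¹ = u := fun u hu => by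
    obtain ⟨x, hx⟩ := (mem_XR hδ).1 hu
    exact inv_eq_of_mul_eq_one_right (E.inj (by rw [map_mul, map_one, ← hx, ← pow_two, xc_pow_p hδ]))
  have w : ∀ u : L, E.ι u ∈ XR chevE7 7 2 δ → u * (α v * u * (α v)⁻¹) = u * α v * u⁻¹ * (α v)⁻¹ := fun u hu => by
    rw [sq u hu]; group
  rcases re.pair δ hδ (E.ι (α v)) with h | ⟨z, b, hb, h3, h4⟩
  · have h2 : IsPGroup 2 (_root_.Subgroup.closure {u₁, α v * u₁ * (α v)⁻¹} : Subgroup L) := by
      refine pgroup_of (E := E) (z := 1) h ?_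
      rintro _ (rfl | rfl)
      · rw [one_mul, inv_one, mul_one]
        exact mem_sup_left h₁
      · rw [one_mul, inv_one, mul_one, map_mul, map_mul, map_inv]
        exact mem_sup_right ⟨_, h₁, rfl⟩
    obtain ⟨k, hk⟩ := h2 ⟨u₁ * (α v * u₁ * (α v)⁻¹), mul_mem (_root_.Subgroup.subset_closure (Or.inl rfl)) (_root_.Subgroup.subset_closure (Or.inr rfl))⟩
    have h3 : (u₁ * α v * u₁⁻¹ * (α v)⁻¹) ^ 2 ^ k = 1 := by
      rw [← w u₁ h₁]
      exact congrArg Subtype.val hk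
    have h4 : Commute (u₁ * α v * u₁⁻¹) (α v)⁻¹ := k₁ _ ha _ (inv_mem ha)
    rw [h4.mul_pow, conj_pow, inv_pow, mul_inv_eq_one, ← map_pow] at h3
    refine hv k (eq_one_of_comm c.simple c.noncomm fun x => c.pair'.inj ?_)
    rw [map_mul, map_mul, ← h3]
    exact k₁ _ ⟨_, rfl⟩ _ ⟨x, rfl⟩
  have co : ∀ u : L, E.ι u ∈ XR chevE7 7 2 δ → u ≠ 1 → ∃ s t : kb 2, s ≠ 0 ∧ t ≠ 0 ∧ xc tE7 b s = z * E.ι u * z⁻¹ ∧
      z * E.ι (u * α v * u⁻¹ * (α v)⁻¹) * z⁻¹ = sl 2 hb (up s * lo t) := fun u hu hu1 => by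
    obtain ⟨s, hs⟩ := (mem_XR hb).1 (h3 _ hu)
    obtain ⟨s', hs'⟩ := (mem_XR hb.neg').1 (h4 _ hu)
    have hι : E.ι u ≠ 1 := fun h => hu1 (E.inj (h.trans (map_one _).symm))
    refine ⟨s, s', ?_, ?_, hs, ?_⟩
    · rintro rfl
      rw [xc_zero hb] at hs
      exact hι (by simpa only [_root_.conj_eq_one_iff] using hs.symm)
    · rintro rfl
      rw [xc_zero hb.neg'] at hs'
      exact hι (by simpa only [_root_.conj_eq_one_iff] using hs'.symm)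
    · rw [← w u hu, map_mul (sl 2 hb), sl_up, sl_lo, hs, hs', map_mul, map_mul, map_mul, map_inv]; group
  obtain ⟨s₁, t₁, hs₁, ht₁, e₁, f₁⟩ := co u₁ h₁ n₁
  obtain ⟨s₂, t₂, hs₂, ht₂, e₂, f₂⟩ := co u₂ h₂ n₂
  have c1 : Commute (u₁ * α v * u₁⁻¹) (α v)⁻¹ := k₁ _ ha _ (inv_mem ha)
  have c2 : Commute (u₂ * α v * u₂⁻¹) (α v)⁻¹ := k₂ _ ha _ (inv_mem ha)
  have c3 : Commute (u₁ * α v * u₁⁻¹) (u₂ * α v * u₂⁻¹) := by
    have h5 := k₃ _ ha _ ha
    show _ = _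
    calc u₁ * α v * u₁⁻¹ * (u₂ * α v * u₂⁻¹) = u₁ * (α v * (u₁⁻¹ * u₂ * α v * (u₁⁻¹ * u₂)⁻¹)) * u₁⁻¹ := by group
      _ = _ := by rw [← h5]; group
  have c4 : Commute (u₁ * α v * u₁⁻¹ * (α v)⁻¹) (u₂ * α v * u₂⁻¹ * (α v)⁻¹) :=
    (c3.mul_right c1).mul_left (c2.symm.mul_right (Commute.refl _))
  have h5 : s₁ = s₂ := by
    refine eq_of_comm_up_lo hs₁ hs₂ ht₁ (t' := t₂) (sl_inj hb ?_)
    rw [map_mul (sl 2 hb) (up s₁ * lo t₁), map_mul (sl 2 hb) (up s₂ * lo t₂), ← f₁, ← f₂, conj_mul, conj_mul, ← map_mul,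
      ← map_mul, c4.eq]
  rw [h5, e₂] at e₁
  exact n₁₂ (E.inj (by simpa only [_root_.mul_left_inj, _root_.mul_right_inj] using e₁.symm))

end Cfsg.Agent.Cam.Ex.E2
end

-- part: Cam/Ex/E2C
section
/-!
# S3689, S3690, `E₇` in characteristic two: the end (helper53)
-/

set_option autoImplicit false
set_option linter.unusedVariables false
set_option linter.unusedSectionVars false

namespace Cfsg.Agent.Cam.Ex.E2

open CoxeterSystem Cfsg Cfsg.Lie Subgroup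
open Cfsg.Agent.ChevalleyStructure.CoxeterGeom Cfsg.Agent.ChevalleyStructure.CoxeterGeomTypes
open Cfsg.Agent.Tits.Roots Cfsg.Agent.Nodes.BNOf Cfsg.Agent.Nodes.RGDChev Cfsg.Agent.Nodes.Coroot
open Cfsg.Agent.KFacts.RgdChevCoord Cfsg.Agent.BpExc.TorCent Cfsg.Agent.BpExc.LangFr
open Cfsg.Agent.Cam.Spor Cfsg.Agent.Cam.Ex.S2 Cfsg.Agent.Cam.Ex.En Cfsg.Agent.TwoFusion.PerfCore
open Cfsg.Agent.ChevalleyStructure.SL2Hom (up lo)
open Cfsg.Agent.Nodes.RGDFoldSL (hS wS)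
open Cfsg.Agent.DS.Nt (RP)
open scoped commutatorElement

/-- frame automorphisms -/
abbrev FA (β : MulAut Y7) (γ : Lat 7 ≃+ Lat 7) : Prop :=
  BpExc.Fr.Fr CoxeterMatrix.E₇.toCoxeterSystem tE7.isCartan (TT chevE7 (kb 2)) (XX chevE7 7 (kb 2)) β γ

theorem fr_sl {β : MulAut Y7} {γ : Lat 7 ≃+ Lat 7} (F : FA β γ) {c b : Lat 7} (hc : Rt tE7 c) (hb : Rt tE7 b)
    (e : γ c = b) {y : Y7} (hy : y ∈ (sl 2 hc).range) : β y ∈ (sl 2 hb).range := by
  rw [sl_range] at hy ⊢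
  refine (F.mem_Sup (S := {c, -c}) (S' := {b, -b}) (by rintro _ (rfl | rfl); exacts [hc, hc.neg']) (fun a => ?_) y).2 hy
  simp only [Set.mem_insert_iff, Set.mem_singleton_iff]
  rw [← e, ← map_neg, γ.injective.eq_iff, γ.injective.eq_iff]

theorem conj_mem_of_cz {b : Lat 7} (hb : Rt tE7 b) {m y : Y7} (hm : Cz (sl 2 hb) m) (hy : y ∈ (sl 2 hb).range) :
    m * y * m⁻¹ = y := by
  obtain ⟨j, rfl⟩ := hy
  rw [hm j, mul_inv_cancel_right]

/-- an element of `W` fixing orthogonal roots up to sign -/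
theorem exists_adj {ι : Type} [Finite ι] {b : ι → Lat 7} (hb : ∀ i, Rt tE7 (b i))
    (ho : ∀ i j, b i = b j ∨ cp tE7 (b i) (b j) = 0) {w : CoxeterMatrix.E₇.Group}
    (hw : ∀ i, wa tE7 w (b i) = b i ∨ wa tE7 w (b i) = -b i) :
    ∃ w', (∀ i, wa tE7 w' (b i) = b i) ∧ ∀ a, (∀ i, cp tE7 a (b i) = 0) → wa tE7 w' a = wa tE7 w a := by
  classical
  have := Fintype.ofFinite ι
  have key : ∀ s : Finset ι, ∃ w', (∀ i ∈ s, wa tE7 w' (b i) = b i) ∧
      (∀ i, wa tE7 w' (b i) = b i ∨ wa tE7 w' (b i) = -b i) ∧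
      ∀ a, (∀ i, cp tE7 a (b i) = 0) → wa tE7 w' a = wa tE7 w a := by
    intro s
    induction s using Finset.induction_on with
    | empty => exact ⟨w, by simp, hw, fun _ _ => rfl⟩
    | insert i s hi ih =>
      obtain ⟨w', h1, h2, h3⟩ := ih
      rcases h2 i with h4 | h4
      · exact ⟨w', fun j hj => (Finset.mem_insert.1 hj).elim (fun e => e ▸ h4) (h1 j), h2, h3⟩
      obtain ⟨v, -, hv⟩ := exists_refl (hb i) (S := {b i}) rfl
      have v1 : wa tE7 v (b i) = -b i := by rw [hv, cp_self (hb i), two_smul]; abel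
      have v2 : ∀ x, cp tE7 x (b i) = 0 → wa tE7 v x = x := fun x hx => by rw [hv, hx, zero_smul, sub_zero]
      refine ⟨v * w', fun j hj => ?_, fun j => ?_, fun a ha => ?_⟩
      · rw [wa_mul]
        rcases Finset.mem_insert.1 hj with rfl | hj
        · rw [h4, wa_neg, v1, neg_neg]
        · rcases ho j i with e | e
          · have h5 := h1 j hj
            rw [e, h4] at h5
            exact absurd h5.symm (hb i).ne_neg
          · rw [h1 j hj, v2 _ e]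
      · rw [wa_mul]
        have h5 : wa tE7 v (b j) = b j ∨ wa tE7 v (b j) = -b j :=
          (ho j i).elim (fun e => Or.inr (by rw [e, v1])) fun e => Or.inl (v2 _ e)
        rcases h2 j with e | e <;> rcases h5 with e' | e'
        · exact Or.inl (by rw [e, e'])
        · exact Or.inr (by rw [e, e'])
        · exact Or.inr (by rw [e, wa_neg, e'])
        · exact Or.inl (by rw [e, wa_neg, e', neg_neg])
      · rw [wa_mul, v2, h3 a ha]
        have h5 := cp_wa w' a (hb i)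
        rw [h4, cp_neg_right _ (hb i), ha i] at h5
        omega
  obtain ⟨w', h1, -, h3⟩ := key Finset.univ
  exact ⟨w', fun i => h1 i (Finset.mem_univ i), h3⟩

variable {L : Type} [Group L] [Finite L]

/-- the image of a root `SL₂` under an automorphism of `L` -/
theorem loc (fx : BoxFExt) {E E' : F7 L} (hE : E.Cj E') {c : Lat 7} (hc : Rt tE7 c) (θ : MulAut L) {w : L}
    (hw : E.ι w ∈ (sl 2 hc).range) (hw2 : w * w ≠ 1) (hT : E'.ι (θ w) ∈ T7) :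
    ∃ (b : Lat 7) (hb : Rt tE7 b) (μ : kb 2), μ ≠ 0 ∧ μ ≠ 1 ∧ E'.ι (θ w) = sl 2 hb (hS μ) ∧
      ∀ k, E.ι k ∈ (sl 2 hc).range → E'.ι (θ k) ∈ (sl 2 hb).range := by
  obtain ⟨y, β, γ, F, hθ⟩ := fx L E θ
  obtain ⟨-, z, hz⟩ := hE
  obtain ⟨j, hj⟩ := hw
  obtain ⟨κ, ν, hν, e⟩ := exists_diag (j := j) fun h => hw2 (E.inj (by
    rw [map_mul, ← hj, ← map_mul, sq_of_tr h, map_one, map_one]))
  have hγ : Rt tE7 (γ c) := (F.root c).2 hc
  have h1 : ∀ k, E'.ι (θ k) = (z⁻¹ * y * (β (sl 2 hc κ))⁻¹) * β (sl 2 hc κ * E.ι k * (sl 2 hc κ)⁻¹) *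
      (z⁻¹ * y * (β (sl 2 hc κ))⁻¹)⁻¹ := fun k => by
    rw [hz, hθ, map_mul, map_mul, map_inv]; group
  have h2 : sl 2 hc κ * E.ι w * (sl 2 hc κ)⁻¹ = sl 2 hc (hS ν) := by rw [← hj, ← e, map_mul, map_mul, map_inv]
  have h3 : β (sl 2 hc (hS ν)) ∈ T7 := (F.tor _).2 (sl_hS_mem hc hν)
  obtain ⟨m, hm, v, k, hk, e1, e2⟩ := form_one (hp := tE7) h3 hT (n := z⁻¹ * y * (β (sl 2 hc κ))⁻¹) (by rw [h1, h2])
  have hb : Rt tE7 (wa tE7 v (γ c)) := hγ.wa' v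
  have h4 : ∀ x ∈ (sl 2 hc).range, k * β x * k⁻¹ ∈ (sl 2 hb).range := fun x hx =>
    fr_sl hk.fr hγ hb rfl (fr_sl F hc hγ rfl hx)
  obtain ⟨μ, hμ, e3⟩ := tor_sl hb hT (e1 ▸ h4 _ ⟨_, rfl⟩)
  have hμ1 : μ ≠ 1 := fun h => hw2 (by
    have h5 : E'.ι (θ w) = E'.ι (θ 1) := by rw [e3, h, hS_one, map_one, map_one, map_one]
    rw [θ.injective (E'.inj h5), one_mul])
  refine ⟨_, hb, μ, hμ, hμ1, e3, fun x hx => ?_⟩
  rw [e3, psiS_h hb hμ hμ1] at hm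
  have h5 := h4 _ (mul_mem (mul_mem (MonoidHom.mem_range.2 ⟨κ, rfl⟩) hx) (inv_mem (MonoidHom.mem_range.2 ⟨κ, rfl⟩)))
  rw [← conj_mem_of_cz hb (cz_MS_ort hb hm) h5] at h5
  rw [h1, e2]
  convert h5 using 1
  group

/-- two fixed root elements -/
theorem exists_two (E : F7 L) (hq : 4 ≤ E.q) {δ : Lat 7} (hδ : Rt tE7 δ) (hg : E.g δ = δ) :
    ∃ u₁ u₂ : L, E.ι u₁ ∈ XR chevE7 7 2 δ ∧ E.ι u₂ ∈ XR chevE7 7 2 δ ∧ u₁ ≠ 1 ∧ u₂ ≠ 1 ∧ u₁ ≠ u₂ := by
  obtain ⟨μ, hμ, h1, -⟩ := sl_frob E hδ hg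
  obtain ⟨s, hs, e⟩ := exists_fix_pow hμ (two_le_q E)
  have h2 : (E.q - 1).Coprime 2 := by
    have h3 : 2 ∣ E.q := dvd_pow_self 2 E.he.ne'
    exact (Nat.coprime_two_right).2 (Nat.Even.sub_odd (by omega) (even_iff_two_dvd.2 h3) odd_one)
  obtain ⟨ω, hω⟩ := exists_zeta 2 h2
  have hω0 : ω ≠ 0 := hω.ne_zero (by omega)
  have hω1 : ω ≠ 1 := hω.ne_one (by omega)
  have hωq : ω ^ E.q = ω := by rw [show E.q = E.q - 1 + 1 by omega, pow_succ, hω.pow_eq_one, one_mul]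
  obtain ⟨u₁, e₁⟩ := xc_mem_range E hδ (s := s) (by rw [h1, e])
  obtain ⟨u₂, e₂⟩ := xc_mem_range E hδ (s := ω * s) (by rw [h1, mul_pow, hωq, mul_left_comm, e])
  refine ⟨u₁, u₂, e₁ ▸ xc_mem_XR hδ s, e₂ ▸ xc_mem_XR hδ _, fun h => hs ?_, fun h => mul_ne_zero hω0 hs ?_, fun h => ?_⟩
  · exact (xc_eq_one hδ).1 (by rw [← e₁, h, map_one])
  · exact (xc_eq_one hδ).1 (by rw [← e₂, h, map_one])
  · have h3 := xc_injective hδ (e₁.symm.trans (h ▸ e₂))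
    exact hω1 (mul_right_cancel₀ hs (by rw [one_mul, ← h3]))

variable {U : Type} [Group U] [Finite U] {τ α β : U →* L} {R R' : Subgroup L}

section setup

variable (E : F7 L) {c : Lat 7} (hc : Rt tE7 c)

/-- the fixed points of the root `SL₂` -/
noncomputable def KF : Subgroup L := (sl 2 hc).range.comap E.ι

/-- the centralizer of the root `SL₂` -/
noncomputable def CF : Subgroup L := (innSub (sl 2 hc) ⊥).comap E.ι

theorem mem_CF {x : L} : x ∈ CF E hc ↔ Cz (sl 2 hc) (E.ι x) := mem_innSub_bot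

theorem KF_comm {k x : L} (hk : k ∈ KF E hc) (hx : x ∈ CF E hc) : k * x = x * k := by
  obtain ⟨j, hj⟩ := hk
  exact E.inj (by rw [map_mul, map_mul, ← hj, (mem_CF E hc).1 hx j])

variable {H : Subgroup L} (hle : H.map E.ι ≤ MS chevE7 7 2 (Lam c))

include hle in
theorem two_CF (A B : Subgroup L) (hA : A ≤ H) (hB : B ≤ H) (hp : ⁅A, A⁆ = A) (h : ∀ a ∈ A, ∀ b ∈ B, a * b = b * a) :
    A ≤ CF E hc ∨ B ≤ CF E hc := by
  refine or_iff_not_imp_left.2 fun h1 b hb => (mem_CF E hc).2 ?_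
  obtain ⟨j, hj⟩ := (spl_lam hc).inn hc (hle (mem_map_of_mem _ (hB hb)))
  refine (sl_ck hc).cz_of_perfect (map_perfect hp E.ι) (fun y hy => (spl_lam hc).inn hc (hle (map_mono hA hy)))
    (fun h2 => h1 fun a ha => (mem_CF E hc).2 (h2 _ (mem_map_of_mem _ ha))) hj ?_
  rintro _ ⟨a, ha, rfl⟩
  rw [← map_mul, ← h a ha b hb, map_mul]

include hle in
theorem dec_CF (hg : E.g c = c) {e : L} (he : e ∈ H) : ∃ k ∈ KF E hc, k⁻¹ * e ∈ CF E hc := by
  obtain ⟨j, m, hm, e1⟩ := (spl_lam hc).dec hc (hle (mem_map_of_mem _ he))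
  rw [off_lam hc] at hm
  have h1 : E.F (sl 2 hc j) ∈ (sl 2 hc).range := fr_sl E.fr hc hc hg ⟨j, rfl⟩
  have h2 : E.F m ∈ MS chevE7 7 2 (Ort c) := by
    refine (E.fr.mem_Sup (S := Ort c) (S' := Ort c) (fun a ha => ha.1) (fun a => ?_) m).2 hm
    have h3 := E.gcp a c hc
    rw [hg] at h3
    exact and_congr (E.fr.root a) (by rw [h3])
  have h3 := E.fix e
  rw [e1, map_mul] at h3
  have h4 : (sl 2 hc j)⁻¹ * E.F (sl 2 hc j) = m * (E.F m)⁻¹ := by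
    rw [inv_mul_eq_iff_eq_mul, ← mul_assoc, ← h3, mul_inv_cancel_right]
  have h5 : (sl 2 hc j)⁻¹ * E.F (sl 2 hc j) = 1 :=
    eq_one_of_cz hc (mul_mem (inv_mem (MonoidHom.mem_range.2 ⟨j, rfl⟩)) h1)
      (by rw [h4]; exact cz_MS_ort hc (mul_mem hm (inv_mem h2)))
  obtain ⟨k, hk⟩ := mem_range E (inv_mul_eq_one.1 h5).symm
  refine ⟨k, ⟨j, hk.symm⟩, (mem_CF E hc).2 ?_⟩
  rw [map_mul, map_inv, hk, e1, inv_mul_cancel_left]
  exact cz_MS_ort hc hm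

end setup

/-- **`E₇` in characteristic two.** -/
theorem e7two (fx : BoxFExt) (re : BoxRE) (p1 : BoxP1) : E7Two := by
  intro L _ _ E U _ _ τ α β R R' co c hc hg hq hle
  set H := α.range ⊔ R' with hH
  have hαp := range_perfect co.simple co.noncomm α
  have hα0 : α.range ≠ ⊥ := fun h => co.noncomm ⟨⟨fun a b => co.pair'.inj (by
    have h1 : ∀ x, α x = 1 := fun x => mem_bot.1 (h ▸ (⟨x, rfl⟩ : α x ∈ α.range))
    rw [h1, h1])⟩⟩
  obtain ⟨u, -, hu, -, hu1, -⟩ := exists_two E hq hc hg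
  have huK : u ∈ KF E hc := X_le_sl hc hu
  -- the images of `α U` centralize `K`
  have s2 : ∀ θ : MulAut L, H.map θ.toMonoidHom = H → α.range.map θ.toMonoidHom ≤ CF E hc := fun θ hθ => by
    have pr := co.pair'.map θ
    refine (two_CF E hc hle _ (R'.map θ.toMonoidHom) ((map_mono le_sup_left).trans hθ.le)
      ((map_mono le_sup_right).trans hθ.le) (map_perfect hαp _) ?_).resolve_right fun h => hu1 ?_
    · rintro _ ⟨_, ⟨v, rfl⟩, rfl⟩ y hy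
      exact pr.comm v y hy
    · have h1 : u ∈ centralizer ((R'.map θ.toMonoidHom : Subgroup L) : Set L) :=
        mem_centralizer_iff.2 fun y hy => (KF_comm E hc huK (h hy)).symm
      have h2 := pr.cnorm h1
      rw [range_comp_equiv] at h2
      exact pr.cfaith u h1 fun v => lemA' re p1 E hq co θ hc hu h2 _ ⟨_, ⟨v, rfl⟩, rfl⟩
  have sp : Sp H (KF E hc) (CF E hc) :=
    { perf := perfect_sup hαp co.pair'.perfect
      dec := fun e he => dec_CF E hc hle hg he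
      disj := fun x hx hx' => E.inj ((eq_one_of_cz hc hx ((mem_CF E hc).1 hx')).trans (map_one _).symm)
      comm := fun k hk x hx => KF_comm E hc hk hx
      two := two_CF E hc hle
      norm := fun k hk => orbC_le co E.simple E.noncomm hα0 fun θ hθ a ha =>
        (KF_comm E hc hk (s2 θ hθ (mem_map_of_mem _ ha))).symm }
  set P := KF E hc ⊓ H with hP
  have hP0 : P ≠ ⊥ := sp.ne_bot fun h => hu1 (eq_one_of_cent co.pair' fun y hy => KF_comm E hc huK (h hy))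
  obtain ⟨r, hr, h5, w, hw, hwr⟩ := exists_five sp.perfect hP0
  have hw2 : w * w ≠ 1 := fun h => by
    have h1 : r ∣ 2 := hwr ▸ orderOf_dvd_of_pow_eq_one (by rwa [pow_two])
    have := Nat.le_of_dvd two_pos h1
    omega
  -- the orbit of `P`
  let I := {Q : Subgroup L // ∃ θ : MulAut L, H.map θ.toMonoidHom = H ∧ Q = P.map θ.toMonoidHom}
  choose θ hθ hθ' using fun Q : I => Q.2
  have hwQ : ∀ Q : I, θ Q w ∈ Q.1 := fun Q => by rw [hθ' Q]; exact mem_map_of_mem _ hw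
  have hII : ∀ Q Q' : I, Q = Q' ∨ ∀ a ∈ Q.1, ∀ b ∈ Q'.1, a * b = b * a := fun Q Q' => by
    rw [Subtype.ext_iff, hθ' Q, hθ' Q']
    exact sp.orb (hθ Q) (hθ Q')
  have hww : ∀ x ∈ Set.range fun Q : I => θ Q w, ∀ y ∈ Set.range fun Q : I => θ Q w, x * y = y * x := by
    rintro _ ⟨Q, rfl⟩ _ ⟨Q', rfl⟩
    rcases hII Q Q' with rfl | h
    · rfl
    · exact h _ (hwQ Q) _ (hwQ Q')
  have hwp : ∀ Q : I, θ Q w ^ r = 1 := fun Q => by rw [← map_pow, ← hwr, pow_orderOf_eq_one, map_one]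
  obtain ⟨E', hE, hT⟩ := E.exists_tor (by norm_num) hr h5 (by omega) (Q := _root_.Subgroup.closure (Set.range fun Q : I => θ Q w))
    (DS.Nt.isPGroup_of_comm hww (by rintro _ ⟨Q, rfl⟩; exact ⟨1, by rw [pow_one, hwp]⟩))
    (fun x hx y hy => by
      have := (isMulCommutative_closure hww).is_comm.comm ⟨x, hx⟩ ⟨y, hy⟩
      exact congrArg Subtype.val this)
  have hT' : ∀ Q : I, E'.ι (θ Q w) ∈ T7 := fun Q => hT _ (subset_closure ⟨Q, rfl⟩)
  choose b hb μ hμ0 hμ1 eb hK using fun Q : I => loc fx hE hc (θ Q) hw.1 hw2 (hT' Q)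
  have hQK : ∀ Q : I, ∀ x ∈ Q.1, E'.ι x ∈ (sl 2 (hb Q)).range := fun Q x hx => by
    rw [hθ' Q] at hx
    obtain ⟨k, hk, rfl⟩ := hx
    exact hK Q k hk.1
  have ho : ∀ Q Q' : I, b Q = b Q' ∨ cp tE7 (b Q) (b Q') = 0 := fun Q Q' => by
    rcases hII Q Q' with rfl | h
    · exact Or.inl rfl
    obtain ⟨a, -, -, ha⟩ := inn_T (hb Q) (hT' Q')
    have h1 : Cz (sl 2 (hb Q)) (E'.ι (θ Q' w)) := by
      refine (sl_ck (hb Q)).cz_of_perfect (R := Q.1.map E'.ι) (map_perfect ?_ _) ?_ (fun h2 => hw2 ?_) ha ?_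
      · rw [hθ' Q]
        exact map_perfect sp.perfect _
      · rintro _ ⟨x, hx, rfl⟩
        obtain ⟨j, hj⟩ := hQK Q x hx
        exact ⟨j, hj ▸ DS.Nt.JL.Inn.self j⟩
      · have h3 := eq_one_of_cz (hb Q) (hQK Q _ (hwQ Q)) (h2 _ (mem_map_of_mem _ (hwQ Q)))
        have h4 : E'.ι (θ Q w) = E'.ι (θ Q 1) := by rw [h3, map_one, map_one]
        rw [(θ Q).injective (E'.inj h4), one_mul]
      · rintro _ ⟨x, hx, rfl⟩
        rw [← map_mul, ← h x hx _ (hwQ Q'), map_mul]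
    have h2 : b Q ∈ PsiS tE7 {sl 2 (hb Q') (hS (μ Q'))} :=
      ⟨hb Q, by rintro _ rfl; rw [← eb]; exact (cz_T (hb Q) (hT' Q')).1 h1⟩
    rw [psiS_h (hb Q') (hμ0 Q') (hμ1 Q')] at h2
    exact Or.inr h2.2
  -- the roots orthogonal to all the `b Q`
  set Z : Set Y7 := Set.range fun Q : I => E'.ι (θ Q w) with hZ
  have hZT : ∀ t ∈ Z, t ∈ T7 ∧ t ^ r = 1 := by
    rintro _ ⟨Q, rfl⟩
    exact ⟨hT' Q, by rw [← map_pow, hwp, map_one]⟩
  have hΘ : ∀ a, a ∈ PsiS tE7 Z ↔ Rt tE7 a ∧ ∀ Q, cp tE7 a (b Q) = 0 := fun a => by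
    refine and_congr_right fun ha => ?_
    rw [hZ, Set.forall_mem_range]
    refine forall_congr' fun Q => ?_
    have h1 := Set.ext_iff.1 (psiS_h (hb Q) (hμ0 Q) (hμ1 Q)) a
    rw [eb]
    exact ⟨fun h => (h1.1 ⟨ha, by rintro _ rfl; exact h⟩).2, fun h => (h1.2 ⟨ha, h⟩).2 _ rfl⟩
  obtain ⟨w₀, hw₀⟩ := E'.gr
  have hw₀' : ∀ a, E'.g a = wa tE7 w₀ a := fun a => by rw [hw₀, sg_apply, Units.val_one, one_smul]
  obtain ⟨w₁, h₁, h₂⟩ := exists_adj hb ho (w := w₀) fun Q => by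
    rw [← hw₀']
    exact g_pm (hb Q) re E' (hμ0 Q) (hμ1 Q) ⟨_, eb Q⟩
  have h₃ : w₁ ∈ WW tE7 (PsiS tE7 Z) := by
    refine mem_WW_of_ch tE7 (by norm_num) hr h5 (fun t ht => ⟨(hZT t ht).1, 1, by rw [pow_one, (hZT t ht).2]⟩) ?_
    rintro a ha _ ⟨Q, rfl⟩
    have h1 := cp_wa w₁ a (hb Q)
    rw [h₁] at h1
    show ch tE7 _ (E'.ι (θ Q w)) = ch tE7 _ (E'.ι (θ Q w))
    rw [eb, ch_sl_hS (hb Q) (hμ0 Q) (ha.wa' w₁), ch_sl_hS (hb Q) (hμ0 Q) ha, h1]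
  obtain ⟨z, hz, hrp⟩ := exists_move_MS E' (S := PsiS tE7 Z) (fun a ha => ha.1)
    (cs_psiS fun t ht => (hZT t ht).1).neg
    (fun a ha => (g_psiS E' (by rintro _ ⟨Q, rfl⟩; exact ⟨hT' Q, E'.fix _⟩) a).2 ha) (inv_mem h₃)
  set E₂ := E'.move z w₁⁻¹ hrp with hE₂
  have hq₂ : 4 ≤ E₂.q := by rwa [hE₂, Frame.move_q, cj_q hE]
  have hzc : ∀ Q : I, Cz (sl 2 (hb Q)) z⁻¹ := fun Q =>
    cz_MS_ort (hb Q) (RGD.Sup_mono (S' := Ort (b Q)) (fun a ha => ⟨ha.1, ((hΘ a).1 ha).2 Q⟩) (inv_mem hz))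
  have hQ₂ : ∀ Q : I, ∀ x ∈ Q.1, E₂.ι x ∈ (sl 2 (hb Q)).range := fun Q x hx => by
    have h1 := conj_mem_of_cz (hb Q) (hzc Q) (hQK Q x hx)
    rw [inv_inv] at h1
    rw [hE₂, Frame.move_ι, h1]
    exact hQK Q x hx
  have hJ : ∀ δ ∈ PsiS tE7 Z, ∀ x : L, E₂.ι x ∈ XR chevE7 7 2 δ → x ∈ normalizer (H : Set L) := fun δ hδ x hx => by
    refine orbC_le co E.simple E.noncomm hP0 fun φ hφ a ha => E₂.inj ?_
    let Q : I := ⟨_, φ, hφ, rfl⟩
    obtain ⟨j, hj⟩ := hQ₂ Q (φ a) (mem_map_of_mem _ ha)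
    rw [map_mul, map_mul, ← hj]
    have h1 : δ ∈ Ort (b Q) := ⟨hδ.1, ((hΘ δ).1 hδ).2 Q⟩
    have h2 : Cz (sl 2 (hb Q)) (E₂.ι x) := cz_ort (hb Q) h1 hx
    rw [h2 j]
  have hB : ∀ a ∈ α.range, MS chevE7 7 2 (PsiS tE7 Z) ≤ centralizer {E₂.ι a} := fun a ha => by
    refine RGD.Sup_le fun δ hδ x hx => mem_centralizer_singleton_iff.2 ?_
    obtain ⟨u₁, u₂, m₁, m₂, n₁, n₂, n₃⟩ := exists_two E₂ hq₂ hδ.1 (by
      rw [hE₂, Frame.move_g, hw₀', ← h₂ δ ((hΘ δ).1 hδ).2, wa_inv_wa])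
    exact (lemB re p1 E₂ hq₂ co hδ.1 m₁ m₂ n₁ n₂ n₃ (hJ δ hδ _ m₁) (hJ δ hδ _ m₂) a ha x hx).symm
  have hM : α.range.map E'.ι ≤ MS chevE7 7 2 (PsiS tE7 Z) := by
    refine E'.perf_le hr hZT hαp ?_
    rintro _ ⟨Q, rfl⟩ y hy
    have h1 := congrArg (θ Q) (KF_comm E hc hw.1 (s2 (θ Q)⁻¹ (stab_inv (hθ Q)) (mem_map_of_mem _ hy)))
    have h2 : θ Q ((θ Q)⁻¹.toMonoidHom y) = y := MulAut.apply_inv_self L (θ Q) y
    rw [map_mul, map_mul, h2] at h1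
    show E'.ι (θ Q w) * _ = _ * E'.ι (θ Q w)
    rw [← map_mul, h1, map_mul]
  refine hα0 (eq_bot_of_perfect_comm hαp fun a ha a' ha' => E₂.inj ?_)
  have h1 : E₂.ι a ∈ MS chevE7 7 2 (PsiS tE7 Z) := by
    rw [hE₂, Frame.move_ι]
    exact mul_mem (mul_mem (inv_mem hz) (hM (mem_map_of_mem _ ha))) hz
  rw [map_mul, map_mul]
  exact mem_centralizer_singleton_iff.1 (hB a' ha' h1)

/-- **`BoxEnd`.** -/
theorem boxEnd (fx : BoxFExt) (re : BoxRE) (p1 : BoxP1) : BoxEnd := boxEnd_of (e7two fx re p1)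

end Cfsg.Agent.Cam.Ex.E2
end

-- part: Cam/Ex/E2D
section
/-!
# S3689, S3690, exceptional rows: `BoxP1` and `BoxEnd` (helper53)
-/

set_option autoImplicit false
set_option linter.unusedVariables false
set_option linter.unusedSectionVars false

namespace Cfsg.Agent.Cam.Ex.E2

open CoxeterSystem Cfsg Cfsg.Lie Subgroup
open Cfsg.Agent.ChevalleyStructure.CoxeterGeom Cfsg.Agent.ChevalleyStructure.CoxeterGeomTypes
open Cfsg.Agent.Tits.Roots Cfsg.Agent.Nodes.BNOf Cfsg.Agent.Nodes.RGDChev Cfsg.Agent.Nodes.Coroot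
open Cfsg.Agent.KFacts.RgdChevCoord Cfsg.Agent.BpExc.TorCent Cfsg.Agent.BpExc.LangFr
open Cfsg.Agent.Cam.Spor Cfsg.Agent.Cam.Ex.S2 Cfsg.Agent.Cam.Ex.En Cfsg.Agent.TwoFusion.PerfCore
open Cfsg.Agent.ChevalleyStructure.SL2Hom (up lo)
open Cfsg.Agent.Nodes.RGDFoldSL (hS wS)
open scoped commutatorElement

theorem frob_sl {D : ChevalleyDatum} {l : ℕ} {M : CoxeterMatrix (Fin l)} {hp : IsType D l M} {p : ℕ} [Fact p.Prime]
    {d : ℕ} {g0 : Lat l ≃+ Lat l} {L : Type} [Group L] (E : Frame hp p d g0 L) {c : Lat l} (hc : Rt hp c) {μ : kb p}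
    (hμ : μ ≠ 0) (h1 : ∀ s, E.F (xc hp c s) = xc hp c (μ * s ^ E.q))
    (h2 : ∀ s, E.F (xc hp (-c) s) = xc hp (-c) (μ⁻¹ * s ^ E.q)) (A : SL (kb p)) :
    E.F (sl p hc A) = sl p hc (P.sgm (iterateFrobenius (kb p) p E.e) hμ A) := by
  have hf : ∀ t : kb p, iterateFrobenius (kb p) p E.e t = t ^ E.q := fun t => iterateFrobenius_def _ _ _
  exact DFunLike.congr_fun (hom_ext (f := E.F.toMonoidHom.comp (sl p hc))
      (g := (sl p hc).comp (P.sgm (iterateFrobenius (kb p) p E.e) hμ))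
      (fun t => by
        show E.F (sl p hc (up t)) = sl p hc (P.sgm _ hμ (up t))
        rw [P.sgm_up, sl_up, sl_up, h1, hf])
      (fun t => by
        show E.F (sl p hc (lo t)) = sl p hc (P.sgm _ hμ (lo t))
        rw [P.sgm_lo, sl_lo, sl_lo, h2, hf])) A

variable {L : Type} [Group L] [Finite L] {U : Type} [Group U] [Finite U] {τ α β : U →* L} {R R' : Subgroup L}

theorem p1_fix (big : Big) (E : F7 L) (co : Core τ α β R R') {c : Lat 7} (hc : Rt tE7 c) (hg : E.g c = c)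
    (hq : 4 ≤ E.q) (hR : ∀ y ∈ R, Cz (sl 2 hc) (E.ι y)) : False := by
  obtain ⟨μ, hμ, h1, h2⟩ := sl_frob E hc hg
  obtain ⟨s, hs, e⟩ := exists_fix_pow hμ (two_le_q E)
  have hf : ∀ t : kb 2, iterateFrobenius (kb 2) 2 E.e t = t ^ E.q := fun t => iterateFrobenius_def _ _ _
  have hF := frob_sl E hc hμ h1 h2
  obtain ⟨r, hr, hd⟩ := Nat.exists_prime_and_dvd (n := E.q - 1) (by omega)
  have hr2 : r.Coprime 2 := by
    have h3 : 2 ∣ E.q := dvd_pow_self 2 E.he.ne'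
    exact Nat.Coprime.coprime_dvd_left hd
      ((Nat.coprime_two_right).2 (Nat.Even.sub_odd (by omega) (even_iff_two_dvd.2 h3) odd_one))
  obtain ⟨ω, hω⟩ := exists_zeta 2 hr2
  have hω0 : ω ≠ 0 := hω.ne_zero hr.ne_zero
  have hω1 : ω ≠ 1 := hω.ne_one hr.one_lt
  have hωq : ω ^ E.q = ω := by
    obtain ⟨m, hm⟩ := hd
    rw [show E.q = r * m + 1 by omega, pow_succ, pow_mul, hω.pow_eq_one, one_pow, one_mul]
  set G₀ := P.fixG (iterateFrobenius (kb 2) 2 E.e) hμ with hG₀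
  have hG : ⁅G₀, G₀⁆ = G₀ := P.fixG_perfect hs (by rw [hf, e]) hω0 (by rw [hf, hωq])
    fun h => hω1 (eq_one_of_sq (by rwa [pow_two] at h))
  have hle : G₀.map (sl 2 hc) ≤ E.ι.range := by
    rintro _ ⟨A, hA, rfl⟩
    exact mem_range E (by rw [hF, P.mem_fixG.1 hA])
  set X := (G₀.map (sl 2 hc)).comap E.ι with hX
  have hXm : X.map E.ι = G₀.map (sl 2 hc) := map_comap_eq_self hle
  have hXp : ⁅X, X⁆ = X := map_injective E.inj (by rw [map_commutator, hXm, map_perfect hG])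
  have hXK : ∀ x ∈ X, x ∈ KF E hc := fun x ⟨A, _, hA⟩ => ⟨A, hA⟩
  have hXT := P.perf_le big co hXp fun x hx => mem_centralizer_iff.2 fun y hy =>
    (KF_comm E hc (hXK x hx) ((mem_CF E hc).2 (hR y hy))).symm
  obtain ⟨w, hw⟩ := hle (mem_map_of_mem _ (P.hS_mem_fixG hω0 (by rw [hf, hωq])))
  obtain ⟨u, rfl⟩ := hXT (show w ∈ X from ⟨_, P.hS_mem_fixG hω0 (by rw [hf, hωq]), hw.symm⟩)
  have hT : E.ι (τ u) ∈ T7 := by rw [hw]; exact sl_hS_mem hc hω0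
  have hM : R.map E.ι ≤ MS chevE7 7 2 (PsiS tE7 {E.ι (τ u)}) := by
    refine E.perf_le hr ?_ co.pair.perfect ?_
    · rintro _ rfl
      exact ⟨hT, by rw [hw, ← map_pow, P.hS_pow hω0, hω.pow_eq_one, hS_one, map_one]⟩
    · rintro _ rfl y hy
      rw [← map_mul, co.pair.comm u y hy, map_mul]
  have h0 := P.eq_bot_of big co
    (J := (centralizer (MS chevE7 7 2 (PsiS tE7 {E.ι (τ u)}) : Set Y7)).comap E.ι) (Q := {u})
    (fun x hx => mem_centralizer_iff.2 fun y hy => E.inj (by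
      rw [map_mul, map_mul]
      exact mem_centralizer_iff.1 hx _ (hM (mem_map_of_mem _ hy))))
    (by rintro _ rfl _ rfl; rfl)
    (fun d hd y hy => mem_centralizer_iff.2 fun m hm => by
      have h3 := mem_centralizer_singleton_iff.1 (inv_mem (co.alpha_mem_cent (hd u rfl)))
      have h4 := DS.Nt.conj_mem_Mz (hp := tE7) (Set.finite_singleton _) (by rintro _ rfl; exact hT)
        (c := E.ι (α d)⁻¹) (by rintro _ rfl; rw [← map_mul, h3, map_mul]) hm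
      have h5 := mem_centralizer_iff.1 hy _ h4
      rw [map_inv, inv_inv] at h5
      rw [map_mul, map_mul, map_inv]
      calc m * (E.ι (α d) * E.ι y * (E.ι (α d))⁻¹) =
            E.ι (α d) * ((E.ι (α d))⁻¹ * m * E.ι (α d) * E.ι y) * (E.ι (α d))⁻¹ := by group
        _ = _ := by rw [h5]; group)
    hXp (fun x hx => mem_centralizer_iff.2 fun m hm => by
      rw [hw, psiS_h hc hω0 hω1] at hm
      obtain ⟨j, hj⟩ := hXK x hx
      rw [← hj, cz_MS_ort hc hm j])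
  obtain ⟨x, hx⟩ := hle (mem_map_of_mem _ (P.up_mem_fixG (t := s) (by rw [hf, e])))
  have h3 : x ∈ X := ⟨_, P.up_mem_fixG (t := s) (by rw [hf, e]), hx.symm⟩
  rw [h0, mem_bot] at h3
  rw [h3, map_one, sl_up] at hx
  exact hs ((xc_eq_one hc).1 hx.symm)

theorem boxP1 (big : Big) : BoxP1 := by
  intro L _ _ E U _ _ τ α β R R' co c hc hg hq hcen
  obtain ⟨E', he, hg', z, hz, hι⟩ := exists_move_fix E hc hg
  refine p1_fix big E' co hc hg' (by rwa [Frame.q, he]) fun y hy => ?_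
  have h1 := (cen_iff E hc).1 hcen _ (mem_map_of_mem _ hy)
  rw [← sl_range hc] at hz
  obtain ⟨j, rfl⟩ := hz
  rw [hι, mul_assoc, h1 j, inv_mul_cancel_left]
  exact h1

/-- **`BoxEnd`.** -/
theorem boxEnd' (big : Big) : BoxEnd := boxEnd FExt.boxFExt RE.boxRE (boxP1 big)

end Cfsg.Agent.Cam.Ex.E2
end

-- part: Cam/Odd/One
section
/-!
# S3689, S3690, exceptional rows: the core of `P8` for one root (helper70)

`boxOne : Big → BoxOne`, `boxLowB : Big → BoxLow`.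
-/

set_option autoImplicit false
set_option linter.unusedVariables false
set_option linter.unusedSectionVars false
set_option maxRecDepth 100000

namespace Cfsg.Agent.Cam.Odd.One

open CoxeterSystem Cfsg Cfsg.Lie Subgroup
open Cfsg.Agent.ChevalleyStructure.CoxeterGeom Cfsg.Agent.ChevalleyStructure.CoxeterGeomTypes
open Cfsg.Agent.Tits.Roots Cfsg.Agent.Nodes.BNOf Cfsg.Agent.Nodes.RGDChev Cfsg.Agent.Nodes.Coroot
open Cfsg.Agent.KFacts.RgdChevCoord Cfsg.Agent.BpExc.TorCent Cfsg.Agent.BpExc.LangFr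
open Cfsg.Agent.Cam.Spor Cfsg.Agent.Cam.Ex Cfsg.Agent.Cam.Ex.S2 Cfsg.Agent.Cam.Ex.En Cfsg.Agent.Cam.Odd.Low
open Cfsg.Agent.Cam.Ex.Cb (V gt dot toF Ent Dt Tab dG2 dD4 dE6 dE7 tabG2 tabD4 tabE6 tabE7)
open Cfsg.Agent.ChevalleyStructure.SL2Hom (up lo)
open Cfsg.Agent.Nodes.RGDFoldSL (hS wS)
open scoped commutatorElement

variable {D : ChevalleyDatum} {l : ℕ} {M : CoxeterMatrix (Fin l)} {hp : IsType D l M} {p : ℕ} [Fact p.Prime]
  {d : ℕ} {g0 : Lat l ≃+ Lat l} {L : Type} [Group L]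

/-- the fixed points of the root `SL₂` of a fixed root -/
theorem exists_fix (E : Frame hp p d g0 L) {c : Lat l} (hc : Rt hp c) (hg : E.g c = c) (hq : 4 ≤ E.q) :
    ∃ X : Subgroup L, ⁅X, X⁆ = X ∧ X ≠ ⊥ ∧ (∀ x ∈ X, E.ι x ∈ (sl p hc).range) ∧
      ∃ x ∈ X, E.ι x = sl p hc (hS (-1)) := by
  obtain ⟨μ, hμ, h1, h2⟩ := sl_frob E hc hg
  obtain ⟨s, hs, e⟩ := exists_fix_pow hμ (two_le_q E)
  have hf : ∀ t : kb p, iterateFrobenius (kb p) p E.e t = t ^ E.q := fun t => iterateFrobenius_def _ _ _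
  have hF := E2.frob_sl E hc hμ h1 h2
  have hcop : (E.q - 1).Coprime p := by
    have h3 : p ∣ E.q := dvd_pow_self p E.he.ne'
    exact Nat.Coprime.coprime_dvd_right h3 ((Nat.coprime_self_sub_left (by omega)).2 (Nat.coprime_one_left _))
  obtain ⟨ω, hω⟩ := exists_zeta p hcop
  have hω0 : ω ≠ 0 := hω.ne_zero (by omega)
  have hωq : ω ^ E.q = ω := by
    rw [show E.q = (E.q - 1) + 1 by omega, pow_succ, hω.pow_eq_one, one_mul]
  set G₀ := P.fixG (iterateFrobenius (kb p) p E.e) hμ with hG₀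
  have hG : ⁅G₀, G₀⁆ = G₀ := P.fixG_perfect hs (by rw [hf, e]) hω0 (by rw [hf, hωq])
    (hω.pow_ne_one_of_pos_of_lt two_ne_zero (by omega))
  have hle : G₀.map (sl p hc) ≤ E.ι.range := by
    rw [← map_perf _ hG, commutator_le]
    rintro _ ⟨A, hA, rfl⟩ _ ⟨B, hB, rfl⟩
    exact E.der _ _ (by rw [hF, P.mem_fixG.1 hA]) (by rw [hF, P.mem_fixG.1 hB])
  have hXm : ((G₀.map (sl p hc)).comap E.ι).map E.ι = G₀.map (sl p hc) := map_comap_eq_self hle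
  refine ⟨(G₀.map (sl p hc)).comap E.ι, map_injective E.inj (by rw [map_commutator, hXm, map_perf _ hG]), fun h0 => ?_,
    fun x ⟨A, _, hA⟩ => ⟨A, hA⟩, ?_⟩
  · obtain ⟨x, hx⟩ := hle (mem_map_of_mem _ (P.up_mem_fixG (t := s) (by rw [hf, e])))
    have h3 : x ∈ (G₀.map (sl p hc)).comap E.ι := ⟨_, P.up_mem_fixG (t := s) (by rw [hf, e]), hx.symm⟩
    rw [h0, mem_bot] at h3
    rw [h3, map_one, sl_up] at hx
    exact hs ((xc_eq_one hc).1 hx.symm)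
  · have h3 : hS (-1) ∈ G₀ := P.hS_mem_fixG (neg_ne_zero.2 one_ne_zero) (by rw [map_neg, map_one])
    obtain ⟨x, hx⟩ := hle (mem_map_of_mem _ h3)
    exact ⟨x, ⟨_, h3, hx.symm⟩, hx⟩

theorem neg_one_center {k : Type*} [Field k] : (hS (-1) : SL k) ∈ center (SL k) := by
  have h : (-1 : k) ≠ 0 := neg_ne_zero.2 one_ne_zero
  exact mem_center_iff'.2 ⟨hS01 h, hS10 h, by rw [hS00 h, hS11 h, inv_neg, inv_one]⟩

/-- the fixed points of the root `SL₂` of a stable pair of roots -/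
theorem exists_X (E : Frame hp p d g0 L) {c : Lat l} (hc : Rt hp c) (hg : E.g c = c ∨ E.g c = -c) (hq : 4 ≤ E.q) :
    ∃ X : Subgroup L, ⁅X, X⁆ = X ∧ X ≠ ⊥ ∧ (∀ x ∈ X, E.ι x ∈ (sl p hc).range) ∧
      ∃ x ∈ X, E.ι x = sl p hc (hS (-1)) := by
  obtain ⟨E', he, hg', z, hz, hι⟩ := exists_move_fix E hc hg
  obtain ⟨X, h1, h2, h3, x, hx, h4⟩ := exists_fix E' hc hg' (by rwa [Frame.q, he])
  rw [← sl_range hc] at hz
  have hι' : ∀ y, E.ι y = z * E'.ι y * z⁻¹ := fun y => by rw [hι]; group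
  refine ⟨X, h1, h2, fun y hy => ?_, x, hx, ?_⟩
  · rw [hι']
    exact mul_mem (mul_mem hz (h3 y hy)) (inv_mem hz)
  · obtain ⟨j, rfl⟩ := hz
    rw [hι', h4, ← map_mul, mem_center_iff.1 neg_one_center j, map_mul, mul_inv_cancel_right]

variable [Finite L] {U : Type} [Group U] [Finite U] {τ α β : U →* L} {R R' : Subgroup L}

theorem le_cent (E : Frame hp p d g0 L) {c : Lat l} (hc : Rt hp c) (hcen : Cen E R {c, -c}) :
    (sl p hc).range.comap E.ι ≤ centralizer (R : Set L) := by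
  rintro x ⟨j, hj⟩
  refine mem_centralizer_iff.2 fun y hy => E.inj ?_
  rw [map_mul, map_mul, ← hj]
  exact (cen_iff E hc).1 hcen _ (mem_map_of_mem _ hy) j

/-- **The core of `P8`** for a stable `A₁`-component of the centralizer of an element of prime order -/
theorem one_a1 (big : Big) (E : Frame hp p d g0 L) (co : Core τ α β R R') (hq : 4 ≤ E.q) {r : ℕ} (hr : r.Prime)
    {ζ : kb p} (hζ : IsPrimitiveRoot ζ r) {u : U} {φ : Lat l →+ ZMod r} (hφ : Chi hp ζ (E.ι (τ u)) φ) {c : Lat l}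
    (hc : A1c hp (Psi hp φ) c) (hg : E.g c = c ∨ E.g c = -c) : ¬ Cen E R {c, -c} := by
  intro hcen
  have : NeZero r := ⟨hr.ne_zero⟩
  obtain ⟨X, h1, h2, h3, -⟩ := exists_X E hc.1.1 hg hq
  have hJ := le_cent E hc.1.1 hcen
  have hT := P.perf_le big co h1 fun x hx => hJ (h3 x hx)
  have hm : (X.comap τ).map τ = X := map_comap_eq_self hT
  have h4 : ⁅X.comap τ, X.comap τ⁆ = X.comap τ := map_injective co.pair.inj (by rw [map_commutator, hm, h1])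
  have h5 : Cz (sl p hc.1.1) (E.ι (τ u)) := (cz_T hc.1.1 hφ.1).2 (by rw [hφ.2 c hc.1.1, hc.1.2, ZMod.val_zero, pow_zero])
  have h6 : ((X.comap τ).map α).map E.ι ≤ MS D l p (Psi hp φ) := by
    rw [← hφ.psiS hζ]
    refine E.perf_le hr ?_ (map_perf _ h4) ?_
    · rintro _ rfl
      exact ⟨hφ.1, hφ.pow_eq_one hζ⟩
    · rintro _ rfl _ ⟨v, hv, rfl⟩
      obtain ⟨j, hj⟩ := h3 _ hv
      have h7 : u * v = v * u := co.pair.inj (E.inj (by rw [map_mul, map_mul, map_mul, map_mul, ← hj]; exact h5 j))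
      rw [← map_mul, ← mem_centralizer_singleton_iff.1 (co.alpha_mem_cent h7), map_mul]
  refine h2 (eq_bot_of_perfect_comm h1 fun a ha b hb => ?_)
  obtain ⟨v, rfl⟩ := hT ha
  obtain ⟨v', rfl⟩ := hT hb
  rw [← map_mul, ← map_mul, P.comm_of_norm co hJ (d := v') (v := v) ?_ (h3 _ ha)]
  rintro y ⟨j, hj⟩
  obtain ⟨j', hj'⟩ := (spl_psi (p := p) hc.1.1 hc).inn _ (h6 (mem_map_of_mem _ (mem_map_of_mem _ hb)))
  exact ⟨j' * j * j'⁻¹, by rw [map_mul E.ι, map_mul E.ι, map_inv E.ι, ← hj, hj']⟩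

theorem oneA (big : Big) : OneA := fun D l M hp hl hB2 p _ d g0 L _ _ E U _ _ τ α β R R' co hp2 hq u φ hφ c hc hg =>
  one_a1 big E co (by omega) Nat.prime_two (Low.prim2 hp2) hφ hc hg

/-- the roots with an even Cartan integer -/
def Lg (hp : IsType D l M) (c : Lat l) : Prop := ∀ a, Rt hp a → Even (cp hp a c) → a = c ∨ a = -c ∨ cp hp a c = 0

theorem one_long (big : Big) (hp2 : p ≠ 2) (E : Frame hp p d g0 L) (co : Core τ α β R R') (hq : 4 ≤ E.q) {c : Lat l}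
    (hc : Rt hp c) (hl : Lg hp c) (hg : E.g c = c ∨ E.g c = -c) : ¬ Cen E R {c, -c} := by
  intro hcen
  obtain ⟨X, h1, -, h3, x, hx, h4⟩ := exists_X E hc hg hq
  obtain ⟨u, rfl⟩ := P.perf_le big co h1 (fun x hx => le_cent E hc hcen (h3 x hx)) hx
  have h0 : (-1 : kb p) ≠ 0 := neg_ne_zero.2 one_ne_zero
  obtain ⟨φ, hφ⟩ := exists_chi hp2 E (x := τ u) (E.inj (by
    rw [map_mul, h4, ← map_mul, center_mul_self neg_one_center, map_one, map_one])) (by rw [h4]; exact sl_hS_mem hc h0)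
  refine one_a1 big E co hq Nat.prime_two (Low.prim2 hp2) hφ (c := c) ?_ hg hcen
  rw [← hφ.psiS (Low.prim2 hp2), h4]
  refine ⟨⟨hc, ?_⟩, fun a ha => hl a ha.1 ?_⟩
  · rintro _ rfl
    rw [ch_sl_hS hc h0 hc, cp_self hc]
    norm_num
  · have h5 := ha.2 _ rfl
    rw [ch_sl_hS hc h0 ha.1] at h5
    exact even_iff_two_dvd.2 (((Low.prim2 hp2).zpow_eq_one_iff_dvd _).1 h5)

theorem lg_of {d : Dt} (hT : Tab hp d)
    (h : ∀ e ∈ d.T, ∀ e' ∈ d.T, dot e'.b e.cv % 2 = 0 → e'.b = e.b ∨ dot e'.b e.cv = 0) {c : Lat l} (hc : Rt hp c) :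
    Lg hp c := by
  intro a ha h1
  obtain ⟨e, he, h2⟩ := hT.sur c hc
  obtain ⟨e', he', h3⟩ := hT.sur a ha
  have h4 : cp hp a c = dot e'.b e.cv ∨ cp hp a c = -dot e'.b e.cv := by
    rw [← cp_toF hT he he']
    rcases h2 with rfl | rfl <;> rcases h3 with rfl | rfl
    · exact Or.inl rfl
    · exact Or.inr (cp_neg _ hc)
    · exact Or.inr (cp_neg_right _ (hT.rt e he))
    · exact Or.inl (by rw [cp_neg _ hc, cp_neg_right _ (hT.rt e he), neg_neg])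
  obtain ⟨m, hm⟩ := h1
  rcases h e he e' he' (by omega) with h5 | h5
  · rw [h5] at h3
    rcases h2 with rfl | rfl
    · exact h3.imp_right Or.inl
    · rw [neg_neg]
      exact h3.symm.imp_right Or.inl
  · right; right
    omega

/-- **`BoxOne`.** -/
theorem boxOne (big : Big) : BoxOne := by
  intro D l M hp hl hB2 p _ d g0 L _ _ E U _ _ τ α β R R' co hp2 hq c hc hg
  have hp' := hp
  simp only [IsType, typeList, List.mem_cons, List.not_mem_nil, or_false, Prod.mk.injEq] at hp'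
  rcases hp' with ⟨rfl, h⟩ | ⟨rfl, h⟩ | ⟨rfl, h⟩ | ⟨rfl, h⟩ | ⟨rfl, h⟩ | ⟨rfl, h⟩ | ⟨rfl, h⟩
  · cases h
    exact one_long big hp2 E co (by omega) hc (lg_of tabG2 (by decide +kernel) hc) hg
  · exact absurd rfl hB2
  · cases h
    exact one_long big hp2 E co (by omega) hc (lg_of tabD4 (by decide +kernel) hc) hg
  · cases h
    exact fun _ => noCore_f4 (oneA big) hp2 E hq U τ α β R R' co
  · cases h
    exact one_long big hp2 E co (by omega) hc (lg_of tabE6 (by (refine of_decide_eq_true ?_; (try (rewrite [Cfsg.Agent.LsF.fd56983_2.2, Cfsg.Agent.LsF.imod_pat, Cfsg.Agent.LsF.instIDecEq_eq, Cfsg.Agent.LsF.dOr_eq, Cfsg.Agent.LsF.dBAll_eq, Cfsg.Agent.LsF.dListEq_eq, Cfsg.Agent.LsF.decide_eq])); decide +kernel)) hc) hg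
  · cases h
    exact one_long big hp2 E co (by omega) hc (lg_of tabE7 (by (refine of_decide_eq_true ?_; (try (rewrite [Cfsg.Agent.LsF.fd56983_2.2, Cfsg.Agent.LsF.imod_pat, Cfsg.Agent.LsF.instIDecEq_eq, Cfsg.Agent.LsF.dOr_eq, Cfsg.Agent.LsF.dBAll_eq, Cfsg.Agent.LsF.dListEq_eq, Cfsg.Agent.LsF.decide_eq])); decide +kernel)) hc) hg
  · cases h
    omega

/-- **`BoxLow`.** -/
theorem boxLowB (big : Big) : BoxLow := boxLow' (oneA big)

end Cfsg.Agent.Cam.Odd.One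
end

-- part: Cam/Odd/L7T
section
/-!
# The root lattice of `E₇` modulo two and three: the finite checks (helper53)
-/

set_option autoImplicit false
set_option linter.unusedVariables false
set_option maxRecDepth 100000

namespace Cfsg.Agent.Cam.Odd.L7

open Cfsg.Agent.Cam.Ex Cfsg.Agent.Cam.Ex.Cb

/-- the number of positive roots killed modulo `m` -/
noncomputable def cn (m : ℤ) (P : V) : ℕ := cnt (fun e => zr m (dot e.b P)) dE7.T

/-- congruence modulo `m` -/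
noncomputable def cg (m : ℤ) (P Q : V) : Bool := al (fun i => zr m (Int.sub (gt P i) (gt Q i))) (List.range 7)

/-- the Kac coordinates modulo two -/
def K2 : List V := [[0, 0, 0, 0, 0, 0, 0], [0, 0, 0, 0, 0, 0, 1], [0, 0, 0, 0, 0, 0, 2], [1, 0, 0, 0, 0, 0, 0],
  [0, 1, 0, 0, 0, 0, 0], [0, 0, 0, 0, 0, 1, 0]]

/-- the Kac coordinates modulo three -/
def K3 : List V := [[0, 0, 0, 0, 0, 0, 0], [0, 0, 0, 0, 0, 0, 1], [0, 0, 0, 0, 0, 0, 2], [0, 0, 0, 0, 0, 0, 3],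
  [1, 0, 0, 0, 0, 0, 0], [0, 1, 0, 0, 0, 0, 0], [0, 0, 0, 0, 0, 1, 0], [1, 0, 0, 0, 0, 0, 1], [0, 1, 0, 0, 0, 0, 1],
  [0, 0, 0, 0, 0, 1, 1], [0, 0, 1, 0, 0, 0, 0], [0, 0, 0, 0, 1, 0, 0]]

private noncomputable def _root_.Cfsg.Agent.LsF.fd56983_8 : {f // @Cfsg.Agent.Cam.Ex.Cb.al = f} := ⟨_, by first | (delta Cfsg.Agent.Cam.Ex.Cb.al; rewrite [Cfsg.Agent.LsF.cond_eq]; exact rfl) | exact rfl⟩
private noncomputable def _root_.Cfsg.Agent.LsF.fd56983_9 : {f // @Cfsg.Agent.Cam.Ex.Cb.ieq = f} := ⟨_, by first | (delta Cfsg.Agent.Cam.Ex.Cb.ieq; rewrite [Cfsg.Agent.LsF.instIDecEq_eq, Cfsg.Agent.LsF.decide_eq]; exact rfl) | exact rfl⟩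
private noncomputable def _root_.Cfsg.Agent.LsF.fd56983_10 : {f // @Cfsg.Agent.Cam.Ex.Cb.zr = f} := ⟨_, by first | (delta Cfsg.Agent.Cam.Ex.Cb.zr; rewrite [Cfsg.Agent.LsF.fd56983_9.2, Cfsg.Agent.LsF.emod_eq]; exact rfl) | exact rfl⟩
private noncomputable def _root_.Cfsg.Agent.LsF.fd56983_11 : {f // @Cfsg.Agent.Cam.Odd.L7.cg = f} := ⟨_, by first | (delta Cfsg.Agent.Cam.Odd.L7.cg; rewrite [Cfsg.Agent.LsF.fd56983_8.2, Cfsg.Agent.LsF.fd56983_10.2, Cfsg.Agent.LsF.range_eq, Cfsg.Agent.LsF.isub_eq]; exact rfl) | exact rfl⟩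
private noncomputable def _root_.Cfsg.Agent.LsF.fd56983_12 : {f // @Cfsg.Agent.Cam.Ex.Cb.cnt = f} := ⟨_, by first | (delta Cfsg.Agent.Cam.Ex.Cb.cnt; rewrite [Cfsg.Agent.LsF.cond_eq]; exact rfl) | exact rfl⟩
private noncomputable def _root_.Cfsg.Agent.LsF.fd56983_13 : {f // @Cfsg.Agent.Cam.Odd.L7.cn = f} := ⟨_, by first | (delta Cfsg.Agent.Cam.Odd.L7.cn; rewrite [Cfsg.Agent.LsF.fd56983_12.2, Cfsg.Agent.LsF.fd56983_10.2, Cfsg.Agent.LsF.fd56983_2.2]; exact rfl) | exact rfl⟩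
private noncomputable def _root_.Cfsg.Agent.LsF.fd56983_14 : {f // @Cfsg.Agent.Cam.Ex.Cb.an = f} := ⟨_, by first | (delta Cfsg.Agent.Cam.Ex.Cb.an; rewrite [Cfsg.Agent.LsF.cond_eq]; exact rfl) | exact rfl⟩
private noncomputable def _root_.Cfsg.Agent.LsF.fd56983_15 : {f // @Cfsg.Agent.Cam.Ex.Cb.pats = f} := ⟨_, by first | (delta Cfsg.Agent.Cam.Ex.Cb.pats; rewrite [Cfsg.Agent.LsF.map_eq, Cfsg.Agent.LsF.flatMap_eq]; exact rfl) | exact rfl⟩
theorem chk1 : al (fun P => cg 2 P [] || cond (zr 2 (dot [0, 1, 0, 0, 1, 0, 1] P))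
    (Nat.beq (cn 2 P) 31 && an (fun e => cg 2 P e.cv) dE7.T) (Nat.beq (cn 2 P) 28 || Nat.beq (cn 2 P) 36))
    (pats [0, 1] 7) = true := by
  ((try (rewrite [Cfsg.Agent.LsF.fd56983_8.2, Cfsg.Agent.LsF.fd56983_11.2, Cfsg.Agent.LsF.fd56983_10.2, Cfsg.Agent.LsF.fd56983_2.2, Cfsg.Agent.LsF.fd56983_13.2, Cfsg.Agent.LsF.fd56983_14.2, Cfsg.Agent.LsF.fd56983_15.2, Cfsg.Agent.LsF.and_eq, Cfsg.Agent.LsF.or_eq, Cfsg.Agent.LsF.cond_eq])); decide +kernel)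

theorem chk2 : al (fun e => al (fun e' => !ieq (dot e'.b e.cv) 0 ||
    an (fun a => ieq (dot a.b e.cv) 0 && (ieq (dot a.b e'.cv) 1 || ieq (dot a.b e'.cv) (-1))) dE7.T) dE7.T) dE7.T =
    true := by
  ((try (rewrite [Cfsg.Agent.LsF.fd56983_8.2, Cfsg.Agent.LsF.fd56983_9.2, Cfsg.Agent.LsF.fd56983_2.2, Cfsg.Agent.LsF.fd56983_14.2, Cfsg.Agent.LsF.ineg_pat, Cfsg.Agent.LsF.and_eq, Cfsg.Agent.LsF.or_eq, Cfsg.Agent.LsF.not_eq])); decide +kernel)

private noncomputable def _root_.Cfsg.Agent.LsF.fd56983_16 : {f // @Cfsg.Agent.Cam.Ex.Cb.axpy = f} := ⟨_, by first | (delta Cfsg.Agent.Cam.Ex.Cb.axpy; rewrite [Cfsg.Agent.LsF.imul_eq, Cfsg.Agent.LsF.isub_eq]; (try delta List.casesOn); exact rfl) | exact rfl⟩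
theorem chk3 : al (fun P => Nat.beq (cn 2 P) 31 || (Nat.beq (cn 2 P) 63 ||
    al (fun e => !zr 2 (dot e.b P) || !Nat.beq (cn 2 (axpy (-1) P e.cv)) (cn 2 P)) dE7.T)) K2 = true := by
  ((try (rewrite [Cfsg.Agent.LsF.fd56983_8.2, Cfsg.Agent.LsF.fd56983_13.2, Cfsg.Agent.LsF.fd56983_10.2, Cfsg.Agent.LsF.fd56983_2.2, Cfsg.Agent.LsF.fd56983_16.2, Cfsg.Agent.LsF.ineg_pat, Cfsg.Agent.LsF.or_eq, Cfsg.Agent.LsF.not_eq])); decide +kernel)

theorem chk4 : al (fun P => leq P [0, 0, 0, 0, 0, 0, 1] || !Nat.beq (cn 2 P) 36) K2 = true := by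
  decide +kernel

theorem chk5 : al (fun e => ieq (gt e.b 6) 0 || ieq (gt e.b 6) 1) dE7.T = true := by
  decide +kernel

theorem chk6 : al (fun P => cg 3 P [] || (Nat.beq (cn 3 P) 18 || (Nat.beq (cn 3 P) 21 || (Nat.beq (cn 3 P) 30 ||
    Nat.beq (cn 3 P) 36)))) K3 = true := by
  decide +kernel

theorem chk7 : al (fun P => !Nat.beq (cn 3 P) 30 || al (fun Q => !Nat.beq (cn 2 Q) 28 ||
    !Nat.beq (cnt (fun e => zr 2 (dot e.b Q) && zr 3 (dot e.b P)) dE7.T) 11) (pats [0, 1] 7)) K3 = true := by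
  ((try (rewrite [Cfsg.Agent.LsF.fd56983_8.2, Cfsg.Agent.LsF.fd56983_13.2, Cfsg.Agent.LsF.fd56983_12.2, Cfsg.Agent.LsF.fd56983_10.2, Cfsg.Agent.LsF.fd56983_2.2, Cfsg.Agent.LsF.fd56983_15.2, Cfsg.Agent.LsF.and_eq, Cfsg.Agent.LsF.or_eq, Cfsg.Agent.LsF.not_eq])); decide +kernel)

theorem chk8 : cn 2 [] = 63 := by
  decide +kernel

theorem mem_K2 (c : Fin 7 → ℕ) (h : 2 * c 0 + 2 * c 1 + 3 * c 2 + 4 * c 3 + 3 * c 4 + 2 * c 5 + c 6 ≤ 2) :
    (List.ofFn fun i => (c i : ℤ)) ∈ K2 := by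
  have e : (List.ofFn fun i => (c i : ℤ)) = [(c 0 : ℤ), c 1, c 2, c 3, c 4, c 5, c 6] := rfl
  rw [e]
  generalize c 0 = x0, c 1 = x1, c 2 = x2, c 3 = x3, c 4 = x4, c 5 = x5, c 6 = x6 at h ⊢
  obtain rfl : x2 = 0 := by omega
  obtain rfl : x3 = 0 := by omega
  obtain rfl : x4 = 0 := by omega
  have h0 : x0 ≤ 1 := by omega
  have h1 : x1 ≤ 1 := by omega
  have h5 : x5 ≤ 1 := by omega
  have h6 : x6 ≤ 2 := by omega
  interval_cases x0 <;> interval_cases x1 <;> interval_cases x5 <;> interval_cases x6 <;>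
    first | (clear * - h; omega) | decide

theorem mem_K3 (c : Fin 7 → ℕ) (h : 2 * c 0 + 2 * c 1 + 3 * c 2 + 4 * c 3 + 3 * c 4 + 2 * c 5 + c 6 ≤ 3) :
    (List.ofFn fun i => (c i : ℤ)) ∈ K3 := by
  have e : (List.ofFn fun i => (c i : ℤ)) = [(c 0 : ℤ), c 1, c 2, c 3, c 4, c 5, c 6] := rfl
  rw [e]
  generalize c 0 = x0, c 1 = x1, c 2 = x2, c 3 = x3, c 4 = x4, c 5 = x5, c 6 = x6 at h ⊢
  obtain rfl : x3 = 0 := by omega
  have h0 : x0 ≤ 1 := by omega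
  have h1 : x1 ≤ 1 := by omega
  have h2 : x2 ≤ 1 := by omega
  have h4 : x4 ≤ 1 := by omega
  have h5 : x5 ≤ 1 := by omega
  have h6 : x6 ≤ 3 := by omega
  interval_cases x0 <;> interval_cases x1 <;> interval_cases x2 <;> interval_cases x4 <;> interval_cases x5 <;>
    interval_cases x6 <;> first | (clear * - h; omega) | decide

end Cfsg.Agent.Cam.Odd.L7
end

-- part: Cam/Odd/L7
section
/-!
# The root lattice of `E₇` modulo two and three: `BoxL7` (helper53)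
-/

set_option autoImplicit false
set_option linter.unusedVariables false
set_option linter.unusedSectionVars false

namespace Cfsg.Agent.Cam.Odd.L7

open CoxeterSystem Cfsg Cfsg.Lie
open Cfsg.Agent.ChevalleyStructure.CoxeterGeom Cfsg.Agent.ChevalleyStructure.CoxeterGeomTypes
open Cfsg.Agent.Tits.Roots Cfsg.Agent.Nodes.RGDChev
open Cfsg.Agent.H931.KC (hr psi psi_apply psi_sr Kac exists_alcove)
open Cfsg.Agent.Cam.Ex Cfsg.Agent.Cam.Ex.Cb

/-- `P` represents `φ` -/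
structure Rp {m : ℕ} (φ : Lat 7 →+ ZMod m) (P : V) : Prop where
  len : P.length = 7
  eq : ∀ a, φ a = ((psi (toF 7 P) a : ℤ) : ZMod m)

section rp

variable {m : ℕ} {φ ψ : Lat 7 →+ ZMod m} {P Q : V}

theorem Rp.zero_iff (h : Rp φ P) {e : Ent} (he : e ∈ dE7.T) : zr m (dot e.b P) = true ↔ φ (toF 7 e.b) = 0 := by
  rw [h.eq, tabE7.psi_b he, ZMod.intCast_zmod_eq_zero_iff_dvd, zr_iff]

theorem Rp.nk_eq (h : Rp φ P) : nk tE7 φ = 2 * cn m P := tabE7.ncard_eq φ fun e he => h.zero_iff he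

theorem Rp.add (h : Rp φ P) (h' : Rp ψ Q) : Rp (φ + ψ) (axpy (-1) P Q) :=
  ⟨(length_axpy _ _ _).trans h.len, fun a => by
    rw [AddMonoidHom.add_apply, h.eq, h'.eq, toF_axpy _ h.len, psi_sub_smul]
    push_cast
    ring⟩

theorem Rp.of_cg (h : Rp φ P) (hc : cg m P Q = true) (a : Lat 7) : φ a = ((psi (toF 7 Q) a : ℤ) : ZMod m) := by
  rw [h.eq, psi_apply, psi_apply]
  push_cast
  refine Finset.sum_congr rfl fun i _ => ?_
  have h1 : (m : ℤ) ∣ gt P i - gt Q i := zr_iff.1 (al_iff.1 hc i (List.mem_range.2 i.2))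
  rw [← ZMod.intCast_zmod_eq_zero_iff_dvd, Int.cast_sub, sub_eq_zero] at h1
  rw [toF_apply, toF_apply, h1]

theorem Rp.eq_zero (h : Rp φ P) (hc : cg m P [] = true) : φ = 0 :=
  AddMonoidHom.ext fun a => by
    rw [h.of_cg hc, psi_apply, Finset.sum_eq_zero fun i _ => by rw [toF_apply, gt_nil, mul_zero], Int.cast_zero]
    rfl

theorem exists_rp [NeZero m] (φ : Lat 7 →+ ZMod m) :
    ∃ c : Fin 7 → ℕ, (∀ i, c i < m) ∧ Rp φ (List.ofFn fun i => (c i : ℤ)) := by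
  refine ⟨fun i => (φ (sr i)).val, fun i => ZMod.val_lt _, List.length_ofFn, fun a => ?_⟩
  rw [toF_ofFn, eq_sum φ a, psi_apply]
  push_cast
  exact Finset.sum_congr rfl fun i _ => by rw [ZMod.natCast_zmod_val]

theorem exists_kac [NeZero m] (φ : Lat 7 →+ ZMod m) : ∃ w, ∃ c : Fin 7 → ℕ,
    2 * c 0 + 2 * c 1 + 3 * c 2 + 4 * c 3 + 3 * c 4 + 2 * c 5 + c 6 ≤ m ∧
      Rp (cw tE7 φ w) (List.ofFn fun i => (c i : ℤ)) := by
  obtain ⟨b, -, hb⟩ := exists_rp φ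
  obtain ⟨w, c, c0, hk, hw⟩ := exists_alcove tE7 (Nat.pos_of_ne_zero (NeZero.ne m))
    (psi (toF 7 (List.ofFn fun i => (b i : ℤ))))
  refine ⟨w, c, ?_, List.length_ofFn, fun a => ?_⟩
  · have h1 := hk.sum
    rw [← tabE7.hi, Fin.sum_univ_seven] at h1
    change (c0 : ℤ) + (2 * (c 0 : ℤ) + 2 * (c 1 : ℤ) + 3 * (c 2 : ℤ) + 4 * (c 3 : ℤ) + 3 * (c 4 : ℤ) + 2 * (c 5 : ℤ) +
      1 * (c 6 : ℤ)) = m at h1
    omega
  · have h1 := hw a
    rw [← ZMod.intCast_zmod_eq_zero_iff_dvd, Int.cast_sub, sub_eq_zero] at h1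
    rw [cw_apply, hb.eq, ← h1, toF_ofFn, psi_apply]

end rp

theorem exists_pat (φ : Lat 7 →+ ZMod 2) : ∃ P ∈ pats [0, 1] 7, Rp φ P := by
  obtain ⟨c, hc, h⟩ := exists_rp φ
  refine ⟨_, mem_pats _ fun i => ?_, h⟩
  have := hc i
  have h1 : c i = 0 ∨ c i = 1 := by omega
  rcases h1 with h1 | h1 <;> rw [h1] <;> decide

theorem exists_K2 (φ : Lat 7 →+ ZMod 2) : ∃ w, ∃ P ∈ K2, Rp (cw tE7 φ w) P := by
  obtain ⟨w, c, hc, h⟩ := exists_kac φ
  exact ⟨w, _, mem_K2 c hc, h⟩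

theorem exists_K3 (φ : Lat 7 →+ ZMod 3) : ∃ w, ∃ P ∈ K3, Rp (cw tE7 φ w) P := by
  obtain ⟨w, c, hc, h⟩ := exists_kac φ
  exact ⟨w, _, mem_K3 c hc, h⟩

/-- `φ` is the coroot of `c` modulo two -/
structure Co (φ : Lat 7 →+ ZMod 2) (c : Lat 7) : Prop where
  rt : Rt tE7 c
  eq : ∀ a, φ a = (cp tE7 a c : ZMod 2)

theorem nk_zero : nk tE7 (0 : Lat 7 →+ ZMod 2) = 126 := by
  refine (tabE7.ncard_eq (0 : Lat 7 →+ ZMod 2) (P := fun e => zr 2 (dot e.b [])) fun e he => ?_).trans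
    (congrArg (2 * ·) chk8)
  · refine ⟨fun _ => rfl, fun _ => zr_iff.2 ?_⟩
    rw [← tabE7.psi_b he, psi_apply, Finset.sum_eq_zero fun i _ => by rw [toF_apply [], gt_nil, mul_zero]]
    exact dvd_zero _

/-- the types -/
theorem cases2 {φ : Lat 7 →+ ZMod 2} (h0 : φ ≠ 0) :
    (eps φ = 0 ∧ nk tE7 φ = 62 ∧ ∃ c, Co φ c) ∨ (eps φ ≠ 0 ∧ (nk tE7 φ = 56 ∨ nk tE7 φ = 72)) := by
  obtain ⟨P, hP, h⟩ := exists_pat φ
  have h1 := al_iff.1 chk1 P hP
  rcases Bool.or_eq_true_iff.1 h1 with h2 | h2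
  · exact absurd (h.eq_zero h2) h0
  have he : eps φ = 0 ↔ zr 2 (dot [0, 1, 0, 0, 1, 0, 1] P) = true := by
    have e : (![0, 1, 0, 0, 1, 0, 1] : Lat 7) = toF 7 [0, 1, 0, 0, 1, 0, 1] := by decide +kernel
    unfold eps
    rw [e, h.eq, psi_toF (by rfl), ZMod.intCast_zmod_eq_zero_iff_dvd, zr_iff]
    rfl
  have hn : nk tE7 φ = 2 * cn 2 P := h.nk_eq
  cases h3 : zr 2 (dot [0, 1, 0, 0, 1, 0, 1] P)
  · rw [h3, cond_false] at h2
    refine Or.inr ⟨fun h4 => ?_, ?_⟩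
    · rw [he.1 h4] at h3
      exact Bool.false_ne_true h3.symm
    · rcases Bool.or_eq_true_iff.1 h2 with h4 | h4 <;> rw [Nat.eq_of_beq_eq_true h4] at hn
      · exact Or.inl hn
      · exact Or.inr hn
  · rw [h3, cond_true] at h2
    obtain ⟨h4, h5⟩ := Bool.and_eq_true_iff.1 h2
    rw [Nat.eq_of_beq_eq_true h4] at hn
    obtain ⟨e, he', h6⟩ := an_iff.1 h5
    exact Or.inl ⟨he.2 h3, hn, _, tabE7.rt e he', fun a => by rw [h.of_cg h6, tabE7.cpe e he']⟩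

theorem ne_zero_of_nk {φ : Lat 7 →+ ZMod 2} (h : nk tE7 φ ≠ 126) : φ ≠ 0 := by
  rintro rfl
  exact h nk_zero

theorem of_nk {φ : Lat 7 →+ ZMod 2} (h : nk tE7 φ = 62) : eps φ = 0 ∧ ∃ c, Co φ c := by
  rcases cases2 (φ := φ) (ne_zero_of_nk (by omega)) with h1 | h1
  · exact ⟨h1.1, h1.2.2⟩
  · omega

theorem of_eps {φ : Lat 7 →+ ZMod 2} (h0 : φ ≠ 0) (h : eps φ = 0) : ∃ c, Co φ c := by
  rcases cases2 h0 with h1 | h1
  · exact h1.2.2
  · exact absurd h h1.1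

/-- an even pairing -/
theorem even_cp {a c : Lat 7} (ha : Rt tE7 a) (hc : Rt tE7 c) (h : (cp tE7 a c : ZMod 2) = 0) :
    a = c ∨ a = -c ∨ cp tE7 a c = 0 := by
  by_cases h1 : a = c
  · exact Or.inl h1
  by_cases h2 : a = -c
  · exact Or.inr (Or.inl h2)
  have h3 := abs_le.1 (En.abs_cp ha hc h1 h2)
  have h4 : (2 : ℤ) ∣ cp tE7 a c := (ZMod.intCast_zmod_eq_zero_iff_dvd _ 2).1 h
  exact Or.inr (Or.inr (by omega))

theorem neg2 (x : ZMod 2) : -x = x := by revert x; decide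

namespace Co

variable {φ ψ : Lat 7 →+ ZMod 2} {c c' : Lat 7}

theorem self (h : Co φ c) : φ c = 0 := by
  rw [h.eq, Cb.cp_self tE7 h.rt]
  rfl

theorem a1c (h : Co φ c) : A1c tE7 (Psi tE7 φ) c :=
  ⟨⟨h.rt, h.self⟩, fun a ha => even_cp ha.1 h.rt ((h.eq a).symm.trans ha.2)⟩

theorem neg (h : Co φ c) : Co φ (-c) :=
  ⟨h.rt.neg, fun a => by rw [h.eq, Cb.cp_neg_right tE7 a h.rt, Int.cast_neg, neg2]⟩

theorem eq_of (h : Co φ c) (h' : Co ψ c) : φ = ψ := AddMonoidHom.ext fun a => by rw [h.eq, h'.eq]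

theorem act (h : Co φ c) (w : CoxeterMatrix.E₇.Group) : Co (cw tE7 φ w) (wa tE7 w⁻¹ c) :=
  ⟨h.rt.act _, fun a => by rw [cw_apply, h.eq, ← Cb.cp_wa tE7 w a (h.rt.act w⁻¹), Cb.wa_inv']⟩

theorem tab (h : Co φ c) : ∃ e ∈ dE7.T, Co φ (toF 7 e.b) ∧ (c = toF 7 e.b ∨ c = -toF 7 e.b) := by
  obtain ⟨e, he, h1 | h1⟩ := tabE7.sur c h.rt
  · exact ⟨e, he, h1 ▸ h, Or.inl h1⟩
  · refine ⟨e, he, ?_, Or.inr h1⟩
    have h2 := h.neg
    rwa [h1, neg_neg] at h2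

theorem rp {e : Ent} (he : e ∈ dE7.T) (h : Co φ (toF 7 e.b)) : Rp φ e.cv :=
  ⟨tabE7.lc e he, fun a => by rw [h.eq, tabE7.cpe e he]⟩

end Co

theorem A1c.neg' {K : Type} [AddCommGroup K] {φ : Lat 7 →+ K} {c : Lat 7} (h : A1c tE7 (Psi tE7 φ) c) :
    A1c tE7 (Psi tE7 φ) (-c) := by
  refine ⟨neg_mem_Psi tE7 h.1, fun a ha => ?_⟩
  rcases h.2 a ha with h1 | h1 | h1
  · exact Or.inr (Or.inl (by rw [h1, neg_neg]))
  · exact Or.inl h1
  · exact Or.inr (Or.inr (by rw [Cb.cp_neg_right tE7 a h.1.1, h1, neg_zero]))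

theorem A1c.wa' {φ : Lat 7 →+ ZMod 2} {w : CoxeterMatrix.E₇.Group} (hφ : Fixs tE7 w φ) {c : Lat 7}
    (h : A1c tE7 (Psi tE7 φ) c) : A1c tE7 (Psi tE7 φ) (wa tE7 w c) := by
  refine ⟨⟨h.1.1.act w, (hφ c).trans h.1.2⟩, fun a ha => ?_⟩
  have h1 : wa tE7 w⁻¹ a ∈ Psi tE7 φ := ⟨ha.1.act _, by rw [← hφ, Cb.wa_inv']; exact ha.2⟩
  rcases h.2 _ h1 with h2 | h2 | h2
  · exact Or.inl (by rw [← h2, Cb.wa_inv'])
  · exact Or.inr (Or.inl (by rw [← Cb.wa_neg, ← h2, Cb.wa_inv']))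
  · exact Or.inr (Or.inr (by rw [← h2, ← Cb.cp_wa tE7 w _ h.1.1, Cb.wa_inv']))

theorem uniq_tab {φ : Lat 7 →+ ZMod 2} {e e' : Ent} (he : e ∈ dE7.T) (he' : e' ∈ dE7.T) (h : Co φ (toF 7 e.b))
    (h' : A1c tE7 (Psi tE7 φ) (toF 7 e'.b)) : toF 7 e'.b = toF 7 e.b ∨ toF 7 e'.b = -toF 7 e.b := by
  rcases h.a1c.2 _ h'.1 with h1 | h1 | h1
  · exact Or.inl h1
  · exact Or.inr h1
  exfalso
  rw [tabE7.cp_b he' he] at h1
  have h2 := al_iff.1 (al_iff.1 chk2 e he) e' he'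
  rw [ieq_iff.2 h1] at h2
  rw [Bool.not_true, Bool.false_or] at h2
  obtain ⟨a, ha, h3⟩ := an_iff.1 h2
  obtain ⟨h4, h5⟩ := Bool.and_eq_true_iff.1 h3
  have h6 : cp tE7 (toF 7 a.b) (toF 7 e'.b) = 1 ∨ cp tE7 (toF 7 a.b) (toF 7 e'.b) = -1 := by
    rw [tabE7.cp_b ha he']
    exact (Bool.or_eq_true_iff.1 h5).imp ieq_iff.1 ieq_iff.1
  have h7 : toF 7 a.b ∈ Psi tE7 φ := ⟨tabE7.rt a ha, by rw [h.eq, tabE7.cp_b ha he, ieq_iff.1 h4, Int.cast_zero]⟩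
  rcases h'.2 _ h7 with h8 | h8 | h8
  · rw [h8, Cb.cp_self tE7 h'.1.1] at h6
    omega
  · rw [h8, Cb.cp_neg tE7 _ h'.1.1, Cb.cp_self tE7 h'.1.1] at h6
    omega
  · omega

/-- the `A₁` component is unique -/
theorem Co.uniq {φ : Lat 7 →+ ZMod 2} {c c' : Lat 7} (h : Co φ c) (h' : A1c tE7 (Psi tE7 φ) c') :
    c' = c ∨ c' = -c := by
  obtain ⟨e, he, h1, h2⟩ := h.tab
  obtain ⟨e', he', h3⟩ := tabE7.sur c' h'.1.1
  have h4 : A1c tE7 (Psi tE7 φ) (toF 7 e'.b) := by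
    rcases h3 with h3 | h3
    · exact h3 ▸ h'
    · have h5 := A1c.neg' h'
      rwa [h3, neg_neg] at h5
  rcases uniq_tab he he' h1 h4 with h5 | h5 <;> rcases h2 with h2 | h2 <;> rcases h3 with h3 | h3 <;>
    rw [h2, h3, h5] <;> simp

theorem eps_add (φ ψ : Lat 7 →+ ZMod 2) : eps (φ + ψ) = eps φ + eps ψ := rfl

/-- the last part of `l3` -/
theorem Co.nk_ne {φ ψ : Lat 7 →+ ZMod 2} {c : Lat 7} (h : Co φ c) (hψ : eps ψ = 1) :
    ψ c = 0 ↔ nk tE7 (ψ + φ) ≠ nk tE7 ψ := by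
  constructor
  · intro h0
    have h1 : nk tE7 ψ = 56 ∨ nk tE7 ψ = 72 := by
      rcases cases2 (φ := ψ) (by rintro rfl; exact absurd hψ (by decide)) with h1 | h1
      · rw [h1.1] at hψ
        exact absurd hψ (by decide)
      · exact h1.2
    obtain ⟨w, P, hP, hr⟩ := exists_K2 ψ
    obtain ⟨e, he, h2, h3⟩ := (h.act w).tab
    have h4 : cw tE7 ψ w (toF 7 e.b) = 0 := by
      have h5 : cw tE7 ψ w (wa tE7 w⁻¹ c) = 0 := by rw [cw_apply, Cb.wa_inv', h0]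
      rcases h3 with h3 | h3
      · rwa [h3] at h5
      · rwa [h3, map_neg, neg_eq_zero] at h5
    have h5 : nk tE7 ψ = 2 * cn 2 P := (ncard_cw tE7 ψ w).symm.trans hr.nk_eq
    have h6 : nk tE7 (ψ + φ) = 2 * cn 2 (axpy (-1) P e.cv) :=
      (ncard_cw tE7 (ψ + φ) w).symm.trans (hr.add (h2.rp he)).nk_eq
    rcases Bool.or_eq_true_iff.1 (al_iff.1 chk3 P hP) with h7 | h7
    · have := Nat.eq_of_beq_eq_true h7
      omega
    rcases Bool.or_eq_true_iff.1 h7 with h7 | h7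
    · have := Nat.eq_of_beq_eq_true h7
      omega
    have h8 := al_iff.1 h7 e he
    have h9 : zr 2 (dot e.b P) = true := (hr.zero_iff he).2 h4
    rw [h9] at h8
    have h10 : Nat.beq (cn 2 (axpy (-1) P e.cv)) (cn 2 P) = false := by simpa using h8
    have := Nat.ne_of_beq_eq_false h10
    omega
  · intro h0
    by_contra h1
    have h2 : ψ c = 1 := by
      revert h1
      generalize ψ c = x
      revert x
      decide
    obtain ⟨v, -, hv⟩ := En.exists_refl (hp := tE7) h.rt (S := {c}) rfl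
    refine h0 ?_
    have h3 : ψ + φ = cw tE7 ψ v := AddMonoidHom.ext fun a => by
      rw [cw_apply, hv, map_sub, map_zsmul, h2, AddMonoidHom.add_apply, h.eq, zsmul_one, sub_eq_add_neg, neg2]
    rw [h3]
    exact ncard_cw tE7 ψ v

/-! ### seven orthogonal roots -/

/-- the coroot functional -/
noncomputable def cpH {c : Lat 7} (hc : Rt tE7 c) : Lat 7 →+ ℤ :=
  AddMonoidHom.mk' (fun a => cp tE7 a c) fun a b => Cb.cp_add tE7 a b hc

theorem cpH_apply {c : Lat 7} (hc : Rt tE7 c) (a : Lat 7) : cpH hc a = cp tE7 a c := rfl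

section seven

variable {ι : Type} [Fintype ι] [DecidableEq ι] (h7 : Fintype.card ι = 7) {c : ι → Lat 7} (hc : ∀ i, Rt tE7 (c i))
  (ho : ∀ i j, i ≠ j → cp tE7 (c i) (c j) = 0)

include h7 hc ho

theorem span7 (a : Lat 7) : ∃ n : ℤ, n ≠ 0 ∧ ∃ g : ι → ℤ, n • a = ∑ i, g i • c i := by
  have h1 : ¬ LinearIndependent ℤ fun o : Option ι => o.elim a c := fun h => by
    have h2 := h.fintype_card_le_finrank
    rw [Fintype.card_option, h7, Module.finrank_fin_fun] at h2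
    omega
  obtain ⟨g, h2, i, hi⟩ := Fintype.not_linearIndependent_iff.1 h1
  rw [Fintype.sum_option] at h2
  change g none • a + ∑ i, g (some i) • c i = 0 at h2
  refine ⟨g none, fun h3 => hi ?_, fun i => -g (some i), ?_⟩
  · rcases i with _ | i
    · exact h3
    · rw [h3, zero_smul, zero_add] at h2
      have h4 := congrArg (cpH (hc i)) h2
      rw [map_sum, map_zero, Finset.sum_eq_single i, map_zsmul, cpH_apply, Cb.cp_self tE7 (hc i), smul_eq_mul] at h4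
      · omega
      · intro j _ hj
        rw [map_zsmul, cpH_apply, ho j i hj, smul_zero]
      · exact fun h => absurd (Finset.mem_univ i) h
  · rw [eq_neg_of_add_eq_zero_left h2, ← Finset.sum_neg_distrib]
    exact Finset.sum_congr rfl fun i _ => (neg_smul _ _).symm

theorem eq_one7 {w : CoxeterMatrix.E₇.Group} (hw : ∀ i, wa tE7 w (c i) = c i) : w = 1 := by
  refine rep_injective CoxeterMatrix.E₇.toCoxeterSystem tE7.isCartan (LinearMap.ext fun a => ?_)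
  obtain ⟨n, hn, g, hg⟩ := span7 h7 hc ho a
  have h1 : n • wa tE7 w a = n • a := by
    rw [← Cb.wa_smul, hg]
    exact (map_sum _ _ _).trans (Finset.sum_congr rfl fun i _ => (Cb.wa_smul tE7 w _ _).trans (by rw [hw]))
  exact (smul_right_injective _ hn h1).trans (Cb.wa_one tE7 a).symm

theorem mem_WW7 {S : Set (Lat 7)} (hS : ∀ i, c i ∈ S) (s : Finset ι) : ∀ w : CoxeterMatrix.E₇.Group,
    (∀ i, wa tE7 w (c i) = c i ∨ wa tE7 w (c i) = -c i) → (∀ i, i ∉ s → wa tE7 w (c i) = c i) → w ∈ WW tE7 S := by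
  induction s using Finset.induction_on with
  | empty =>
    intro w _ h2
    rw [eq_one7 h7 hc ho fun i => h2 i (Finset.notMem_empty i)]
    exact one_mem _
  | insert j s hj ih =>
    intro w h1 h2
    rcases h1 j with h3 | h3
    · refine ih w h1 fun i hi => ?_
      by_cases h4 : i = j
      · rw [h4, h3]
      · exact h2 i fun h5 => (Finset.mem_insert.1 h5).elim h4 hi
    · obtain ⟨v, hv, hv'⟩ := En.exists_refl (hp := tE7) (hc j) (hS j)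
      have h4 : wa tE7 (v * w) (c j) = c j := by
        rw [Cb.wa_mul, h3, Cb.wa_neg, hv', Cb.cp_self tE7 (hc j), two_smul]
        abel
      have h5 : ∀ i, i ≠ j → wa tE7 v (c i) = c i := fun i hi => by rw [hv', ho i j hi, zero_smul, sub_zero]
      have h6 := ih (v * w) (fun i => ?_) fun i hi => ?_
      · exact (Subgroup.mul_mem_cancel_left _ hv).1 h6
      · by_cases h8 : i = j
        · rw [h8]
          exact Or.inl h4
        · rw [Cb.wa_mul]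
          rcases h1 i with h9 | h9
          · exact Or.inl (by rw [h9, h5 i h8])
          · exact Or.inr (by rw [h9, Cb.wa_neg, h5 i h8])
      · by_cases h8 : i = j
        · rw [h8, h4]
        · rw [Cb.wa_mul, h2 i fun h5 => (Finset.mem_insert.1 h5).elim h8 hi, h5 i h8]

theorem not_perp7 {a : Lat 7} (ha : Rt tE7 a) : ¬ ∀ i, cp tE7 (c i) a = 0 := by
  intro h
  obtain ⟨n, hn, g, hg⟩ := span7 h7 hc ho a
  have h1 := congrArg (cpH ha) hg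
  rw [map_sum, map_zsmul, cpH_apply, Cb.cp_self tE7 ha, smul_eq_mul,
    Finset.sum_eq_zero fun i _ => by rw [map_zsmul, cpH_apply, h i, smul_zero]] at h1
  omega

end seven

/-- the symplectic form vanishes -/
def Oz (φ ψ : Lat 7 →+ ZMod 2) : Prop := ∀ c, Co φ c → ψ c = 0

section oz

variable {φ ψ χ : Lat 7 →+ ZMod 2}

theorem oz_of (h : Ort φ ψ) : Oz φ ψ := fun c hc => h c hc.a1c

theorem oz_self (φ : Lat 7 →+ ZMod 2) : Oz φ φ := fun c hc => hc.self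

theorem Oz.add (h : Oz φ ψ) (h' : Oz φ χ) : Oz φ (ψ + χ) := fun c hc => by
  rw [AddMonoidHom.add_apply, h c hc, h' c hc, add_zero]

theorem Oz.smul (h : Oz φ ψ) (a : ZMod 2) : Oz φ (a • ψ) := fun c hc => by
  rw [AddMonoidHom.smul_apply, h c hc, smul_zero]

theorem Oz.cancel (h : Oz φ ψ) (h' : Oz φ (ψ + χ)) : Oz φ χ := fun c hc => by
  have h1 := h' c hc
  rwa [AddMonoidHom.add_apply, h c hc, zero_add] at h1

theorem Oz.symm (h : Oz φ ψ) (he : eps φ = 0) : Oz ψ φ := fun c' hc' => by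
  by_cases h0 : φ = 0
  · rw [h0]
    rfl
  obtain ⟨c, hc⟩ := of_eps h0 he
  rw [hc.eq, En.cp_symm hc'.rt hc.rt, ← hc'.eq]
  exact h c hc

end oz

theorem add_eq_zero2 {φ ψ : Lat 7 →+ ZMod 2} (h : φ + ψ = 0) : φ = ψ :=
  AddMonoidHom.ext fun a => by
    have h1 := DFunLike.congr_fun h a
    rw [AddMonoidHom.add_apply, AddMonoidHom.zero_apply] at h1
    rw [eq_neg_of_add_eq_zero_left h1, neg2]

theorem z2 (x : ZMod 2) : x = 0 ∨ x = 1 := by revert x; decide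

theorem l4 (φ₁ φ₂ φ₃ : Lat 7 →+ ZMod 2) (n1 : nk tE7 φ₁ = 62) (n2 : nk tE7 φ₂ = 62) (n3 : nk tE7 φ₃ = 62)
    (h12 : φ₁ ≠ φ₂) (h31 : φ₃ ≠ φ₁) (h32 : φ₃ ≠ φ₂) (h3 : φ₃ ≠ φ₁ + φ₂) (o12 : Ort φ₁ φ₂) (o13 : Ort φ₁ φ₃)
    (o23 : Ort φ₂ φ₃) :
    (∀ w, Fixs tE7 w φ₁ → Fixs tE7 w φ₂ → Fixs tE7 w φ₃ → w ∈ WW tE7 (Psi tE7 φ₁ ∩ Psi tE7 φ₂ ∩ Psi tE7 φ₃)) ∧
    ∀ φ₄ : Lat 7 →+ ZMod 2, eps φ₄ = 0 → Ort φ₁ φ₄ → Ort φ₂ φ₄ → Ort (φ₁ + φ₃) (φ₂ + φ₄) →
      ∃ i j k : ℕ, φ₄ = i • φ₁ + j • φ₂ + k • φ₃ := by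
  classical
  have e1 := (of_nk n1).1
  have e2 := (of_nk n2).1
  have e3 := (of_nk n3).1
  have z1 : φ₁ ≠ 0 := ne_zero_of_nk (by omega)
  have z2' : φ₂ ≠ 0 := ne_zero_of_nk (by omega)
  have z3 : φ₃ ≠ 0 := ne_zero_of_nk (by omega)
  let f : ZMod 2 × ZMod 2 × ZMod 2 → (Lat 7 →+ ZMod 2) := fun v => v.1 • φ₁ + v.2.1 • φ₂ + v.2.2 • φ₃
  have fe : ∀ v, eps (f v) = 0 := fun v => by
    change v.1 • eps φ₁ + v.2.1 • eps φ₂ + v.2.2 • eps φ₃ = 0
    rw [e1, e2, e3, smul_zero, smul_zero, smul_zero, add_zero, add_zero]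
  have f0 : ∀ v, f v = 0 → v = 0 := by
    rintro ⟨a, b, c⟩ h
    change a • φ₁ + b • φ₂ + c • φ₃ = 0 at h
    rcases z2 a with rfl | rfl <;> rcases z2 b with rfl | rfl <;> rcases z2 c with rfl | rfl <;>
      simp only [zero_smul, one_smul, zero_add, add_zero] at h
    · rfl
    · exact absurd h z3
    · exact absurd h z2'
    · exact absurd (add_eq_zero2 h).symm h32
    · exact absurd h z1
    · exact absurd (add_eq_zero2 h).symm h31
    · exact absurd (add_eq_zero2 h) h12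
    · exact absurd (add_eq_zero2 h).symm h3
  have finj : ∀ v v', f v = f v' → v = v' := fun v v' h => by
    refine sub_eq_zero.1 (f0 _ ?_)
    have h1 : f (v - v') = f v - f v' := by
      change (v.1 - v'.1) • φ₁ + (v.2.1 - v'.2.1) • φ₂ + (v.2.2 - v'.2.2) • φ₃ =
        v.1 • φ₁ + v.2.1 • φ₂ + v.2.2 • φ₃ - (v'.1 • φ₁ + v'.2.1 • φ₂ + v'.2.2 • φ₃)
      rw [sub_smul, sub_smul, sub_smul]
      abel
    rw [h1, h, sub_self]
  have fo : ∀ {ψ : Lat 7 →+ ZMod 2}, Oz ψ φ₁ → Oz ψ φ₂ → Oz ψ φ₃ → ∀ v, Oz ψ (f v) := fun a b c v =>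
    ((a.smul _).add (b.smul _)).add (c.smul _)
  have p1 := fun v => (fo (oz_self φ₁) (oz_of o12) (oz_of o13) v).symm e1
  have p2 := fun v => (fo ((oz_of o12).symm e1) (oz_self φ₂) (oz_of o23) v).symm e2
  have p3 := fun v => (fo ((oz_of o13).symm e1) ((oz_of o23).symm e2) (oz_self φ₃) v).symm e3
  have hex : ∀ v : {v : ZMod 2 × ZMod 2 × ZMod 2 // v ≠ 0}, ∃ c, Co (f v.1) c := fun v =>
    of_eps (fun h => v.2 (f0 _ h)) (fe _)
  choose c hc using hex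
  have h7 : Fintype.card {v : ZMod 2 × ZMod 2 × ZMod 2 // v ≠ 0} = 7 := by
    rw [Fintype.card_subtype_compl, Fintype.card_subtype_eq]
    rfl
  have ho : ∀ i j, i ≠ j → cp tE7 (c i) (c j) = 0 := by
    intro i j hij
    have h1 : f j.1 (c i) = 0 := fo (p1 _) (p2 _) (p3 _) _ _ (hc i)
    rw [(hc j).eq] at h1
    rcases even_cp (hc i).rt (hc j).rt h1 with h2 | h2 | h2
    · exact absurd (Subtype.ext (finj _ _ ((hc i).eq_of (h2 ▸ hc j)))) hij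
    · exact absurd (Subtype.ext (finj _ _ ((hc i).eq_of (h2 ▸ (hc j).neg)))) hij
    · exact h2
  refine ⟨fun w w1 w2 w3 => ?_, fun φ₄ e4 o14 o24 o4 => ?_⟩
  · refine mem_WW7 h7 (fun i => (hc i).rt) ho (S := Psi tE7 φ₁ ∩ Psi tE7 φ₂ ∩ Psi tE7 φ₃)
      (fun i => ⟨⟨⟨(hc i).rt, p1 _ _ (hc i)⟩, (hc i).rt, p2 _ _ (hc i)⟩, (hc i).rt, p3 _ _ (hc i)⟩) Finset.univ w
      (fun i => (hc i).uniq (A1c.wa' (fun a => ?_) (hc i).a1c)) fun i hi => absurd (Finset.mem_univ i) hi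
    change i.1.1 • φ₁ (wa tE7 w a) + i.1.2.1 • φ₂ (wa tE7 w a) + i.1.2.2 • φ₃ (wa tE7 w a) = _
    rw [w1, w2, w3]
    rfl
  · by_cases h0 : φ₄ = 0
    · exact ⟨0, 0, 0, by rw [h0, zero_smul, zero_smul, zero_smul, add_zero, add_zero]⟩
    obtain ⟨a, ha⟩ := of_eps h0 e4
    have q1 := (oz_of o14).symm e1
    have q2 := (oz_of o24).symm e2
    have q13 : Oz (φ₁ + φ₃) φ₂ := (((oz_of o12).symm e1).add (oz_of o23)).symm e2
    have q3 := q1.cancel ((q13.cancel (oz_of o4)).symm (by rw [eps_add, e1, e3, add_zero]))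
    have h1 : ∃ v, φ₄ = f v := by
      by_contra h1
      refine not_perp7 h7 (fun i => (hc i).rt) ho ha.rt fun i => ?_
      have h2 : f i.1 a = 0 := fo q1 q2 q3 _ _ ha
      rw [(hc i).eq] at h2
      rcases even_cp ha.rt (hc i).rt h2 with h3 | h3 | h3
      · exact (h1 ⟨_, ha.eq_of (h3 ▸ hc i)⟩).elim
      · exact (h1 ⟨_, ha.eq_of (h3 ▸ (hc i).neg)⟩).elim
      · rw [En.cp_symm (hc i).rt ha.rt, h3]
    obtain ⟨v, hv⟩ := h1
    have h2 : ∀ (x : ZMod 2) (ψ : Lat 7 →+ ZMod 2), x • ψ = x.val • ψ := fun x ψ => by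
      rw [← Nat.cast_smul_eq_nsmul (ZMod 2), ZMod.natCast_zmod_val]
    exact ⟨v.1.val, v.2.1.val, v.2.2.val, by rw [← h2, ← h2, ← h2]; exact hv⟩

theorem l6 (χ : Lat 7 →+ ZMod 3) (h0 : χ ≠ 0) : nk tE7 χ = 36 ∨ nk tE7 χ = 42 ∨ nk tE7 χ = 60 ∨ nk tE7 χ = 72 := by
  obtain ⟨w, P, hP, hr⟩ := exists_K3 χ
  have h1 : nk tE7 χ = 2 * cn 3 P := (ncard_cw tE7 χ w).symm.trans hr.nk_eq
  have h2 := al_iff.1 chk6 P hP
  simp only [Bool.or_eq_true, Nat.beq_eq] at h2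
  rcases h2 with h2 | h2
  · exact absurd (hr.eq_zero h2) (cw_ne tE7 h0 w)
  · omega

theorem psi_prod {K K' : Type} [AddCommGroup K] [AddCommGroup K'] (φ : Lat 7 →+ K) (χ : Lat 7 →+ K') :
    Psi tE7 φ ∩ Psi tE7 χ = Psi tE7 (φ.prod χ) := by
  ext a
  exact ⟨fun h => ⟨h.1.1, Prod.ext h.1.2 h.2.2⟩, fun h => ⟨⟨h.1, congrArg Prod.fst h.2⟩, h.1, congrArg Prod.snd h.2⟩⟩

theorem l7 (φ : Lat 7 →+ ZMod 2) (χ : Lat 7 →+ ZMod 3) (h1 : nk tE7 φ = 56) (h2 : nk tE7 χ = 60) :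
    (Psi tE7 φ ∩ Psi tE7 χ).ncard ≠ 22 := by
  obtain ⟨w, P, hP, hr⟩ := exists_K3 χ
  obtain ⟨Q, hQ, hq⟩ := exists_pat (cw tE7 φ w)
  have h3 : nk tE7 χ = 2 * cn 3 P := (ncard_cw tE7 χ w).symm.trans hr.nk_eq
  have h4 : nk tE7 φ = 2 * cn 2 Q := (ncard_cw tE7 φ w).symm.trans hq.nk_eq
  have h5 : (Psi tE7 φ ∩ Psi tE7 χ).ncard = 2 * cnt (fun e => zr 2 (dot e.b Q) && zr 3 (dot e.b P)) dE7.T := by
    rw [psi_prod, ← ncard_cw tE7 _ w]
    refine tabE7.ncard_eq _ fun e he => ?_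
    rw [Bool.and_eq_true_iff]
    exact (and_congr (hq.zero_iff he) (hr.zero_iff he)).trans ⟨fun h => Prod.ext h.1 h.2,
      fun h => ⟨congrArg Prod.fst h, congrArg Prod.snd h⟩⟩
  have h6 := al_iff.1 chk7 P hP
  rw [show cn 3 P = 30 by omega, Nat.beq_refl, Bool.not_true, Bool.false_or] at h6
  have h7 := al_iff.1 h6 Q hQ
  rw [show cn 2 Q = 28 by omega] at h7
  have h8 : Nat.beq (cnt (fun e => zr 2 (dot e.b Q) && zr 3 (dot e.b P)) dE7.T) 11 = false := by simpa using h7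
  have := Nat.ne_of_beq_eq_false h8
  omega

/-- **`BoxL7`.** -/
theorem boxL7 : BoxL7 where
  l1 φ h := by rcases cases2 h with h1 | h1 <;> omega
  l2 φ h := by
    rcases cases2 h with h1 | h1
    · exact ⟨fun _ => h1.2.1, fun _ => h1.1⟩
    · exact ⟨fun h2 => absurd h2 h1.1, fun h2 => by omega⟩
  l3 φ h := by
    obtain ⟨-, c, hc⟩ := of_nk h
    exact ⟨c, hc.a1c, fun c' h' => hc.uniq h', hc.eq, fun ψ hψ => hc.nk_ne hψ⟩
  l4 := l4
  l6 := l6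
  l7 := l7

/-- **The type `E₆ T₁`.** -/
theorem exists_om {φ : Lat 7 →+ ZMod 2} (h : nk tE7 φ = 72) : ∃ ω : Lat 7 →+ ℤ,
    (∀ a, Rt tE7 a → ω a = 0 ∨ ω a = 1 ∨ ω a = -1) ∧ (∀ a, φ a = (ω a : ZMod 2)) ∧ (∃ a, Rt tE7 a ∧ ω a = 1) ∧
    ∀ f : Lat 7 ≃+ Lat 7, (∀ a, Rt tE7 (f a) ↔ Rt tE7 a) → (∀ a, φ (f a) = φ a) →
      (∀ a, ω (f a) = ω a) ∨ ∀ a, ω (f a) = -ω a := by
  obtain ⟨w, P, hP, hr⟩ := exists_K2 φ
  have h1 : nk tE7 φ = 2 * cn 2 P := (ncard_cw tE7 φ w).symm.trans hr.nk_eq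
  have h2 := al_iff.1 chk4 P hP
  rw [show cn 2 P = 36 by omega] at h2
  have h3 : P = [0, 0, 0, 0, 0, 0, 1] := leq_iff.1 (by simpa using h2)
  have h4 : toF 7 P = sr 6 := by
    rw [h3]
    decide +kernel
  have h5 : ∀ a, cw tE7 φ w a = (a 6 : ZMod 2) := fun a => by rw [hr.eq, h4, psi_sr']
  have h6 : ∀ a, Rt tE7 a → a 6 = 0 ∨ a 6 = 1 ∨ a 6 = -1 := by
    refine tabE7.of_T (P := fun a => a 6 = 0 ∨ a 6 = 1 ∨ a 6 = -1) (fun a h => ?_) fun e he => ?_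
    · rw [Pi.neg_apply]
      omega
    · rcases Bool.or_eq_true_iff.1 (al_iff.1 chk5 e he) with h7 | h7
      · exact Or.inl (ieq_iff.1 h7)
      · exact Or.inr (Or.inl (ieq_iff.1 h7))
  have h7 : Ex1 tE7 (cw tE7 φ w) 6 := fun a ha => by
    rw [h5, ZMod.intCast_zmod_eq_zero_iff_dvd]
    have := h6 a ha
    push_cast
    omega
  refine ⟨cw tE7 (psi (sr 6)) w⁻¹, fun a ha => ?_, fun a => ?_, ⟨wa tE7 w (sr 6), (Cb.rt_sr tE7 6).act w, ?_⟩,
    fun f hf hφ => ?_⟩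
  · rw [cw_apply, psi_sr']
    exact h6 _ (ha.act _)
  · rw [cw_apply, psi_sr', ← h5, cw_apply, Cb.wa_inv']
  · rw [cw_apply, Cb.wa_inv, psi_sr', sr_self]
  · have h8 := h7.res (gw tE7 f w) (fun a => by rw [gw_apply, rt_wa, hf, rt_wa]) (e := 1) fun a => by
      rw [cw_apply, cw_apply, gw_apply, Cb.wa_inv', hφ, one_mul]
    refine h8.imp (fun h9 a => ?_) fun h9 a => ?_
    · have h10 := h9.2 (wa tE7 w⁻¹ a)
      rw [gw_apply, Cb.wa_inv'] at h10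
      rw [cw_apply, cw_apply, psi_sr', psi_sr', h10]
    · have h10 := h9.2 (wa tE7 w⁻¹ a)
      rw [gw_apply, Cb.wa_inv'] at h10
      rw [cw_apply, cw_apply, psi_sr', psi_sr', h10]

end Cfsg.Agent.Cam.Odd.L7
end

-- part: Cam/Ex/Five2B
section
/-!
# Exceptional rows, `r = 5`, characteristic two: the case `E₆` (helper33)

* `cent_triv` : a fixed point of the Frobenius map of an untwisted frame centralizing `L` is trivial;
* `fix_range`, `eq_one_of_fix` : automorphisms of `L` fixing `R` pointwise;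
* `e6` : no toral triangle in `E₆` and `²E₆`.
-/

set_option autoImplicit false
set_option linter.unusedVariables false
set_option linter.unusedSectionVars false

namespace Cfsg.Agent.Cam.Ex.Five2

open CoxeterSystem Cfsg Cfsg.Lie Subgroup
open Cfsg.Agent.ChevalleyStructure.CoxeterGeom Cfsg.Agent.ChevalleyStructure.CoxeterGeomTypes
open Cfsg.Agent.Tits.Roots Cfsg.Agent.Nodes.BNOf Cfsg.Agent.Nodes.RGDChev Cfsg.Agent.Nodes.Coroot
open Cfsg.Agent.KFacts.RgdChevCoord Cfsg.Agent.BpExc.TorCent Cfsg.Agent.BpExc.LangFr Cfsg.Agent.BpExc.SubBN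
open Cfsg.Agent.Cam.Spor Cfsg.Agent.TwoFusion.PerfCore
open Cfsg.Agent.DS.Nt (RP)
open scoped commutatorElement

variable {D : ChevalleyDatum} {l : ℕ} {M : CoxeterMatrix (Fin l)} {hp : IsType D l M} {p : ℕ} [Fact p.Prime]
  {d : ℕ} {g0 : Lat l ≃+ Lat l} {L : Type} [Group L] [Finite L] {U : Type} [Group U] [Finite U]
  {τ α β : U →* L} {R R' : Subgroup L}

section cent

/-- an element commuting with a non-trivial element of every root group is trivial -/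
theorem eq_one_of_xc (hp : IsType D l M) {z : YY D p}
    (h : ∀ a, Rt hp a → ∃ s : kb p, s ≠ 0 ∧ z * xc hp a s = xc hp a s * z) : z = 1 := by
  have := finite_WW hp
  have H := DS.Nt.tw hp p
  have C := BpExc.TowChev.coordsL hp M.toCoxeterSystem (H469.Exc.locFin p) p
  have lev : ∀ a, Rt hp a → ∃ j, ∃ u ∈ BpExc.TowChev.Xj hp j a, u ≠ 1 ∧ z * u = u * z := by
    intro a ha
    obtain ⟨s, hs, e⟩ := h a ha
    have h1 := DS.Nt.xc_mem (hp := hp) ha s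
    rw [← DS.Nt.XLe hp p] at h1
    obtain ⟨j, hj⟩ := H.mem_XL.1 h1
    exact ⟨j, _, hj, (C.coord a ha).ne_one hs, e⟩
  choose j1 u1 h1 h1' using fun i : Fin l => lev _ (rt_sr hp i)
  choose j2 u2 h2 h2' using fun i : Fin l => lev _ (rt_sr hp i).neg
  obtain ⟨j0, hj0⟩ := H.mem_GG.1 (show z ∈ _ by rw [DS.Nt.GGW hp p]; exact mem_top z)
  have : IsDirectedOrder (BpExc.TowChev.Lev (kb p)) := ⟨H.dir⟩
  have := H.ne
  obtain ⟨k1, hk1⟩ := Finite.exists_le j1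
  obtain ⟨k2, hk2⟩ := Finite.exists_le j2
  obtain ⟨k3, hk3, hk3'⟩ := H.dir k1 k2
  obtain ⟨k, hk, hk'⟩ := H.dir k3 j0
  have hT : z ∈ TT D (kb p) := by
    rw [← DS.Nt.TLe hp p]
    exact BpExc.Tow.le_TL k (BpExc.FamCent.mem_T_of_comm (H.rgd k) (H.mono_GG hk' hj0)
      (fun i => ⟨u1 i, H.monoX _ (((hk1 i).trans hk3).trans hk) (h1 i), h1' i⟩)
      (fun i => ⟨u2 i, H.monoX _ (((hk2 i).trans hk3').trans hk) (h2 i), h2' i⟩))
  refine chi_sep (hp := hp) hT (one_mem _) fun a ha => ?_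
  obtain ⟨s, hs, e⟩ := h a ha
  rw [ch_one ha, ← cX_rt hT ha]
  exact DS.Nt.cX_eq_one_of_comm hT ha hs e

theorem conj_mem_range (E : Frame hp p d g0 L) {y : YY D p} (hy : E.F y = y) (x : L) :
    y * E.ι x * y⁻¹ ∈ E.ι.range := by
  have h1 : y * E.ι x * y⁻¹ = ⁅y, E.ι x⁆ * E.ι x := by rw [commutatorElement_def]; group
  rw [h1]
  exact mul_mem (E.der _ _ hy (E.fix x)) ⟨x, rfl⟩

/-- a fixed point centralizing `L` centralizes all fixed points -/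
theorem comm_fix (E : Frame hp p d g0 L) {z : YY D p} (hz : E.F z = z) (hc : ∀ x, z * E.ι x = E.ι x * z)
    {y : YY D p} (hy : E.F y = y) : z * y = y * z := by
  obtain ⟨x, hx⟩ := E.der y z hy hz
  have h1 : x = 1 := by
    refine eq_one_of_comm E.simple E.noncomm fun w => E.inj ?_
    obtain ⟨w', hw'⟩ := conj_mem_range E (y := y⁻¹) (by rw [map_inv, hy]) w
    have h2 : z⁻¹ * E.ι w = E.ι w * z⁻¹ := (Commute.inv_left (hc w)).eq
    rw [map_mul, map_mul, hx, commutatorElement_def]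
    calc y * z * y⁻¹ * z⁻¹ * E.ι w = y * (z * (y⁻¹ * E.ι w * y⁻¹⁻¹)) * y⁻¹ * z⁻¹ := by
          rw [mul_assoc _ z⁻¹, h2]
          group
      _ = y * ((y⁻¹ * E.ι w * y⁻¹⁻¹) * z) * y⁻¹ * z⁻¹ := by rw [← hw', hc]
      _ = _ := by group
  rw [h1, map_one] at hx
  exact (commutatorElement_eq_one_iff_mul_comm.1 hx.symm).symm

theorem cent_triv' (E : Frame hp p d g0 L) (hg : ∀ a, E.g a = a) {z : YY D p} (hz : E.F z = z)
    (hc : ∀ x, z * E.ι x = E.ι x * z) : z = 1 := by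
  refine eq_one_of_xc hp fun a ha => ?_
  obtain ⟨c, hc0, h⟩ := E.pw a ha
  have hq : 2 ≤ p ^ E.e := E.two_le
  obtain ⟨s, hs⟩ := IsAlgClosed.exists_pow_nat_eq c⁻¹ (show 0 < p ^ E.e - 1 by omega)
  have hs0 : s ≠ 0 := by
    rintro rfl
    rw [zero_pow (by omega)] at hs
    exact inv_ne_zero hc0 hs.symm
  refine ⟨s, hs0, comm_fix E hz hc ?_⟩
  rw [h, hg, show p ^ E.e = p ^ E.e - 1 + 1 by omega, pow_succ, hs, mul_inv_cancel_left₀ hc0]

/-- **The centralizer of `L` in the fixed points is trivial** (untwisted frames). -/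
theorem cent_triv (E : Frame hp p d (sg l 1) L) {z : YY D p} (hz : E.F z = z) (hc : ∀ x, z * E.ι x = E.ι x * z) :
    z = 1 := by
  obtain ⟨w, hw⟩ := E.gr
  obtain ⟨n, hn⟩ := DS.Nt.exists_RP hp p w⁻¹
  obtain ⟨y, hy⟩ := E.exists_move n
  rw [← hy] at hn
  have h1 := cent_triv' (E.move y w⁻¹ hn) (fun a => by
    rw [Frame.move_g, hw, wa_inv_wa, sg_apply, Units.val_one, one_smul]) (z := y⁻¹ * z * y) (by
    rw [Frame.move_fix, show y * (y⁻¹ * z * y) * y⁻¹ = z by group, hz]) fun x => by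
    rw [Frame.move_ι]
    calc y⁻¹ * z * y * (y⁻¹ * E.ι x * y) = y⁻¹ * (z * E.ι x) * y := by group
      _ = y⁻¹ * (E.ι x * z) * y := by rw [hc]
      _ = _ := by group
  calc z = y * (y⁻¹ * z * y) * y⁻¹ := by group
    _ = 1 := by rw [h1, mul_one, mul_inv_cancel]

/-- the automorphism of `L` induced by a fixed point -/
theorem exists_aut (E : Frame hp p d g0 L) {z : YY D p} (hz : E.F z = z) :
    ∃ σ : MulAut L, ∀ (k : ℕ) (x : L), E.ι ((σ ^ k) x) = z ^ k * E.ι x * (z ^ k)⁻¹ := by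
  choose f hf using fun x => conj_mem_range E hz x
  choose f' hf' using fun x => conj_mem_range E (y := z⁻¹) (by rw [map_inv, hz]) x
  let σ : MulAut L :=
    { toFun := f
      invFun := f'
      left_inv := fun x => E.inj (by rw [hf', hf]; group)
      right_inv := fun x => E.inj (by rw [hf, hf']; group)
      map_mul' := fun x y => E.inj (by rw [map_mul, hf, hf, hf, map_mul]; group) }
  refine ⟨σ, fun k => ?_⟩
  induction k with
  | zero => intro x; rw [pow_zero, pow_zero, MulAut.one_apply, one_mul, inv_one, mul_one]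
  | succ k ih =>
    intro x
    rw [pow_succ, MulAut.mul_apply, ih, show E.ι (σ x) = z * E.ι x * z⁻¹ from hf x, pow_succ]
    group

end cent

section grp

/-- an automorphism of odd order fixing `R`, `τ u` and `τ v` fixes `τ U` -/
theorem fix_range (big : Big) (c : Core τ α β R R') (h5 : ∀ u t : U, orderOf u = 5 → t * u = u * t → t ∈ zpowers u)
    (ho : ∀ σ : MulAut U, Odd (orderOf σ) → ∃ t : U, σ = MulAut.conj t) {u v : U} (hu : orderOf u = 5)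
    (hv : v * u * v⁻¹ = u⁻¹) {σ : MulAut L} {m : ℕ} (hm : Odd m) (hσ : σ ^ m = 1) (hR : ∀ r ∈ R, σ r = r)
    (hσu : σ (τ u) = τ u) (hσv : σ (τ v) = τ v) (w : U) : σ (τ w) = τ w := by
  have hc : (σ.toMonoidHom.comp τ).range ≤ centralizer (R : Set L) := by
    rintro _ ⟨w, rfl⟩
    rw [mem_centralizer_iff]
    intro r hr
    show r * σ (τ w) = σ (τ w) * r
    rw [← hR r hr, ← map_mul, ← map_mul, c.pair.comm w r hr]
  have h1 : ∀ w, ∃ w', τ w' = σ (τ w) := by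
    intro w
    obtain ⟨_, ⟨t, rfl⟩, ht⟩ := Rd.inner_of_perfect big (range_simple c.simple c.pair.inj)
      (range_perfect c.simple c.noncomm (σ.toMonoidHom.comp τ)) (hc.trans c.pair.cnorm) ⟨w, rfl⟩
    exact ⟨t, inv_mul_eq_one.1 (c.pair.cfaith _ (mul_mem (inv_mem (c.pair.tau_mem_cent t)) (hc ⟨w, rfl⟩))
      fun s => (mem_centralizer_iff.1 ht _ ⟨s, rfl⟩).symm)⟩
  choose f hf using h1
  let φ : U →* U := MonoidHom.mk' f fun a b => c.pair.inj (by rw [map_mul, hf, hf, hf, map_mul, map_mul])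
  have hφ : Function.Injective φ := fun a b h => c.pair.inj (σ.injective (by
    rw [← hf, ← hf]
    exact congrArg τ h))
  let ρ : MulAut U := MulEquiv.ofBijective φ (Finite.injective_iff_bijective.1 hφ)
  have hρ : ∀ w, τ (ρ w) = σ (τ w) := hf
  have hρk : ∀ (k : ℕ) (w : U), τ ((ρ ^ k) w) = (σ ^ k) (τ w) := by
    intro k
    induction k with
    | zero => intro w; rfl
    | succ k ih => intro w; rw [pow_succ, pow_succ, MulAut.mul_apply, MulAut.mul_apply, ih, hρ]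
  have hρm : ρ ^ m = 1 := MulEquiv.ext fun w => c.pair.inj (by rw [hρk, hσ]; rfl)
  obtain ⟨t, ht⟩ := ho ρ (hm.of_dvd_nat (orderOf_dvd_of_pow_eq_one hρm))
  have e : ∀ {s : U}, σ (τ s) = τ s → t * s = s * t := fun {s} hs => by
    have h2 : ρ s = s := c.pair.inj (by rw [hρ, hs])
    rw [ht, MulAut.conj_apply] at h2
    exact mul_inv_eq_iff_eq_mul.1 h2
  obtain ⟨k, hk⟩ := h5 u t hu (e hσu)
  have hk' : u ^ k = t := hk
  have h2 : v * t * v⁻¹ = t⁻¹ := by rw [← hk', ← conj_zpow, hv, inv_zpow]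
  rw [← e hσv, mul_inv_cancel_right] at h2
  have h3 : t ^ 5 = 1 := by rw [← hk', ← zpow_natCast, ← zpow_mul, mul_comm, zpow_mul, zpow_natCast, ← hu,
    pow_orderOf_eq_one, one_zpow]
  have h4 : t = 1 := by
    have h5 : t * t = 1 := by
      nth_rewrite 1 [h2]
      exact inv_mul_cancel t
    calc t = t ^ 5 * ((t * t) * (t * t))⁻¹ := by group
      _ = 1 := by rw [h3, h5]; group
  rw [← hρ, ht, h4, map_one]
  rfl

/-- an automorphism of order three fixing `τ U` and `R`, when `Out L` has only one subgroup of order three -/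
theorem eq_one_of_fix (c : Core τ α β R R')
    (o3 : ∀ a b : Cfsg.Out L, orderOf a = 3 → orderOf b = 3 → b ∈ zpowers a) {σ : MulAut L} (h3 : σ ^ 3 = 1)
    (h1 : σ ≠ 1) (hT : ∀ w, σ (τ w) = τ w) (hR : ∀ r ∈ R, σ r = r) {u : U} (hu : σ (α u) = α u) : u = 1 := by
  have : Fact (Nat.Prime 3) := ⟨Nat.prime_three⟩
  have key : ∀ ρ : MulAut L, (∀ y ∈ τ.range ⊔ R, ρ y = y) → ρ ∈ Cfsg.Inn L → ρ = 1 := by
    rintro _ h ⟨x, rfl⟩
    have h2 : ∀ y ∈ τ.range ⊔ R, x * y = y * x := fun y hy => mul_inv_eq_iff_eq_mul.1 (h y hy)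
    rw [c.pair.cfaith x (mem_centralizer_iff.2 fun r hr => (h2 r (mem_sup_right hr)).symm)
      fun w => h2 _ (mem_sup_left ⟨w, rfl⟩), map_one]
  have ord : ∀ ρ : MulAut L, (∀ y ∈ τ.range ⊔ R, ρ y = y) → ρ ^ 3 = 1 → ρ ≠ 1 →
      orderOf (ρ : Cfsg.Out L) = 3 := fun ρ h h3 h1 =>
    orderOf_eq_prime (by rw [← QuotientGroup.mk_pow, h3, QuotientGroup.mk_one])
      fun h2 => h1 (key ρ h ((QuotientGroup.eq_one_iff _).1 h2))
  have fixk : ∀ (k : ℕ) (y : L), σ y = y → (σ ^ k) y = y := by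
    intro k y hy
    induction k with
    | zero => rfl
    | succ k ih => rw [pow_succ, MulAut.mul_apply, hy, ih]
  let Y : Subgroup L := σ.toMonoidHom.eqLocus (MonoidHom.id L)
  have hS : τ.range ⊔ R ≤ Y := sup_le (by rintro _ ⟨w, rfl⟩; exact hT w) hR
  refine c.anorm u (c.max Y (fun h => h1 (MulEquiv.ext fun y => (show y ∈ Y from h ▸ mem_top y))) (fun θ hθ => ?_) hu)
  have h2 : ∀ y ∈ τ.range ⊔ R, (θ * σ * θ⁻¹) y = y := by
    intro y hy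
    rw [← hθ] at hy
    obtain ⟨y, hy', rfl⟩ := hy
    show θ (σ (θ⁻¹ (θ y))) = θ y
    rw [MulAut.inv_apply_self, show σ y = y from hS hy']
  have := Finite.of_injective (fun f : MulAut L => (f : L → L)) DFunLike.coe_injective
  obtain ⟨k, hk⟩ := (mem_powers_iff_mem_zpowers.2 (o3 _ _ (ord σ hS h3 h1) (ord _ h2 (by rw [conj_pow, h3]; group)
    fun h => h1 (by rwa [mul_inv_eq_one, mul_eq_left] at h))) : _ ∈ Submonoid.powers _)
  have hk' : ((σ ^ k : MulAut L) : Cfsg.Out L) = (θ * σ * θ⁻¹ : MulAut L) := by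
    rw [QuotientGroup.mk_pow]
    exact hk
  have h4 : σ ^ k = θ * σ * θ⁻¹ := inv_mul_eq_one.1 (key _ (fun y hy => by
    rw [MulAut.mul_apply, h2 y hy]
    exact (σ ^ k).injective (by rw [MulAut.apply_inv_self, fixk k y (hS hy)])) (QuotientGroup.eq.1 hk'))
  refine (eq_of_le_of_card_ge (H := Y) (K := Y.map θ.toMonoidHom) (fun y hy => ?_)
    (card_map_of_injective θ.injective).le).symm
  refine ⟨θ⁻¹ y, θ.injective ?_, MulAut.apply_inv_self _ θ y⟩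
  have h5 := fixk k y hy
  rw [h4] at h5
  exact h5.trans (MulAut.apply_inv_self _ θ y).symm

end grp

theorem exists_order {q e : ℕ} (hq : q = 2 ^ e) (h4 : 4 ≤ q) (ε : ℤˣ) :
    ∃ m : ℕ, (q : ℤ) = m + ε ∧ Odd m ∧ 3 ≤ m ∧ (m = 3 → ε = 1 ∧ q = 4) := by
  have h2 : Even q := by
    rw [hq, Nat.even_pow]
    refine ⟨even_two, ?_⟩
    rintro rfl
    omega
  obtain ⟨k, hk⟩ := h2
  rcases Int.units_eq_one_or ε with rfl | rfl
  · exact ⟨q - 1, by rw [Units.val_one]; omega, ⟨k - 1, by omega⟩, by omega, fun h => ⟨rfl, by omega⟩⟩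
  · exact ⟨q + 1, by rw [Units.val_neg, Units.val_one]; omega, ⟨k, by omega⟩, by omega, fun h => by omega⟩

/-- **`E₆`, characteristic two, `r = 5`.** -/
theorem e6 (big : Big) (f5 : BoxFin5) (g5 : BoxGrp5) (o3 : BoxOut3) {d : ℕ} (hd : d ∣ 3) {ε : ℤˣ}
    (E : Frame tE6 2 d (sg 6 ε) L) {ζ : kb 2} {u v : U} {A B : Lat 6 →+ ZMod 5} (h : Dat E τ α β R R' 5 ζ u v A B)
    (hc : Cmb tE6 2 E.q 5 (sg 6 ε) E.g A B) : ¬ ∀ r : ℕ, r.Prime → 7 ≤ r → r ∣ Nat.card U → r = 2 := by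
  intro h7
  obtain ⟨h5, ho⟩ := g5 U h.core.simple h.core.noncomm (primes_le h7)
  have hζ := h.prim
  obtain ⟨hq, θ, ⟨a0, ha0, hθ0⟩, hψ, hneg, hg⟩ := f5.e6 _ _ _ _ _ _ hc
  obtain ⟨m, hm, hodd, hm3, hm4⟩ := exists_order (q := E.q) rfl (four_le E.two_le hq) ε
  obtain ⟨c, hcm⟩ := exists_zeta 2 (m := m) (Nat.coprime_two_right.2 hodd)
  have hc0 : c ≠ 0 := hcm.ne_zero (by omega)
  obtain ⟨z, hz, hzc⟩ := exists_tor_all tE6 (DS.Nt.isMC_zpow hc0 θ)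
  have hch : ∀ a, Rt tE6 a → ch tE6 a z = c ^ θ a := fun a ha => (cX_rt hz ha).symm.trans (hzc a)
  have hpow : ∀ n : ℤ, (c ^ n) ^ m = 1 := fun n => by
    rw [← zpow_natCast, ← zpow_mul, mul_comm, zpow_mul, zpow_natCast, hcm.pow_eq_one, one_zpow]
  have hF : E.F z = z := fix_of_ch E hz fun a ha => by
    rw [hch _ ((E.fr.root a).2 ha), hch a ha, hg, ← zpow_natCast, hm, zpow_add₀ (zpow_ne_zero _ hc0), zpow_natCast,
      hpow, one_mul, ← zpow_mul, mul_comm]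
  have hzm : z ^ m = 1 := chi_sep (hp := tE6) (pow_mem hz m) (one_mem _) fun a ha => by
    rw [ch_pow ha hz, hch a ha, hpow, ch_one ha]
  have hu5 : τ u ^ 5 = 1 := by rw [← map_pow, ← h.ord, pow_orderOf_eq_one, map_one]
  have hk : ∀ a ∈ PsiS tE6 {E.ι (τ u)}, ch tE6 a z = 1 := fun a ha => by
    rw [h.chiX.psiS hζ] at ha
    rw [hch a ha.1, (hψ ha).2, zpow_zero]
  have hzR : ∀ r ∈ R, z * E.ι r = E.ι r * z := fun r hr =>
    comm_of_psi hz hk (le_MS E h.chiX.1 hu5 h.core.pair.perfect (h.core.pair.comm u) hr)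
  have hn : E.ι (τ v) * E.ι (τ u) * (E.ι (τ v))⁻¹ = (E.ι (τ u))⁻¹ := by
    rw [← map_inv, ← map_mul, ← map_mul, ← map_inv, ← map_mul, ← map_mul, h.inv, map_inv, map_inv]
  have hzv : z * E.ι (τ v) = E.ι (τ v) * z := by
    obtain ⟨w, hw⟩ := exists_weyl (hp := tE6) boxChi (E.ι (τ v))
    have h1 := hw _ h.chiX.1 (by rw [hn]; exact inv_mem h.chiX.1)
    rw [hn] at h1
    have h2 : Neg tE6 w (A + B) := fun a => by
      have h6 := h.chiX.of_conj hζ (h.chiX.inv hζ) h1 a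
      rw [AddMonoidHom.neg_apply] at h6
      exact neg_eq_iff_eq_neg.1 h6
    obtain ⟨k, hk'⟩ := DS.Nt.exists_RP tE6 2 w
    have h3 : k * z * k⁻¹ = z := conj_of_rp hk' hz hz fun a ha => by
      rw [hch _ (ha.wa' w), hch a ha, hneg w h2]
    have h4 := conj_eq_of_inv (hp := tE6) (by norm_num) h.chiX.1 (by rw [← map_pow, hu5, map_one]) hn
      (conj_of_rp hk' h.chiX.1 (inv_mem h.chiX.1) h1) (y := z) (by rw [h3]; exact hz) (by rw [h3]; exact hk)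
    rw [h3] at h4
    exact (mul_inv_eq_iff_eq_mul.1 h4).symm
  obtain ⟨σ, hσ⟩ := exists_aut E hF
  have fix : ∀ {x : L}, σ x = x ↔ z * E.ι x = E.ι x * z := fun {x} => by
    have h1 := hσ 1 x
    rw [pow_one, pow_one] at h1
    rw [← mul_inv_eq_iff_eq_mul, ← h1, E.inj.eq_iff]
  have triv : ∀ {n : ℕ}, z ^ n = 1 → σ ^ n = 1 := fun {n} hn => MulEquiv.ext fun x => E.inj (by
    rw [hσ, hn, one_mul, inv_one, mul_one]
    rfl)
  have hT := fix_range big h.core h5 ho h.ord h.inv hodd (triv hzm) (fun r hr => fix.2 (hzR r hr))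
    (fix.2 (tcomm tE6 hz h.chiX.1)) (fix.2 hzv)
  have dvd : ∀ {n : ℕ}, z ^ n = 1 → m ∣ n := fun {n} hn => by
    have h1 := ch_pow ha0 hz n
    rw [hn, ch_one ha0, hch a0 ha0, hθ0, zpow_one] at h1
    exact hcm.dvd_of_pow_eq_one n h1.symm
  have hz3 : z ^ 3 = 1 := by
    obtain ⟨j, hj⟩ := hd
    obtain ⟨x, hx⟩ : z ^ 3 ∈ E.ι.range := by
      rw [hj, pow_mul]
      exact pow_mem (E.idx z hF) j
    have h1 : ∀ {y : L}, z * E.ι y = E.ι y * z → x * y = y * x := fun {y} hy => E.inj (by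
      rw [map_mul, map_mul, hx]
      exact (Commute.pow_left hy 3).eq)
    rw [← hx, h.core.pair.cfaith x (mem_centralizer_iff.2 fun r hr => (h1 (hzR r hr)).symm)
      fun w => h1 (fix.1 (hT w)), map_one]
  obtain ⟨rfl, hq4⟩ := hm4 (le_antisymm (Nat.le_of_dvd (by norm_num) (dvd hz3)) hm3)
  have h1 := eq_one_of_fix h.core (o3 d L E hq4) (triv hz3) (fun h1 => by
    have h2 := cent_triv E hF fun x => fix.1 (by rw [h1]; rfl)
    have h3 := Nat.le_of_dvd one_pos (dvd (n := 1) (by rw [h2, one_pow]))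
    omega) hT (fun r hr => fix.2 (hzR r hr)) (fix.2 (tcomm tE6 hz h.chiA.1))
  have h2 := h.ord
  rw [h1, orderOf_one] at h2
  omega

end Cfsg.Agent.Cam.Ex.Five2
end

-- part: Cam/Odd/St
section
/-!
# An involution of type `E₆ T₁`: `BoxSt` (helper53)
-/

set_option autoImplicit false
set_option linter.unusedVariables false
set_option linter.unusedSectionVars false

namespace Cfsg.Agent.Cam.Odd.St

open CoxeterSystem Cfsg Cfsg.Lie Subgroup Module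
open Cfsg.Agent.Tits.Roots Cfsg.Agent.Nodes.BNOf Cfsg.Agent.Nodes.RGDChev Cfsg.Agent.KFacts.RgdChevCoord
open Cfsg.Agent.ChevalleyStructure.CoxeterGeom Cfsg.Agent.ChevalleyStructure.CoxeterGeomTypes
open Cfsg.Agent.Cam.Spor Cfsg.Agent.Cam.Ex Cfsg.Agent.TwoFusion.PerfCore
open Cfsg.Agent.DS.Nt (dd Tp RP DZ)

variable {D : ChevalleyDatum} {l : ℕ} {M : CoxeterMatrix (Fin l)} {hp : IsType D l M} {p : ℕ} [Fact p.Prime]

/-- `ω` is a minuscule lift of `φ`, unique up to sign -/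
structure Om (hp : IsType D l M) (φ : Lat l →+ ZMod 2) (ω : Lat l →+ ℤ) : Prop where
  val : ∀ a, Rt hp a → ω a = 0 ∨ ω a = 1 ∨ ω a = -1
  eq : ∀ a, φ a = (ω a : ZMod 2)
  one : ∃ a, Rt hp a ∧ ω a = 1
  sgn : ∀ f : Lat l ≃+ Lat l, (∀ a, Rt hp (f a) ↔ Rt hp a) → (∀ a, φ (f a) = φ a) →
    (∀ a, ω (f a) = ω a) ∨ ∀ a, ω (f a) = -ω a

/-- reduction modulo `m` -/
def md (m : ℕ) (ω : Lat l →+ ℤ) : Lat l →+ ZMod m := (Int.castAddHom (ZMod m)).comp ω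

theorem md_apply (m : ℕ) (ω : Lat l →+ ℤ) (a : Lat l) : md m ω a = (ω a : ZMod m) := rfl

variable {φ : Lat l →+ ZMod 2} {ω : Lat l →+ ℤ}

theorem Om.zero (h : Om hp φ ω) {a : Lat l} (ha : a ∈ Psi hp φ) : ω a = 0 := by
  have h1 := ha.2
  rw [h.eq] at h1
  rcases h.val a ha.1 with h2 | h2 | h2
  · exact h2
  · rw [h2] at h1
    exact absurd h1 (by decide)
  · rw [h2] at h1
    exact absurd h1 (by decide)

theorem Om.mem_WW (hl : l ≤ 7) (h : Om hp φ ω) {w : M.Group} (hw : ∀ a, ω (wa hp w a) = ω a) :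
    w ∈ WW hp (Psi hp φ) := by
  have h1 := boxConn D l M hp hl 5 (by norm_num) le_rfl {md 5 ω} w (by
    rintro _ rfl a
    rw [md_apply, md_apply, hw])
  have h2 : {a | Rt hp a ∧ ∀ ψ ∈ ({md 5 ω} : Set (Lat l →+ ZMod 5)), ψ a = 0} = Psi hp φ := by
    ext a
    constructor
    · rintro ⟨ha, h3⟩
      have h4 := h3 _ rfl
      rw [md_apply] at h4
      refine ⟨ha, ?_⟩
      rw [h.eq]
      rcases h.val a ha with h5 | h5 | h5 <;> rw [h5] at h4 ⊢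
      · rfl
      · exact absurd h4 (by decide)
      · exact absurd h4 (by decide)
    · intro ha
      refine ⟨ha.1, ?_⟩
      rintro _ rfl
      rw [md_apply, h.zero ha, Int.cast_zero]
  rwa [h2] at h1

variable {m : ℕ} [NeZero m] {ζ : kb p} {x s : YY D p}

theorem Om.comm (h : Om hp φ ω) (hs : Chi hp ζ s (md m ω)) {y : YY D p} (hy : y ∈ MS D l p (Psi hp φ)) :
    y * s = s * y :=
  En.comm_MS (hp := hp) (fun a ha => ha.1) hs.1 (fun a ha => by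
    rw [hs.2 a ha.1, md_apply, h.zero ha, Int.cast_zero, ZMod.val_zero, pow_zero]) hy

/-- the centralizer of `x` normalizes the central torus -/
theorem Om.conj (hl : l ≤ 7) (h2 : p ≠ 2) (h : Om hp φ ω) (hζ : IsPrimitiveRoot ζ m) (hx : Chi hp (-1) x φ)
    (hs : Chi hp ζ s (md m ω)) {c : YY D p} (hc : c * x = x * c) :
    (c ∈ DZ hp p {x} ∧ c * s * c⁻¹ = s) ∨ c * s * c⁻¹ = s⁻¹ := by
  obtain ⟨y, hy, w, k, hk, hkx, rfl⟩ := form_one (hp := hp) hx.1 hx.1 (n := c) (by rw [hc, mul_inv_cancel_right])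
  have hw : Fixs hp w φ := Chi.of_conj (prim2 h2) hx hx fun a ha => by
    have h1 := ch_rp hk hx.1 ha
    rwa [hkx] at h1
  have hy' : y * s = s * y := h.comm hs (by rwa [← hx.psiS (prim2 h2)])
  have e : y * k * s * (y * k)⁻¹ = y * (k * s * k⁻¹) * y⁻¹ := by group
  rcases h.sgn (BpExc.Fr.repAut M.toCoxeterSystem hp.isCartan w) (Cb.rt_wa hp w) hw with h1 | h1
  · left
    have h3 : k * s * k⁻¹ = s := Five2.conj_of_rp hk hs.1 hs.1 fun a ha => by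
      rw [hs.2 _ (ha.wa' w), hs.2 a ha, md_apply, md_apply]
      exact congrArg (fun z : ℤ => ζ ^ (z : ZMod m).val) (h1 a)
    refine ⟨?_, by rw [e, h3, hy', mul_inv_cancel_right]⟩
    have h4 := h.mem_WW hl h1
    rw [← hx.psiS (prim2 h2)] at h4
    have cs := cs_psiS (hp := hp) (Q := {x}) (by rintro _ rfl; exact hx.1)
    obtain ⟨y', hy1, hk'⟩ := DS.Ex.Tor.exists_rp_MS (p := p) (fun a ha => ha.1) (fun a ha => cs.neg a ha) h4
    have h5 : y'⁻¹ * k ∈ TT D (kb p) := by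
      have h6 := hk'.inv.mul hk
      rw [inv_mul_cancel] at h6
      exact h6.mem_T
    refine mul_mem (DS.Nt.Mz_le_DZ hy) ?_
    rw [show k = y' * (y'⁻¹ * k) by group]
    exact mul_mem (DS.Nt.Mz_le_DZ hy1) (DS.Nt.T_le_DZ h5)
  · right
    have h3 : k * s * k⁻¹ = s⁻¹ := conj_of_neg hζ hs hk fun a => by
      rw [md_apply, md_apply, ← Int.cast_neg]
      exact congrArg (fun z : ℤ => (z : ZMod m)) (h1 a)
    rw [e, h3, mul_inv_eq_iff_eq_mul]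
    exact (Commute.inv_right (show Commute y s from hy')).eq

variable {d : ℕ} {g0 : Lat l ≃+ Lat l} {L : Type} [Group L] [Finite L] {U : Type} [Group U] [Finite U]
  {τ α β : U →* L} {R R' : Subgroup L}

theorem exists_mod (E : Frame hp p d g0 L) (hq : 7 ≤ E.q) {e : ℤ} (he : e = 1 ∨ e = -1) :
    ∃ m : ℕ, 6 ≤ m ∧ m.Coprime p ∧ (E.q : ZMod m) = e := by
  have hd : p ∣ E.q := dvd_pow_self p E.he.ne'
  have hp' : p.Prime := Fact.out
  rcases he with rfl | rfl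
  · obtain ⟨m, hm⟩ : ∃ m, E.q = m + 1 := ⟨E.q - 1, by omega⟩
    refine ⟨m, by omega, ((Nat.Prime.coprime_iff_not_dvd hp').2 fun h => ?_).symm, ?_⟩
    · rw [hm] at hd
      exact hp'.one_lt.ne' (Nat.dvd_one.1 ((Nat.dvd_add_right h).1 hd))
    · rw [hm, Nat.cast_succ, ZMod.natCast_self, zero_add, Int.cast_one]
  · refine ⟨E.q + 1, by omega, ((Nat.Prime.coprime_iff_not_dvd hp').2 fun h => ?_).symm, ?_⟩
    · exact hp'.one_lt.ne' (Nat.dvd_one.1 ((Nat.dvd_add_right hd).1 h))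
    · have h1 := ZMod.natCast_self (E.q + 1)
      rw [Nat.cast_succ] at h1
      rw [Int.cast_neg, Int.cast_one]
      exact eq_neg_of_add_eq_zero_left h1

theorem tp_of (big : Big) (hl : l ≤ 7) (E : Frame hp p d g0 L) (C : Core τ α β R R') (h2 : p ≠ 2) (hq : 7 ≤ E.q)
    {u u' : U} (hu : u ^ 2 = 1) (hu' : u' ^ 2 = 1) (hc : u * u' = u' * u) (hx : Chi hp (-1) (E.ι (τ u)) φ)
    (h : Om hp φ ω) : Tp p (E.ι (τ u)) (E.ι (τ u')) := by
  obtain ⟨e, he, hg⟩ : ∃ e : ℤ, (e = 1 ∨ e = -1) ∧ ∀ a, ω (E.g a) = e * ω a := by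
    rcases h.sgn E.g E.fr.root (chi2_g E h2 hx) with h1 | h1
    · exact ⟨1, Or.inl rfl, fun a => by rw [h1, one_mul]⟩
    · exact ⟨-1, Or.inr rfl, fun a => by rw [h1, neg_one_mul]⟩
  obtain ⟨m, h6, hm, hqe⟩ := exists_mod E hq he
  have : NeZero m := ⟨by omega⟩
  obtain ⟨ζ, hζ⟩ := exists_zeta p hm
  obtain ⟨s, hs⟩ := chi_sur hp hζ (md m ω)
  have hF : E.F s = s := E.fix_of_chi hζ hs fun a => by rw [md_apply, md_apply, hg, hqe, Int.cast_mul]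
  have hn : E.ι (τ u') * E.ι (τ u) = E.ι (τ u) * E.ι (τ u') := by
    rw [← map_mul, ← map_mul, ← map_mul, ← map_mul, hc]
  rcases h.conj hl h2 hζ hx hs hn with h1 | h1
  · obtain ⟨g, h3, h4⟩ := tor_DZ (hp := hp) h2 (Set.finite_singleton _) (by
      rintro _ rfl
      exact ⟨hx.1, hx.pow_eq_one (prim2 h2)⟩) h1.1 (by rw [← map_pow, ← map_pow, hu', map_one, map_one])
    exact ⟨g, h3 _ rfl, h4⟩
  exfalso
  have hR : ∀ r ∈ R, E.ι r * s = s * E.ι r := fun r hr => h.comm hs (by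
    rw [← hx.psiS (prim2 h2)]
    refine E.perf_le Nat.prime_two (Q := {E.ι (τ u)}) ?_ C.pair.perfect ?_ ⟨r, hr, rfl⟩
    · rintro _ rfl
      exact ⟨hx.1, hx.pow_eq_one (prim2 h2)⟩
    · rintro _ rfl y hy
      rw [← map_mul, ← map_mul, C.pair.comm u y hy])
  obtain ⟨σ, hσ⟩ := Five2.exists_aut E hF
  have hσ1 : ∀ y, E.ι (σ y) = s * E.ι y * s⁻¹ := fun y => by
    have h3 := hσ 1 y
    rwa [pow_one, pow_one] at h3
  have hT : (σ.toMonoidHom.comp τ).range ≤ τ.range := by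
    refine P.perf_le big C (range_perfect C.simple C.noncomm _) ?_
    rintro _ ⟨v, rfl⟩
    refine mem_centralizer_iff.2 fun r hr => E.inj ?_
    change E.ι (r * σ (τ v)) = E.ι (σ (τ v) * r)
    have h3 : E.ι (τ v) * E.ι r = E.ι r * E.ι (τ v) := by rw [← map_mul, ← map_mul, C.pair.comm v r hr]
    have h4 : s⁻¹ * E.ι r = E.ι r * s⁻¹ := (Commute.inv_right (show Commute (E.ι r) s from hR r hr)).eq.symm
    rw [map_mul, map_mul, hσ1, mul_assoc _ s⁻¹, h4, ← mul_assoc, ← mul_assoc, hR r hr, mul_assoc s, ← h3]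
    group
  obtain ⟨v, hv⟩ := hT ⟨u', rfl⟩
  have hy : E.ι (τ (v * u'⁻¹)) = s * s := by
    have h3 : E.ι (τ v) = s * E.ι (τ u') * s⁻¹ := by
      rw [hv]
      exact hσ1 _
    have h4 : E.ι (τ u') * s⁻¹ * (E.ι (τ u'))⁻¹ = s := by
      rw [← conj_inv, h1, inv_inv]
    rw [map_mul, map_mul, map_inv, map_inv, h3, mul_assoc, mul_assoc, ← mul_assoc (E.ι _), h4]
  generalize v * u'⁻¹ = y at hy
  have ha : E.ι (α u') * E.ι (τ u) = E.ι (τ u) * E.ι (α u') := by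
    rw [← map_mul, ← map_mul, mem_centralizer_iff.1 (C.alpha_mem_cent hc) _ rfl]
  have h3 : ∃ z, α u' * (τ y)⁻¹ * (α u')⁻¹ = τ z := by
    have e : E.ι (α u' * (τ y)⁻¹ * (α u')⁻¹) = (E.ι (α u') * s * (E.ι (α u'))⁻¹ * (E.ι (α u') * s * (E.ι (α u'))⁻¹))⁻¹ := by
      rw [map_mul, map_mul, map_inv, map_inv, hy]
      group
    rcases h.conj hl h2 hζ hx hs ha with h4 | h4
    · exact ⟨y⁻¹, E.inj (by rw [e, h4.2, map_inv, map_inv, hy])⟩
    · exact ⟨y, E.inj (by rw [e, h4, hy, mul_inv_rev, inv_inv])⟩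
  obtain ⟨z, hz⟩ := h3
  have h4 : y * u' = u' * y := C.sp (centralizer_le_normalizer _ (by
    rw [mul_assoc, mul_assoc, ← mul_assoc (α u'), hz, ← map_mul]
    exact C.pair.tau_mem_cent _))
  have h5 : s * s = s⁻¹ * s⁻¹ := by
    have h6 : E.ι (τ u') * (s * s) * (E.ι (τ u'))⁻¹ = s * s := by
      rw [← hy, ← map_mul, ← map_mul, ← h4, map_mul, map_mul, mul_inv_cancel_right]
    rw [← h6, ← h1, conj_mul]
  have h7 : s ^ 4 = 1 := by
    calc s ^ 4 = s * s * (s * s) := by rw [show 4 = 1 + 1 + (1 + 1) from rfl, pow_add, pow_add, pow_one]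
      _ = 1 := by
        nth_rewrite 1 [h5]
        group
  obtain ⟨a, ha1, ha2⟩ := h.one
  have h8 := ch_pow ha1 hs.1 4
  have : Fact (1 < m) := ⟨by omega⟩
  rw [h7, ch_one ha1, hs.2 a ha1, md_apply, ha2, Int.cast_one, ZMod.val_one, pow_one] at h8
  have := Nat.le_of_dvd (by norm_num) (hζ.dvd_of_pow_eq_one 4 h8.symm)
  omega

/-- **`BoxSt`.** -/
theorem boxSt (big : Big) : BoxSt := by
  intro p _ d hd L _ _ E U _ _ τ α β R R' C h2 hq u u' hu hu' hc h79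
  have hu2 : u ^ 2 = 1 := by rw [← hu, pow_orderOf_eq_one]
  have hu2' : u' ^ 2 = 1 := by rw [← hu', pow_orderOf_eq_one]
  have hτ : τ u ^ 2 = 1 := by rw [← map_pow, hu2, map_one]
  obtain ⟨E', hE, hx⟩ := exists_frame₁ E h2 hτ
  obtain ⟨φ, hφ⟩ := exists_chi2 E' h2 hx hτ
  have h1 := dd_chi (prim2 h2) hφ
  rw [cj_dd hE, h79] at h1
  obtain ⟨ω, h3, h4, h5, h6⟩ := L7.exists_om (φ := φ) (by omega)
  exact (cj_tp hE).1 (tp_of big le_rfl E' C h2 (by rwa [cj_q hE]) hu2 hu2' hc hφ ⟨h3, h4, h5, h6⟩)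

end Cfsg.Agent.Cam.Odd.St
end

private theorem dce_f8ff22973722 : _root_.True := by
  try have : _root_.True := by simp only [_root_.Cfsg.Agent.Cam.Odd.Low.Rho.congr_simp]
  try have : _root_.True := by simp only [_root_.Cfsg.Agent.Cam.Odd.Low.bd.eq_1]
  try have : _root_.True := by simp only [_root_.Cfsg.Agent.Cam.Odd.Low.rt4.eq_1]
  try have : _root_.True := by simp only [_root_.Cfsg.Agent.Cam.Odd.Low.lam.congr_simp]
  try have : _root_.True := by simp only [_root_.Cfsg.Agent.Cam.Odd.Low.red.eq_1]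
  try have : _root_.True := by simp only [_root_.Cfsg.Agent.Cam.Odd.Low.b4.eq_1]
  try have : _root_.True := by simp only [_root_.Cfsg.Agent.Cam.Odd.Low.b2.eq_1]
  try have : _root_.True := by simp only [_root_.Cfsg.Agent.Cam.Odd.Low.b6.eq_1]
  exact _root_.True.intro
end

-- part: Cam/Odd/E7B_mg
section
prune_inst 0x20000000400000000000050400000020000004000000080000000004040820600000200004800112000088080000000000100020000000000000000000000000080242002340a104660000000004000000000000000000000000000000000000000000000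
set_option linter.all false
open scoped Cfsg.Agent.FastGrp

-- part: Cam/Odd/E7A
section
/-!
# `E₇`, odd characteristic: involutions of the algebraic group (helper81)

`OY x y` : the involution `y` centralizes the root `SL₂` of the root involution `x`.
-/

set_option autoImplicit false
set_option linter.unusedVariables false
set_option linter.unusedSectionVars false

namespace Cfsg.Agent.Cam.Odd

open CoxeterSystem Cfsg Cfsg.Lie Subgroup Module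
open Cfsg.Agent.Tits.Roots Cfsg.Agent.Nodes.BNOf Cfsg.Agent.Nodes.RGDChev Cfsg.Agent.KFacts.RgdChevCoord
open Cfsg.Agent.ChevalleyStructure.CoxeterGeom Cfsg.Agent.ChevalleyStructure.CoxeterGeomTypes
open Cfsg.Agent.Cam.Spor Cfsg.Agent.Cam.Ex Cfsg.Agent.Cam.Ex.S2 Cfsg.Agent.TwoFusion.PerfCore
open Cfsg.Agent.DS.Nt (dd ad Fx Tp RP DZ)
open scoped commutatorElement

variable {p : ℕ} [Fact p.Prime]

theorem typ7 : DS.Ex.Typ chevE7 := Or.inr (Or.inr (Or.inl rfl))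

theorem z2_add : ∀ a b : ZMod 2, a + b = 0 ↔ (a = 0 ↔ b = 0) := by decide

theorem z2_one : ∀ a : ZMod 2, a ≠ 0 → a = 1 := by decide

theorem eps_add (φ ψ : Lat 7 →+ ZMod 2) : eps (φ + ψ) = eps φ + eps ψ := rfl

theorem sq_conj {G : Type*} [Group G] {x : G} (g : G) (h : x ^ 2 = 1) : (g * x * g⁻¹) ^ 2 = 1 := by
  rw [conj_pow, h, mul_one, mul_inv_cancel]

theorem conj_ne_one {G : Type*} [Group G] {x : G} (g : G) (h : x ≠ 1) : g * x * g⁻¹ ≠ 1 := fun e =>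
  h (by rwa [mul_inv_eq_one, mul_eq_left] at e)

theorem conj_inj' {G : Type*} [Group G] {g x y : G} (h : g * x * g⁻¹ = g * y * g⁻¹) : x = y :=
  mul_left_cancel (mul_right_cancel h)

theorem exists_chiY (h2 : p ≠ 2) {x : YY chevE7 p} (hx : x ∈ TT chevE7 (kb p)) (hx2 : x ^ 2 = 1) :
    ∃ φ : Lat 7 →+ ZMod 2, Chi tE7 (-1) x φ := chi_ex tE7 (prim2 h2) two_pos hx hx2

theorem exists_chiY' (h2 : p ≠ 2) {x : YY chevE7 p} (hx2 : x ^ 2 = 1) :
    ∃ (g : YY chevE7 p) (φ : Lat 7 →+ ZMod 2), Chi tE7 (-1) (g * x * g⁻¹) φ := by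
  obtain ⟨g, hg⟩ := DS.Nt.exists_conj_T tE7 (x := x) (n := 1) Nat.prime_two h2.symm (by rw [pow_one, hx2])
  obtain ⟨φ, h⟩ := exists_chiY h2 hg (sq_conj g hx2)
  exact ⟨g, φ, h⟩

theorem dd_conj_chi (h2 : p ≠ 2) {g x : YY chevE7 p} {φ : Lat 7 →+ ZMod 2} (h : Chi tE7 (-1) (g * x * g⁻¹) φ) :
    dd p x = 7 + nk tE7 φ := by
  rw [← dd_chi (prim2 h2) h, DS.Nt.dd_conj]

/-- the three classes of involutions -/
theorem dd_inv (l7 : BoxL7) (h2 : p ≠ 2) {x : YY chevE7 p} (hx2 : x ^ 2 = 1) (hx : x ≠ 1) :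
    dd p x = 63 ∨ dd p x = 69 ∨ dd p x = 79 := by
  obtain ⟨g, φ, h⟩ := exists_chiY' h2 hx2
  have h1 := l7.l1 φ (h.ne_zero (prim2 h2) boxChi (conj_ne_one g hx))
  rw [dd_conj_chi h2 h]
  omega

theorem eps_iff (l7 : BoxL7) (h2 : p ≠ 2) {g x : YY chevE7 p} {φ : Lat 7 →+ ZMod 2}
    (h : Chi tE7 (-1) (g * x * g⁻¹) φ) (hx : x ≠ 1) : eps φ = 0 ↔ dd p x = 69 := by
  rw [l7.l2 φ (h.ne_zero (prim2 h2) boxChi (conj_ne_one g hx)), dd_conj_chi h2 h]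
  omega

theorem chi_conj_mul (h2 : p ≠ 2) {g x y : YY chevE7 p} {φ ψ : Lat 7 →+ ZMod 2} (h : Chi tE7 (-1) (g * x * g⁻¹) φ)
    (h' : Chi tE7 (-1) (g * y * g⁻¹) ψ) : Chi tE7 (-1) (g * (x * y) * g⁻¹) (φ + ψ) := by
  rw [show g * (x * y) * g⁻¹ = g * x * g⁻¹ * (g * y * g⁻¹) by group]
  exact h.mul (prim2 h2) h'

theorem Tp.chi (h2 : p ≠ 2) {x y : YY chevE7 p} (h : Tp p x y) (hx : x ^ 2 = 1) (hy : y ^ 2 = 1) :
    ∃ (g : YY chevE7 p) (φ ψ : Lat 7 →+ ZMod 2), Chi tE7 (-1) (g * x * g⁻¹) φ ∧ Chi tE7 (-1) (g * y * g⁻¹) ψ := by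
  obtain ⟨g, h1, h3⟩ := h
  obtain ⟨φ, hφ⟩ := exists_chiY h2 h1 (sq_conj g hx)
  obtain ⟨ψ, hψ⟩ := exists_chiY h2 h3 (sq_conj g hy)
  exact ⟨g, φ, ψ, hφ, hψ⟩

/-- `eps` is additive on toral pairs -/
theorem dd_mul (l7 : BoxL7) (h2 : p ≠ 2) {x y : YY chevE7 p} (h : Tp p x y) (hx2 : x ^ 2 = 1) (hy2 : y ^ 2 = 1)
    (hx : x ≠ 1) (hy : y ≠ 1) (hxy : x * y ≠ 1) : dd p (x * y) = 69 ↔ (dd p x = 69 ↔ dd p y = 69) := by
  obtain ⟨g, φ, ψ, hφ, hψ⟩ := Tp.chi h2 h hx2 hy2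
  rw [← eps_iff l7 h2 hφ hx, ← eps_iff l7 h2 hψ hy, ← eps_iff l7 h2 (chi_conj_mul h2 hφ hψ) hxy, eps_add, z2_add]

/-- the centralizer of a root involution is connected -/
theorem mem_DZ_rho (h2 : p ≠ 2) {x : YY chevE7 p} (hx : x ∈ TT chevE7 (kb p)) (hx2 : x ^ 2 = 1) (h69 : dd p x = 69)
    {c : YY chevE7 p} (hc : c * x = x * c) : c ∈ DZ tE7 p {x} := by
  rcases (DS.Nt.DZ_one tE7 typ7 Nat.prime_two h2.symm hx hx2).2 with h | ⟨-, h, -⟩ | ⟨-, -, h⟩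
  · exact h c hc
  · omega
  · omega

theorem tp_rho (h2 : p ≠ 2) {x y : YY chevE7 p} (hx2 : x ^ 2 = 1) (h69 : dd p x = 69) (hy2 : y ^ 2 = 1)
    (hc : x * y = y * x) : Tp p x y := by
  obtain ⟨g, φ, h⟩ := exists_chiY' h2 hx2
  exact DS.Nt.Tp.of_conj (c := g) (DS.Nt.tp_of_mem_DZ Nat.prime_two h2.symm h.1 ⟨1, sq_conj g hx2⟩
    (mem_DZ_rho h2 h.1 (sq_conj g hx2) (by rw [DS.Nt.dd_conj, h69]) (DS.Nt.conj_comm hc.symm)) ⟨1, sq_conj g hy2⟩)

/-- the centralizer of a root involution acts on its `SL₂` by inner automorphisms -/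
theorem inn_rho (h2 : p ≠ 2) {x : YY chevE7 p} {φ : Lat 7 →+ ZMod 2} (h : Chi tE7 (-1) x φ) (h62 : nk tE7 φ = 62)
    {c : Lat 7} (hc : A1c tE7 (Psi tE7 φ) c) {n : YY chevE7 p} (hn : n * x = x * n) :
    ∃ j, IA (sl p hc.1.1) n j := by
  obtain ⟨m, hm, t, ht, rfl⟩ := DS.Nt.mem_DZ.1
    (mem_DZ_rho h2 h.1 (h.pow_eq_one (prim2 h2)) (by rw [dd_chi (prim2 h2) h, h62]) hn)
  rw [← MS_psiS, h.psiS (prim2 h2)] at hm
  obtain ⟨j, hj⟩ := (spl_psi hc.1.1 hc).inn _ hm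
  obtain ⟨a, -, -, ha⟩ := inn_T hc.1.1 ht
  exact ⟨_, hj.mul ha⟩

theorem cz_conj {k Y : Type*} [Field k] [Group Y] {ψ : SL k →* Y} {n y : Y} {j : SL k} (hn : IA ψ n j) (hy : Cz ψ y) :
    Cz ψ (n * y * n⁻¹) := fun g => by
  have h1 : n⁻¹ * ψ g * n = ψ (j⁻¹ * g * j) := by
    have h2 := hn.inv g
    rwa [inv_inv, inv_inv] at h2
  calc n * y * n⁻¹ * ψ g = n * (y * (n⁻¹ * ψ g * n)) * n⁻¹ := by group
    _ = n * ((n⁻¹ * ψ g * n) * y) * n⁻¹ := by rw [h1, hy]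
    _ = _ := by group

theorem cz_conj_iff {k Y : Type*} [Field k] [Group Y] {ψ : SL k →* Y} {n y : Y} {j : SL k} (hn : IA ψ n j) :
    Cz ψ (n * y * n⁻¹) ↔ Cz ψ y :=
  ⟨fun h => by simpa [mul_assoc] using cz_conj hn.inv h, cz_conj hn⟩

/-- `Ort` is invariant under the Weyl group -/
theorem Ort.wa {φ ψ φ' ψ' : Lat 7 →+ ZMod 2} {w : CoxeterMatrix.E₇.Group} (h1 : ∀ a, φ' (wa tE7 w a) = φ a)
    (h3 : ∀ a, ψ' (wa tE7 w a) = ψ a) (h : Ort φ ψ) : Ort φ' ψ' := fun c hc => by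
  rw [← wa_wa_inv (hp := tE7) w c, h3]
  refine h _ ⟨⟨hc.1.1.wa' _, by rw [← h1, wa_wa_inv]; exact hc.1.2⟩, fun a ha => ?_⟩
  rcases hc.2 (Ex.wa tE7 w a) ⟨ha.1.wa' _, (h1 a).trans ha.2⟩ with e | e | e
  · exact Or.inl (by rw [← e, wa_inv_wa])
  · exact Or.inr (Or.inl (by rw [← wa_neg, ← e, wa_inv_wa]))
  · exact Or.inr (Or.inr (by rw [← cp_wa w _ (hc.1.1.wa' _), wa_wa_inv, e]))

theorem ort_iff (l7 : BoxL7) {φ ψ : Lat 7 →+ ZMod 2} (h62 : nk tE7 φ = 62) {c : Lat 7} (hc : A1c tE7 (Psi tE7 φ) c) :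
    Ort φ ψ ↔ ψ c = 0 := by
  refine ⟨fun h => h c hc, fun h c' hc' => ?_⟩
  obtain ⟨c0, -, h0, -⟩ := l7.l3 φ h62
  rcases h0 c hc with rfl | rfl <;> rcases h0 c' hc' with rfl | rfl
  · exact h
  · rw [map_neg, h, neg_zero]
  · rwa [map_neg, neg_eq_zero] at h
  · exact h

/-- `y` centralizes the root `SL₂` of `x` -/
def OY (x y : YY chevE7 p) : Prop := ∀ (g : YY chevE7 p) (φ ψ : Lat 7 →+ ZMod 2),
  Chi tE7 (-1) (g * x * g⁻¹) φ → Chi tE7 (-1) (g * y * g⁻¹) ψ → Ort φ ψ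

theorem oy_of (h2 : p ≠ 2) {g x y : YY chevE7 p} {φ ψ : Lat 7 →+ ZMod 2} (hφ : Chi tE7 (-1) (g * x * g⁻¹) φ)
    (hψ : Chi tE7 (-1) (g * y * g⁻¹) ψ) (h : Ort φ ψ) : OY x y := fun g' φ' ψ' hφ' hψ' => by
  obtain ⟨w, hw⟩ := exists_weyl (hp := tE7) boxChi (g' * g⁻¹)
  have e : ∀ z : YY chevE7 p, g' * g⁻¹ * (g * z * g⁻¹) * (g' * g⁻¹)⁻¹ = g' * z * g'⁻¹ := fun z => by group
  have h1 := hw _ hφ.1 (by rw [e]; exact hφ'.1)
  have h3 := hw _ hψ.1 (by rw [e]; exact hψ'.1)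
  rw [e] at h1 h3
  exact h.wa (hφ.of_conj (prim2 h2) hφ' h1) (hψ.of_conj (prim2 h2) hψ' h3)

theorem OY.conj {x y : YY chevE7 p} (h : OY x y) (n : YY chevE7 p) : OY (n * x * n⁻¹) (n * y * n⁻¹) :=
  fun g φ ψ hφ hψ => h (g * n) φ ψ (by convert hφ using 1; group) (by convert hψ using 1; group)

theorem oy_iff_cz (l7 : BoxL7) (h2 : p ≠ 2) {g x y : YY chevE7 p} {φ : Lat 7 →+ ZMod 2}
    (hφ : Chi tE7 (-1) (g * x * g⁻¹) φ) (h62 : nk tE7 φ = 62) {c : Lat 7} (hc : A1c tE7 (Psi tE7 φ) c)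
    (hy : y ^ 2 = 1) (hxy : x * y = y * x) : OY x y ↔ Cz (sl p hc.1.1) (g * y * g⁻¹) := by
  have hx2 : x ^ 2 = 1 := by
    have h1 := hφ.pow_eq_one (prim2 h2)
    rwa [conj_pow, mul_inv_eq_one, mul_eq_left] at h1
  obtain ⟨g', h1, h3⟩ := DS.Nt.exists_pair tE7 hφ.1 (tp_rho h2 hx2 (by rw [dd_conj_chi h2 hφ, h62]) hy hxy)
  obtain ⟨ψ, hψ⟩ := exists_chiY h2 h3 (sq_conj g' hy)
  obtain ⟨j, hj⟩ := inn_rho h2 hφ h62 hc (n := g' * g⁻¹) (by
    calc g' * g⁻¹ * (g * x * g⁻¹) = g' * x * g'⁻¹ * (g' * g⁻¹) := by group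
      _ = _ := by rw [h1])
  have hφ' : Chi tE7 (-1) (g' * x * g'⁻¹) φ := by
    rw [h1]
    exact hφ
  rw [← cz_conj_iff hj, show g' * g⁻¹ * (g * y * g⁻¹) * (g' * g⁻¹)⁻¹ = g' * y * g'⁻¹ by group, cz_chi h2 hψ,
    ← ort_iff l7 h62 hc]
  exact ⟨fun h => h g' φ ψ hφ' hψ, oy_of h2 hφ' hψ⟩

/-- a simple group centralizing `x` acts trivially on the root `SL₂` as soon as one non-trivial element does -/
theorem cz_all {k Y U : Type*} [Field k] [Group Y] [Group U] (hs : IsSimpleGroup U) {ψ : SL k →* Y} {b : U →* Y}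
    (hi : ∀ u, ∃ j, IA ψ (b u) j) {v : U} (hv : v ≠ 1) (h : Cz ψ (b v)) (u : U) : Cz ψ (b u) := by
  let N : Subgroup U :=
    { carrier := {u | Cz ψ (b u)}
      one_mem' := fun g => by rw [map_one, one_mul, mul_one]
      mul_mem' := fun {a a'} ha ha' g => by
        rw [map_mul, mul_assoc, ha' g, ← mul_assoc, ha g, mul_assoc]
      inv_mem' := fun {a} ha g => by
        rw [map_inv, inv_mul_eq_iff_eq_mul, ← mul_assoc, ha g, mul_inv_cancel_right] }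
  have hN : N.Normal := ⟨fun a ha g => by
    obtain ⟨j, hj⟩ := hi g
    show Cz ψ (b (g * a * g⁻¹))
    rw [map_mul, map_mul, map_inv]
    exact cz_conj hj ha⟩
  rcases hs.eq_bot_or_eq_top_of_normal N hN with h1 | h1
  · exact absurd ((eq_bot_iff.1 h1) (show v ∈ N from h)) hv
  · exact (eq_top_iff.1 h1) (mem_top u)

theorem oy_all (l7 : BoxL7) (h2 : p ≠ 2) {U : Type} [Group U] (hs : IsSimpleGroup U) {b : U →* YY chevE7 p}
    {x : YY chevE7 p} (hx2 : x ^ 2 = 1) (h69 : dd p x = 69) (hc : ∀ u, x * b u = b u * x) {v : U} (hv : v ≠ 1)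
    (hv2 : v ^ 2 = 1) (h : OY x (b v)) {u : U} (hu : u ^ 2 = 1) : OY x (b u) := by
  obtain ⟨g, φ, hφ⟩ := exists_chiY' h2 hx2
  have h62 : nk tE7 φ = 62 := by
    have := dd_conj_chi h2 hφ
    omega
  obtain ⟨c, hc1, -⟩ := l7.l3 φ h62
  rw [oy_iff_cz l7 h2 hφ h62 hc1 (by rw [← map_pow, hv2, map_one]) (hc v)] at h
  rw [oy_iff_cz l7 h2 hφ h62 hc1 (by rw [← map_pow, hu, map_one]) (hc u)]
  exact cz_all hs (b := (MulAut.conj g).toMonoidHom.comp b)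
    (fun u => inn_rho h2 hφ h62 hc1 (DS.Nt.conj_comm (hc u).symm)) hv h u

/-- additivity on a toral triple -/
theorem oy_mul (l7 : BoxL7) (h2 : p ≠ 2) {g x y z : YY chevE7 p} (hx : g * x * g⁻¹ ∈ TT chevE7 (kb p))
    (hy : g * y * g⁻¹ ∈ TT chevE7 (kb p)) (hz : g * z * g⁻¹ ∈ TT chevE7 (kb p)) (hx2 : x ^ 2 = 1) (hy2 : y ^ 2 = 1)
    (hz2 : z ^ 2 = 1) (h69 : dd p x = 69) (h : OY x y ↔ OY x z) : OY x (y * z) := by
  obtain ⟨φ, hφ⟩ := exists_chiY h2 hx (sq_conj g hx2)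
  obtain ⟨ψ, hψ⟩ := exists_chiY h2 hy (sq_conj g hy2)
  obtain ⟨χ, hχ⟩ := exists_chiY h2 hz (sq_conj g hz2)
  have h62 : nk tE7 φ = 62 := by
    have := dd_conj_chi h2 hφ
    omega
  obtain ⟨c, hc, -⟩ := l7.l3 φ h62
  refine oy_of h2 hφ (chi_conj_mul h2 hψ hχ) ((ort_iff l7 h62 hc).2 ?_)
  rw [AddMonoidHom.add_apply, z2_add, ← ort_iff l7 h62 hc, ← ort_iff l7 h62 hc]
  exact ⟨fun h1 => h.1 (oy_of h2 hφ hψ h1) g φ χ hφ hχ, fun h1 => h.2 (oy_of h2 hφ hχ h1) g φ ψ hφ hψ⟩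

/-- an outer involution centralizing the root `SL₂` changes its class -/
theorem oy_out (l7 : BoxL7) (h2 : p ≠ 2) {x y : YY chevE7 p} (hx2 : x ^ 2 = 1) (hy2 : y ^ 2 = 1) (hy : y ≠ 1)
    (h69 : dd p x = 69) (hy69 : dd p y ≠ 69) (hc : x * y = y * x) : OY x y ↔ dd p (y * x) ≠ dd p y := by
  obtain ⟨g, φ, ψ, hφ, hψ⟩ := Tp.chi h2 (tp_rho h2 hx2 h69 hy2 hc) hx2 hy2
  have h62 : nk tE7 φ = 62 := by
    have := dd_conj_chi h2 hφ
    omega
  obtain ⟨c, hc1, -, -, h3⟩ := l7.l3 φ h62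
  have h4 := h3 ψ (z2_one _ fun e => hy69 ((eps_iff l7 h2 hψ hy).1 e))
  rw [dd_conj_chi h2 (chi_conj_mul h2 hψ hφ), dd_conj_chi h2 hψ, Ne, add_right_inj, ← Ne, ← h4, ← ort_iff l7 h62 hc1]
  exact ⟨fun h => h g φ ψ hφ hψ, oy_of h2 hφ hψ⟩

theorem chi_pow' {m : ℕ} [NeZero m] {ζ : kb p} (hζ : IsPrimitiveRoot ζ m) {t : YY chevE7 p} {φ : Lat 7 →+ ZMod m}
    (h : Chi tE7 ζ t φ) (n : ℕ) : Chi tE7 ζ (t ^ n) (n • φ) := by
  induction n with
  | zero =>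
    rw [pow_zero, zero_smul]
    exact chi_one hζ
  | succ n ih =>
    rw [pow_succ, succ_nsmul]
    exact ih.mul hζ h

theorem psiS_three (x y z : YY chevE7 p) :
    PsiS tE7 {x, y, z} = PsiS tE7 {x} ∩ PsiS tE7 {y} ∩ PsiS tE7 {z} := by
  ext a
  simp only [PsiS, Set.mem_ofPred_eq, Set.mem_inter_iff, Set.mem_insert_iff, Set.mem_singleton_iff,
    forall_eq_or_imp, forall_eq]
  exact ⟨fun h => ⟨⟨⟨h.1, h.2.1⟩, h.1, h.2.2.1⟩, h.1, h.2.2.2⟩, fun h => ⟨h.2.1, h.1.1.2, h.1.2.2, h.2.2⟩⟩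

/-- **No orthogonal group of order `16` of root involutions.** -/
theorem four_rho (l7 : BoxL7) (h2 : p ≠ 2) {g a₁ a₂ b₁ b₂ : YY chevE7 p} (t1 : g * a₁ * g⁻¹ ∈ TT chevE7 (kb p))
    (t2 : g * a₂ * g⁻¹ ∈ TT chevE7 (kb p)) (t3 : g * b₁ * g⁻¹ ∈ TT chevE7 (kb p)) (s1 : a₁ ^ 2 = 1) (s2 : a₂ ^ 2 = 1)
    (s3 : b₁ ^ 2 = 1) (s4 : b₂ ^ 2 = 1) (n4 : b₂ ≠ 1) (d1 : dd p a₁ = 69) (d2 : dd p a₂ = 69) (d3 : dd p b₁ = 69)
    (d4 : dd p b₂ = 69) (e1 : a₁ ≠ a₂) (e2 : b₁ ≠ a₁) (e3 : b₁ ≠ a₂) (e4 : b₁ ≠ a₁ * a₂) (c1 : b₂ * a₁ = a₁ * b₂)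
    (c2 : b₂ * a₂ = a₂ * b₂) (c3 : b₂ * b₁ = b₁ * b₂) (o1 : OY a₁ a₂) (o2 : OY a₁ b₁) (o3 : OY a₂ b₁) (o4 : OY a₁ b₂)
    (o5 : OY a₂ b₂) (o6 : OY (a₁ * b₁) (a₂ * b₂)) : ∃ i j k : ℕ, b₂ = a₁ ^ i * a₂ ^ j * b₁ ^ k := by
  have key : ∀ {g : YY chevE7 p} {φ₁ φ₂ φ₃ : Lat 7 →+ ZMod 2}, Chi tE7 (-1) (g * a₁ * g⁻¹) φ₁ →
      Chi tE7 (-1) (g * a₂ * g⁻¹) φ₂ → Chi tE7 (-1) (g * b₁ * g⁻¹) φ₃ →
      (∀ w, Fixs tE7 w φ₁ → Fixs tE7 w φ₂ → Fixs tE7 w φ₃ → w ∈ WW tE7 (Psi tE7 φ₁ ∩ Psi tE7 φ₂ ∩ Psi tE7 φ₃)) ∧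
      ∀ φ₄ : Lat 7 →+ ZMod 2, eps φ₄ = 0 → Ort φ₁ φ₄ → Ort φ₂ φ₄ → Ort (φ₁ + φ₃) (φ₂ + φ₄) →
        ∃ i j k : ℕ, φ₄ = i • φ₁ + j • φ₂ + k • φ₃ := by
    intro g φ₁ φ₂ φ₃ h1 h3 h4
    have hne : ∀ {x y : YY chevE7 p} {φ ψ : Lat 7 →+ ZMod 2}, Chi tE7 (-1) (g * x * g⁻¹) φ →
        Chi tE7 (-1) (g * y * g⁻¹) ψ → x ≠ y → φ ≠ ψ := by
      intro x y φ ψ hφ hψ hxy e
      subst e
      exact hxy (conj_inj' (Chi.eq_of (prim2 h2) boxChi hφ hψ))
    have f1 := dd_conj_chi h2 h1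
    have f2 := dd_conj_chi h2 h3
    have f3 := dd_conj_chi h2 h4
    exact l7.l4 φ₁ φ₂ φ₃ (by omega) (by omega) (by omega) (hne h1 h3 e1) (hne h4 h1 e2) (hne h4 h3 e3)
      (hne h4 (chi_conj_mul h2 h1 h3) e4) (o1 g _ _ h1 h3) (o2 g _ _ h1 h4) (o3 g _ _ h3 h4)
  obtain ⟨φ₁, h1⟩ := exists_chiY h2 t1 (sq_conj g s1)
  obtain ⟨φ₂, h3⟩ := exists_chiY h2 t2 (sq_conj g s2)
  obtain ⟨φ₃, h4⟩ := exists_chiY h2 t3 (sq_conj g s3)
  have hZ : ∀ t ∈ ({g * a₁ * g⁻¹, g * a₂ * g⁻¹, g * b₁ * g⁻¹} : Set (YY chevE7 p)),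
      t ∈ TT chevE7 (kb p) ∧ t ^ 2 = 1 := by
    rintro _ (rfl | rfl | rfl)
    exacts [⟨t1, sq_conj g s1⟩, ⟨t2, sq_conj g s2⟩, ⟨t3, sq_conj g s3⟩]
  have hD : g * b₂ * g⁻¹ ∈ DZ tE7 p {g * a₁ * g⁻¹, g * a₂ * g⁻¹, g * b₁ * g⁻¹} := by
    refine mem_DZ_of_conn (Set.toFinite _) (fun t ht => (hZ t ht).1) (fun w hw => ?_) ?_
    · have h5 := (key h1 h3 h4).1 w (h1.of_conj (prim2 h2) h1 fun a ha => hw a ha _ (Or.inl rfl))
        (h3.of_conj (prim2 h2) h3 fun a ha => hw a ha _ (Or.inr (Or.inl rfl)))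
        (h4.of_conj (prim2 h2) h4 fun a ha => hw a ha _ (Or.inr (Or.inr rfl)))
      rw [← h1.psiS (prim2 h2), ← h3.psiS (prim2 h2), ← h4.psiS (prim2 h2)] at h5
      rw [psiS_three]
      exact h5
    · rintro _ (rfl | rfl | rfl)
      exacts [DS.Nt.conj_comm c1, DS.Nt.conj_comm c2, DS.Nt.conj_comm c3]
  obtain ⟨g', h6, h7⟩ := tor_DZ h2 (Set.toFinite _) hZ hD (sq_conj g s4)
  have e : ∀ z : YY chevE7 p, g' * (g * z * g⁻¹) * g'⁻¹ = g' * g * z * (g' * g)⁻¹ := fun z => by group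
  obtain ⟨ψ₁, k1⟩ := exists_chiY h2 (e a₁ ▸ h6 _ (Or.inl rfl)) (sq_conj _ s1)
  obtain ⟨ψ₂, k2⟩ := exists_chiY h2 (e a₂ ▸ h6 _ (Or.inr (Or.inl rfl))) (sq_conj _ s2)
  obtain ⟨ψ₃, k3⟩ := exists_chiY h2 (e b₁ ▸ h6 _ (Or.inr (Or.inr rfl))) (sq_conj _ s3)
  obtain ⟨ψ₄, k4⟩ := exists_chiY h2 (e b₂ ▸ h7) (sq_conj _ s4)
  obtain ⟨i, j, k, h8⟩ := (key k1 k2 k3).2 ψ₄ ((eps_iff l7 h2 k4 n4).2 d4) (o4 _ _ _ k1 k4) (o5 _ _ _ k2 k4)
    (o6 _ _ _ (chi_conj_mul h2 k1 k3) (chi_conj_mul h2 k2 k4))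
  refine ⟨i, j, k, ?_⟩
  have h9 := ((chi_pow' (prim2 h2) k1 i).mul (prim2 h2) (chi_pow' (prim2 h2) k2 j)).mul (prim2 h2)
    (chi_pow' (prim2 h2) k3 k)
  rw [← h8] at h9
  have h10 := Chi.eq_of (prim2 h2) boxChi k4 h9
  rw [conj_pow, conj_pow, conj_pow, conj_mul, conj_mul] at h10
  exact conj_inj' h10

/-- the classes of elements of order three -/
theorem dd_three (l7 : BoxL7) (h3 : p ≠ 3) {x : YY chevE7 p} (hx3 : x ^ 3 = 1) (hx : x ≠ 1) :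
    dd p x = 43 ∨ dd p x = 49 ∨ dd p x = 67 ∨ dd p x = 79 := by
  obtain ⟨g, hg⟩ := DS.Nt.exists_conj_T tE7 (x := x) (n := 1) Nat.prime_three h3.symm (by rw [pow_one, hx3])
  obtain ⟨ζ, hζ⟩ := exists_zeta p (m := 3) ((Nat.coprime_primes Nat.prime_three Fact.out).2 h3.symm)
  obtain ⟨φ, h⟩ := chi_ex tE7 hζ (by norm_num) hg (by rw [conj_pow, hx3, mul_one, mul_inv_cancel])
  have h1 := l7.l6 φ (h.ne_zero hζ boxChi (conj_ne_one g hx))
  rw [← DS.Nt.dd_conj g, dd_chi hζ h]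
  omega

/-- elements of order six -/
theorem dd_six (l7 : BoxL7) (h2 : p ≠ 2) (h3 : p ≠ 3) {x t : YY chevE7 p} (hx : x ^ 2 = 1) (ht : t ^ 3 = 1)
    (hc : x * t = t * x) (dx : dd p x = 63) (dt : dd p t = 67) : dd p (x * t) ≠ 29 := by
  have hc' : Commute x t := hc
  have e3 : (x * t) ^ 3 = x := by rw [hc'.mul_pow, ht, mul_one, pow_succ, hx, one_mul]
  have e4 : (x * t) ^ 4 = t := by
    rw [hc'.mul_pow, show 4 = 2 * 2 from rfl, pow_mul, hx, one_pow, one_mul, show 2 * 2 = 3 + 1 from rfl, pow_succ, ht,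
      one_mul]
  have e6 : (x * t) ^ 6 = 1 := by rw [show 6 = 3 * 2 from rfl, pow_mul, e3, hx]
  obtain ⟨g, hg⟩ := H944.TorAnyChev.exists_conj_mem_TT tE7 p (BpExc.TorAll.hAlg_of_isAlgebraic p (kb p)) (q := 6)
    (by norm_num) (by
      rw [show 6 = 2 * 3 from rfl]
      exact Nat.Coprime.mul_left ((Nat.coprime_primes Nat.prime_two Fact.out).2 h2.symm)
        ((Nat.coprime_primes Nat.prime_three Fact.out).2 h3.symm)) e6
  have gx : g * x * g⁻¹ = (g * (x * t) * g⁻¹) ^ 3 := by rw [conj_pow, e3]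
  have gt : g * t * g⁻¹ = (g * (x * t) * g⁻¹) ^ 4 := by rw [conj_pow, e4]
  have hx' : g * x * g⁻¹ ∈ TT chevE7 (kb p) := gx ▸ pow_mem hg 3
  have ht' : g * t * g⁻¹ ∈ TT chevE7 (kb p) := gt ▸ pow_mem hg 4
  obtain ⟨φ, hφ⟩ := exists_chiY h2 hx' (sq_conj g hx)
  obtain ⟨ζ, hζ⟩ := exists_zeta p (m := 3) ((Nat.coprime_primes Nat.prime_three Fact.out).2 h3.symm)
  obtain ⟨χ, hχ⟩ := chi_ex tE7 hζ (by norm_num) ht' (by rw [conj_pow, ht, mul_one, mul_inv_cancel])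
  have f1 := dd_conj_chi h2 hφ
  have f2 := dd_chi hζ hχ
  rw [DS.Nt.dd_conj] at f2
  have h1 := l7.l7 φ χ (by omega) (by omega)
  have h4 : PsiS tE7 {g * (x * t) * g⁻¹} = Psi tE7 φ ∩ Psi tE7 χ := by
    rw [← hφ.psiS (prim2 h2), ← hχ.psiS hζ]
    ext a
    simp only [PsiS, Set.mem_ofPred_eq, Set.mem_inter_iff, Set.mem_singleton_iff, forall_eq]
    constructor
    · rintro ⟨ha, h⟩
      exact ⟨⟨ha, by rw [gx, ch_pow ha hg, h, one_pow]⟩, ha, by rw [gt, ch_pow ha hg, h, one_pow]⟩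
    · rintro ⟨⟨ha, h⟩, -, h'⟩
      exact ⟨ha, by rw [← conj_mul, ch_mul ha hx' ht', h, h', one_mul]⟩
  rw [← DS.Nt.dd_conj g, dd_psiS (hp := tE7) hg, h4]
  omega

end Cfsg.Agent.Cam.Odd
end

-- part: Cam/Odd/E7B
section
/-!
# `E₇`, odd characteristic: no core (helper81)
-/

set_option autoImplicit false
set_option linter.unusedVariables false
set_option linter.unusedSectionVars false

namespace Cfsg.Agent.Cam.Odd

open CoxeterSystem Cfsg Cfsg.Lie Subgroup Module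
open Cfsg.Agent.Tits.Roots Cfsg.Agent.Nodes.BNOf Cfsg.Agent.Nodes.RGDChev Cfsg.Agent.KFacts.RgdChevCoord
open Cfsg.Agent.ChevalleyStructure.CoxeterGeom Cfsg.Agent.ChevalleyStructure.CoxeterGeomTypes
open Cfsg.Agent.Cam.Spor Cfsg.Agent.Cam.Ex Cfsg.Agent.Cam.Ex.S2 Cfsg.Agent.TwoFusion.PerfCore
open Cfsg.Agent.DS.Nt (dd ad Fx Tp RP DZ)
open Cfsg.Agent.DS.NT (ev)
open scoped commutatorElement

section grp

variable {G H : Type*} [Group G] [Group H]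

theorem sq_of {u : G} (h : orderOf u = 2) : u ^ 2 = 1 := by rw [← h, pow_orderOf_eq_one]

theorem ne_of {u : G} (h : orderOf u = 2) : u ≠ 1 := fun e => by
  rw [e, orderOf_one] at h
  omega

theorem map_sq (f : G →* H) {u : G} (h : u ^ 2 = 1) : f u ^ 2 = 1 := by rw [← map_pow, h, map_one]

theorem map_ne {f : G →* H} (hf : Function.Injective f) {u : G} (h : u ≠ 1) : f u ≠ 1 := fun e =>
  h (hf (by rw [e, map_one]))

theorem ord_mul {u v : G} (hu : orderOf u = 2) (hv : orderOf v = 2) (hne : u ≠ v) (hc : u * v = v * u) :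
    orderOf (u * v) = 2 := by
  refine orderOf_eq_prime (by rw [(show Commute u v from hc).mul_pow, sq_of hu, sq_of hv, mul_one]) fun e => hne ?_
  have h1 : v * v = 1 := by rw [← pow_two, sq_of hv]
  exact mul_right_cancel (e.trans h1.symm)

theorem ord_conj (g u : G) : orderOf (g * u * g⁻¹) = orderOf u :=
  (MulAut.conj g).orderOf_eq u

theorem map_conj' (f : G →* H) (g u : G) : f (g * u * g⁻¹) = f g * f u * (f g)⁻¹ := by rw [map_mul, map_mul, map_inv]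

theorem map_comm (f : G →* H) {u v : G} (h : u * v = v * u) : f u * f v = f v * f u := by
  rw [← map_mul, ← map_mul, h]

end grp

theorem Tet.map {U V : Type} [Group U] [Group V] {f : U →* V} (hf : Function.Injective f) {x₁ x₂ t : U}
    (h : Tet x₁ x₂ t) : Tet (f x₁) (f x₂) (f t) where
  o1 := by rw [orderOf_injective f hf, h.o1]
  ne e := h.ne (hf e)
  comm := map_comm f h.comm
  c1 := by rw [← map_conj', h.c1]
  c2 := by rw [← map_conj', h.c2, map_mul]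
  o3 := by rw [orderOf_injective f hf, h.o3]

variable {p : ℕ} [Fact p.Prime] {d : ℕ} {g0 : Lat 7 ≃+ Lat 7} {L : Type} [Group L] [Finite L] {U : Type} [Group U]
  [Finite U] {τ α β : U →* L} {R R' : Subgroup L}

theorem alpha_mul_ne (C : Core τ α β R R') {u v : U} (hu : u ≠ 1) : α u * β v ≠ 1 := fun e =>
  hu (eq_one_of_comm C.simple C.noncomm fun w => C.pair'.inj (by
    rw [map_mul, map_mul, eq_inv_of_mul_eq_one_left e, ← map_inv]
    exact (C.ab w v⁻¹).symm))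

theorem alpha_eq_beta (C : Core τ α β R R') {u v : U} (h : α u = β v) : u = 1 ∧ v = 1 := by
  have h1 : u = 1 := by
    by_contra hu
    exact alpha_mul_ne C (v := v⁻¹) hu (by rw [h, ← map_mul, mul_inv_cancel, map_one])
  refine ⟨h1, C.binj ?_⟩
  rw [← h, h1, map_one, map_one]

/-- the representation of `U × U` on the adjoint module -/
noncomputable def rho (E : Frame tE7 p d g0 L) (C : Core τ α β R R') :
    U × U →* Module.End (kb p) (chevE7.Idx → kb p) :=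
  (ad chevE7 p).comp (E.ι.comp (α.noncommCoprod β fun u v => C.ab u v))

theorem rho_apply (E : Frame tE7 p d g0 L) (C : Core τ α β R R') (u v : U) :
    rho E C (u, v) = ad chevE7 p (E.ι (α u * β v)) := rfl

theorem ev_rho (E : Frame tE7 p d g0 L) (C : Core τ α β R R') (u v : U) :
    ev (rho E C) (u, v) 1 = dd p (E.ι (α u * β v)) := rfl

theorem ev_a (E : Frame tE7 p d g0 L) (C : Core τ α β R R') (u : U) :
    ev (rho E C) (u, 1) 1 = dd p (E.ι (α u)) := by rw [ev_rho, map_one, mul_one]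

theorem ev_b (E : Frame tE7 p d g0 L) (C : Core τ α β R R') (u : U) :
    ev (rho E C) (1, u) 1 = dd p (E.ι (β u)) := by rw [ev_rho, map_one, one_mul]

theorem ev_t (E : Frame tE7 p d g0 L) (C : Core τ α β R R') (u : U) :
    ev (rho E C) (u, u) 1 = dd p (E.ι (τ u)) := by rw [ev_rho, C.eq]

theorem nr7 : chevE7.nroots = 126 := by decide +kernel

theorem finrank7 : finrank (kb p) (chevE7.Idx → kb p) = 133 := by
  rw [DS.Nt.finrank_ad tE7, nr7]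

theorem two_ne (h2 : p ≠ 2) : (2 : kb p) ≠ 0 := DS.Nt.cast_ne_zero (r := 2) Nat.prime_two h2.symm

/-- `eps` is additive on `α U × β U` -/
theorem dd_ab (l7 : BoxL7) (E : Frame tE7 p d g0 L) (C : Core τ α β R R') (h2 : p ≠ 2) {u v : U} (hu : orderOf u = 2)
    (hv : orderOf v = 2) :
    dd p (E.ι (α u * β v)) = 69 ↔ (dd p (E.ι (α u)) = 69 ↔ dd p (E.ι (β v)) = 69) := by
  rw [map_mul]
  refine dd_mul l7 h2 (tp_ab E C h2 (sq_of hu) (sq_of hv)) (map_sq _ (map_sq _ (sq_of hu)))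
    (map_sq _ (map_sq _ (sq_of hv))) (map_ne E.inj (map_ne C.pair'.inj (ne_of hu)))
    (map_ne E.inj (map_ne C.binj (ne_of hv))) ?_
  rw [← map_mul]
  exact map_ne E.inj (alpha_mul_ne C (ne_of hu))

/-- `K3` in `T` -/
theorem oy_T (one : BoxOne) (l7 : BoxL7) (E : Frame tE7 p d g0 L) (C : Core τ α β R R') (h2 : p ≠ 2) (hq : 5 ≤ E.q)
    {u u' : U} (hu : u ^ 2 = 1) (hu' : u' ^ 2 = 1) (hc : u * u' = u' * u) (h69 : dd p (E.ι (τ u)) = 69) :
    OY (E.ι (τ u)) (E.ι (τ u')) := by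
  obtain ⟨E', hE, h1, h3⟩ := exists_frame₂ E (tp_rho h2 (map_sq _ (map_sq _ hu)) h69 (map_sq _ (map_sq _ hu'))
    (map_comm _ (map_comm _ hc)))
  obtain ⟨φ, hφ⟩ := exists_chi2 E' h2 h1 (map_sq _ hu)
  obtain ⟨ψ, hψ⟩ := exists_chi2 E' h2 h3 (map_sq _ hu')
  have h62 : nk tE7 φ = 62 := by
    have h4 := dd_chi (prim2 h2) hφ
    rw [cj_dd hE] at h4
    omega
  obtain ⟨c, hc1, hc2, -⟩ := l7.l3 φ h62
  have h5 := k3t one (by norm_num) e7_ne E' C h2 (by rw [cj_q hE]; exact hq) hφ hψ hc1 (hc2 _ (a1c_g E' h2 hφ hc1))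
  obtain ⟨-, z, hz⟩ := hE
  rw [hz] at hφ hψ
  exact oy_of h2 (g := z⁻¹) (by rw [inv_inv]; exact hφ) (by rw [inv_inv]; exact hψ) ((ort_iff l7 h62 hc1).2 h5)

/-- the four-groups of `T` with two conjugate involutions -/
theorem pure_T (one : BoxOne) (l7 : BoxL7) (E : Frame tE7 p d g0 L) (C : Core τ α β R R') (h2 : p ≠ 2)
    (hq : 5 ≤ E.q) {u g : U} (hu : orderOf u = 2) (hne : g * u * g⁻¹ ≠ u)
    (hc : u * (g * u * g⁻¹) = (g * u * g⁻¹) * u) :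
    dd p (E.ι (τ (u * (g * u * g⁻¹)))) = 69 ↔ dd p (E.ι (τ u)) = 69 := by
  have hv : orderOf (g * u * g⁻¹) = 2 := by rw [ord_conj, hu]
  have hw := ord_mul hu hv hne.symm hc
  have e : dd p (E.ι (τ (g * u * g⁻¹))) = dd p (E.ι (τ u)) := by rw [map_conj' τ, dd_conjL]
  have n : ∀ {v : U}, orderOf v = 2 → E.ι (τ v) ≠ 1 := fun hv => map_ne E.inj (map_ne C.pair.inj (ne_of hv))
  have s : ∀ {v : U}, orderOf v = 2 → E.ι (τ v) ^ 2 = 1 := fun hv => map_sq _ (map_sq _ (sq_of hv))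
  constructor
  · intro h
    by_contra h'
    have hc' : u * (g * u * g⁻¹) * u = u * (u * (g * u * g⁻¹)) := by rw [mul_assoc, ← hc]
    have h1 := (oy_out l7 h2 (s hw) (s hu) (n hu) h h' (map_comm _ (map_comm _ hc'))).1
      (oy_T one l7 E C h2 hq (sq_of hw) (sq_of hu) hc' h)
    rw [← map_mul, ← map_mul, ← mul_assoc, ← pow_two, sq_of hu, one_mul] at h1
    exact h1 e
  · intro h
    rw [map_mul, map_mul, dd_mul l7 h2 (tp_rho h2 (s hu) h (s hv) (map_comm _ (map_comm _ hc))) (s hu) (s hv) (n hu)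
      (n hv) (by rw [← map_mul, ← map_mul]; exact n hw), e]

/-- **Case I**: no root involution in `T`. -/
theorem no_rho (one : BoxOne) (l7 : BoxL7) (grp : BoxGrp) (lin : BoxLin) (E : Frame tE7 p d g0 L)
    (C : Core τ α β R R') (h2 : p ≠ 2) (hq : 5 ≤ E.q) {u : U} (hu : orderOf u = 2) : dd p (E.ι (τ u)) ≠ 69 := by
  intro x1
  obtain ⟨g, hne, hc⟩ := grp.zs U C.simple C.noncomm u hu
  obtain ⟨v, hv⟩ : ∃ v, v = g * u * g⁻¹ := ⟨_, rfl⟩
  have ov : orderOf v = 2 := by rw [hv, ord_conj, hu]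
  have ow : orderOf (u * v) = 2 := by
    rw [hv]
    exact ord_mul hu (hv ▸ ov) hne.symm hc
  have x2 : dd p (E.ι (τ v)) = 69 := by rw [hv, map_conj' τ, dd_conjL, x1]
  have x3 : dd p (E.ι (τ (u * v))) = 69 := by
    rw [hv]
    exact (pure_T one l7 E C h2 hq hu hne hc).2 x1
  obtain ⟨θ, ψ, α', β', Q, Q', hψ, C', hθ⟩ := exists_coreA C
  have a2 : dd p (E.ι (α v)) = dd p (E.ι (α u)) := by rw [hv, map_conj' α, dd_conjL]
  have a3 : dd p (E.ι (α (u * v))) = 69 ↔ dd p (E.ι (α u)) = 69 := by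
    have h1 := pure_T one l7 E C' h2 hq (u := ψ u) (g := ψ g) (by rw [orderOf_injective ψ hψ, hu])
      (by rw [← map_conj']; exact fun e => hne (hψ e)) (by rw [← map_conj']; exact map_comm ψ hc)
    rwa [← map_conj', ← map_mul, hθ, hθ, ← hv] at h1
  have b1 := dd_ab l7 E C h2 hu hu
  have b2 := dd_ab l7 E C h2 ov ov
  have b3 := dd_ab l7 E C h2 ow ow
  rw [← C.eq] at b1 b2 b3
  rw [← hv] at hne hc
  have sa : ∀ {v : U}, orderOf v = 2 → E.ι (α v) ^ 2 = 1 := fun hv => map_sq _ (map_sq _ (sq_of hv))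
  have sb : ∀ {v : U}, orderOf v = 2 → E.ι (β v) ^ 2 = 1 := fun hv => map_sq _ (map_sq _ (sq_of hv))
  have na : ∀ {v : U}, orderOf v = 2 → E.ι (α v) ≠ 1 := fun hv => map_ne E.inj (map_ne C.pair'.inj (ne_of hv))
  have nb : ∀ {v : U}, orderOf v = 2 → E.ι (β v) ≠ 1 := fun hv => map_ne E.inj (map_ne C.binj (ne_of hv))
  have cab : ∀ u v : U, E.ι (α u) * E.ι (β v) = E.ι (β v) * E.ι (α u) := fun u v => map_comm _ (C.ab u v)
  by_cases a1 : dd p (E.ι (α u)) = 69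
  · -- all involutions are root involutions
    have a2' := a2.trans a1
    have b1' := (b1.1 x1).1 a1
    have b2' := (b2.1 x2).1 a2'
    obtain ⟨z, t1, t2⟩ := tp_rho h2 (sb hu) b1' (sb ov) (map_comm _ (map_comm _ hc))
    obtain ⟨z', t3, t4⟩ := tor_perf tE7 h2 (Z := {E.ι (β u), E.ι (β v)}) (Set.toFinite _) (z := z) (by
      rintro _ (rfl | rfl)
      exacts [⟨t1, sb hu⟩, ⟨t2, sb ov⟩]) (range_perfect C.simple C.noncomm (E.ι.comp α)) (by
      rintro _ ⟨w, rfl⟩ _ (rfl | rfl)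
      exacts [cab w u, cab w v]) (x := E.ι (α u)) ⟨u, rfl⟩ (sa hu)
    have o1 : OY (E.ι (α u)) (E.ι (β u)) ↔ OY (E.ι (α u)) (E.ι (β v)) := by
      have e1 : E.ι (β g) * E.ι (α u) * (E.ι (β g))⁻¹ = E.ι (α u) := by rw [← cab, mul_inv_cancel_right]
      have e2 : E.ι (β g) * E.ι (β u) * (E.ι (β g))⁻¹ = E.ι (β v) := by rw [← map_conj', ← map_conj', hv]
      constructor
      · intro h
        have h1 := h.conj (E.ι (β g))
        rwa [e1, e2] at h1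
      · intro h
        have h1 := h.conj (E.ι (β g))⁻¹
        rwa [← e2, inv_inv,
          show (E.ι (β g))⁻¹ * E.ι (α u) * E.ι (β g) = E.ι (α u) by rw [mul_assoc, cab, inv_mul_cancel_left],
          show (E.ι (β g))⁻¹ * (E.ι (β g) * E.ι (β u) * (E.ι (β g))⁻¹) * E.ι (β g) = E.ι (β u) by group] at h1
    have o2 := oy_mul l7 h2 t4 (t3 _ (Or.inl rfl)) (t3 _ (Or.inr rfl)) (sa hu) (sb hu) (sb ov) a1 o1
    rw [← map_mul, ← map_mul] at o2
    have o3 : ∀ {w : U}, w ^ 2 = 1 → OY (E.ι (α u)) (E.ι (β w)) := fun hw =>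
      oy_all l7 h2 C.simple (b := E.ι.comp β) (sa hu) a1 (cab u) (ne_of ow) (sq_of ow) o2 hw
    have o4 : ∀ {w : U}, w ^ 2 = 1 → OY (E.ι (α v)) (E.ι (β w)) := fun {w} hw => by
      have h1 := (o3 hw).conj (E.ι (α g))
      rwa [← map_conj', ← map_conj', ← hv, cab, mul_inv_cancel_right] at h1
    have o5 : OY (E.ι (α u)) (E.ι (α v)) := by
      have h1 := oy_T one l7 E C' h2 hq (u := ψ u) (u' := ψ v) (map_sq _ (sq_of hu)) (map_sq _ (sq_of ov))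
        (map_comm _ hc) (by rw [hθ]; exact a1)
      rwa [hθ, hθ] at h1
    have o6 := oy_T one l7 E C h2 hq (sq_of hu) (sq_of ov) hc x1
    rw [C.eq, C.eq, map_mul, map_mul] at o6
    obtain ⟨y, t5, t6⟩ := tp_rho h2 (sa hu) a1 (sa ov) (map_comm _ (map_comm _ hc))
    obtain ⟨y', t7, t8⟩ := tor_perf tE7 h2 (Z := {E.ι (α u), E.ι (α v)}) (Set.toFinite _) (z := y) (by
      rintro _ (rfl | rfl)
      exacts [⟨t5, sa hu⟩, ⟨t6, sa ov⟩]) (range_perfect C.simple C.noncomm (E.ι.comp β)) (by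
      rintro _ ⟨w, rfl⟩ _ (rfl | rfl)
      exacts [(cab u w).symm, (cab v w).symm]) (x := E.ι (β u)) ⟨u, rfl⟩ (sb hu)
    have nab : ∀ w : U, E.ι (β u) ≠ E.ι (α w) := fun w e => ne_of hu (alpha_eq_beta C (E.inj e).symm).2
    obtain ⟨i, j, k, h⟩ := four_rho l7 h2 (t7 _ (Or.inl rfl)) (t7 _ (Or.inr rfl)) t8 (sa hu) (sa ov) (sb hu) (sb ov)
      (nb ov) a1 a2' b1' b2' (fun e => hne (C.pair'.inj (E.inj e)).symm) (nab u) (nab v)
      (by rw [← map_mul, ← map_mul]; exact nab _) (cab u v).symm (cab v v).symm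
      (map_comm _ (map_comm _ hc.symm)) o5 (o3 (sq_of hu)) (o4 (sq_of hu)) (o3 (sq_of ov)) (o4 (sq_of ov)) o6
    simp only [← map_pow, ← map_mul] at h
    have h1 : α (u ^ i * v ^ j) = β (v * (u ^ k)⁻¹) := by
      rw [map_mul β, map_inv, E.inj h, mul_inv_cancel_right]
    have h3 := mul_inv_eq_one.1 (alpha_eq_beta C h1).2
    rw [← pow_mod_orderOf, hu] at h3
    rcases Nat.mod_two_eq_zero_or_one k with h4 | h4
    · rw [h4, pow_zero] at h3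
      exact ne_of ov h3
    · rw [h4, pow_one] at h3
      exact hne h3
  · have hall : ∀ a ∈ ({u, v, u * v} : Set U), orderOf a = 2 ∧ dd p (E.ι (α a)) ≠ 69 ∧ dd p (E.ι (β a)) ≠ 69 := by
      rintro _ (rfl | rfl | rfl)
      · exact ⟨hu, a1, fun h => a1 ((b1.1 x1).2 h)⟩
      · exact ⟨ov, fun h => a1 (a2.symm.trans h), fun h => a1 (a2.symm.trans ((b2.1 x2).2 h))⟩
      · exact ⟨ow, fun h => a1 (a3.1 h), fun h => a1 (a3.1 ((b3.1 x3).2 h))⟩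
    refine lin.sixteen (kb p) _ U (rho E C) (two_ne h2) finrank7 u v hu ov hne.symm hc fun a ha => ?_
    obtain ⟨h1, h3, h4⟩ := hall a ha
    have h5 := dd_inv l7 h2 (sa h1) (na h1)
    have h6 := dd_inv l7 h2 (sb h1) (nb h1)
    rw [ev_a, ev_b]
    refine ⟨by (clear * - h3 h5; omega), by omega, fun b hb => ?_⟩
    obtain ⟨h7, -, h8⟩ := hall b hb
    rw [ev_rho, dd_ab l7 E C h2 h1 h7]
    exact iff_of_false h3 h8

theorem fx_tau (E : Frame tE7 p d g0 L) (C : Core τ α β R R') :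
    fx (rho E C) {g | g.1 = g.2} = Fx p (E.ι '' Set.range τ) := by
  ext m
  rw [mem_fx, DS.Nt.mem_Fx]
  constructor
  · rintro h _ ⟨_, ⟨u, rfl⟩, rfl⟩
    rw [C.eq]
    exact h (u, u) rfl
  · rintro h ⟨u, v⟩ (rfl : u = v)
    rw [rho_apply, ← C.eq]
    exact h _ ⟨_, ⟨u, rfl⟩, rfl⟩

theorem fx_alpha (E : Frame tE7 p d g0 L) (C : Core τ α β R R') :
    fx (rho E C) {g | g.2 = 1} = Fx p (E.ι '' Set.range α) := by
  ext m
  rw [mem_fx, DS.Nt.mem_Fx]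
  constructor
  · rintro h _ ⟨_, ⟨u, rfl⟩, rfl⟩
    have h1 := h (u, 1) rfl
    rwa [rho_apply, map_one, mul_one] at h1
  · rintro h ⟨u, v⟩ (rfl : v = 1)
    rw [rho_apply, map_one, mul_one]
    exact h _ ⟨_, ⟨u, rfl⟩, rfl⟩

/-- **No core in `E₇(q)`.** -/
theorem no_core7 (one : BoxOne) (l7 : BoxL7) (grp : BoxGrp) (lin : BoxLin) (nt : BoxNT) (ext : BoxExt) (st : BoxSt)
    (hd : d ∣ 2) (E : Frame tE7 p d (sg 7 1) L) (C : Core τ α β R R') (h2 : p ≠ 2) (hq : 5 ≤ E.q)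
    (h3 : p = 3 → 7 ≤ E.q)
    (hnt : p ≠ 3 → p ∣ Nat.card U ∨ (p ≠ 5 ∧ ∃ u v : U, orderOf u = 5 ∧ v * u * v⁻¹ = u⁻¹)) : False := by
  obtain ⟨θ, ψ, α', β', Q, Q', hψ, C', hθ⟩ := exists_coreA C
  obtain ⟨e1, e2, e3⟩ := ext p d hd L E θ
  have hθ' : ∀ u, θ (τ (ψ u)) = α u := hθ
  have ea : ∀ u, dd p (E.ι (α u)) = dd p (E.ι (τ (ψ u))) := fun u => by rw [← hθ', e1]
  have oψ : ∀ u, orderOf (ψ u) = orderOf u := orderOf_injective ψ hψ
  have nT : ∀ {u : U}, orderOf u = 2 → dd p (E.ι (τ u)) ≠ 69 := fun hu => no_rho one l7 grp lin E C h2 hq hu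
  have nA : ∀ {u : U}, orderOf u = 2 → dd p (E.ι (α u)) ≠ 69 := fun {u} hu => by
    rw [ea]
    exact nT ((oψ u).trans hu)
  have hB : ∀ {u : U}, orderOf u = 2 → dd p (E.ι (β u)) = 69 := fun {u} hu => by
    by_contra h
    have h1 := (dd_ab l7 E C h2 hu hu).2 (iff_of_false (nA hu) h)
    rw [← C.eq] at h1
    exact nT hu h1
  have st' : ∀ {v : U}, orderOf v = 2 → E.ι (τ v) ^ 2 = 1 := fun hv => map_sq _ (map_sq _ (sq_of hv))
  have sa : ∀ {v : U}, orderOf v = 2 → E.ι (α v) ^ 2 = 1 := fun hv => map_sq _ (map_sq _ (sq_of hv))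
  have sb : ∀ {v : U}, orderOf v = 2 → E.ι (β v) ^ 2 = 1 := fun hv => map_sq _ (map_sq _ (sq_of hv))
  have nt' : ∀ {v : U}, v ≠ 1 → E.ι (τ v) ≠ 1 := fun hv => map_ne E.inj (map_ne C.pair.inj hv)
  have cab : ∀ u v : U, E.ι (α u) * E.ι (β v) = E.ι (β v) * E.ι (α u) := fun u v => map_comm _ (C.ab u v)
  have vT : ∀ u : U, orderOf u = 2 → dd p (E.ι (τ u)) = 63 ∨ dd p (E.ι (τ u)) = 79 := fun u hu => by
    have h4 := dd_inv l7 h2 (st' hu) (nt' (ne_of hu))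
    have h5 := nT hu
    omega
  obtain ⟨u, hu, hf⟩ := grp.par U ψ hψ (grp.two U C.simple C.noncomm) (fun u => dd p (E.ι (τ u))) 63 79 vT
  rw [← ea] at hf
  -- `α U` acts faithfully on the root `SL₂` of `β u`
  obtain ⟨g, φ, hφ⟩ := exists_chiY' h2 (sb hu)
  have h62 : nk tE7 φ = 62 := by
    have h4 := dd_conj_chi h2 hφ
    have h5 := hB hu
    omega
  obtain ⟨c, hc, -⟩ := l7.l3 φ h62
  obtain ⟨hcl, hp5, x₁, x₂, t, T, hy⟩ := grp.pgl p h2 U C.simple C.noncomm _ (sl p hc.1.1)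
    ((MulAut.conj g).toMonoidHom.comp (E.ι.comp α)) (sl_ck hc.1.1)
    (fun w => inn_rho h2 hφ h62 hc (DS.Nt.conj_comm (cab w u))) ⟨u, fun h => by
      have h4 := (oy_out l7 h2 (sb hu) (sa hu) (map_ne E.inj (map_ne C.pair'.inj (ne_of hu))) (hB hu) (nA hu)
        (cab u u).symm).1 ((oy_iff_cz l7 h2 hφ h62 hc (sa hu) (cab u u).symm).2 h)
      rw [← map_mul, ← C.eq] at h4
      exact h4 hf.symm⟩
  have cj : ∀ (f : U →* L) {a b : U}, IsConj a b → dd p (E.ι (f a)) = dd p (E.ι (f b)) := by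
    intro f a b h
    obtain ⟨z, rfl⟩ := isConj_iff.1 h
    rw [map_conj' f, dd_conjL]
  have f1 : ∀ {w : U}, orderOf w = 2 → dd p (E.ι (τ w)) = dd p (E.ι (τ x₁)) := fun hw => cj τ (hcl _ _ hw T.o1)
  have f2 : ∀ {w : U}, orderOf w = 2 → dd p (E.ι (α w)) = dd p (E.ι (τ x₁)) := fun {w} hw => by
    rw [ea]
    exact f1 ((oψ w).trans hw)
  by_cases hp3 : p = 3
  · rcases vT x₁ T.o1 with h4 | h4
    · have k3 : (3 : kb p) = 0 := by
        have h5 : ((3 : ℕ) : kb p) = 0 := (CharP.cast_eq_zero_iff (kb p) p 3).2 ⟨1, by omega⟩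
        exact_mod_cast h5
      have T' := T.map hψ
      have j1 := (lin.jor (kb p) _ U (rho E C) k3 finrank7 _ _ _ T (by rw [ev_a, f2 T.o1, h4]) (by rw [ev_t, h4])
        (by rw [ev_b, hB T.o1])).2
      have j2 := (lin.jor (kb p) _ U (rho E C) k3 finrank7 _ _ _ T' (by rw [ev_a, f2 T'.o1, h4])
        (by rw [ev_t, f1 T'.o1, h4]) (by rw [ev_b, hB T'.o1])).1
      rw [rho_apply, map_one, mul_one] at j1
      rw [rho_apply, ← C.eq, ← e2, hθ'] at j2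
      omega
    · have o2 : orderOf x₂ = 2 := by rw [← T.c1, ord_conj, T.o1]
      have o3 := ord_mul T.o1 o2 T.ne T.comm
      have h5 := (dd_mul l7 h2 (st p d hd L E U τ α β R R' C h2 (h3 hp3) x₁ x₂ T.o1 o2 T.comm h4) (st' T.o1) (st' o2)
        (nt' (ne_of T.o1)) (nt' (ne_of o2)) (by rw [← map_mul, ← map_mul]; exact nt' (ne_of o3))).2
        (iff_of_false (nT T.o1) (nT o2))
      rw [← map_mul, ← map_mul] at h5
      exact nT o3 h5
  · obtain ⟨⟨y, oy, hyt⟩, hc3⟩ := hy hp3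
    have t3 : t ^ 3 = 1 := by rw [← T.o3, pow_orderOf_eq_one]
    have t1 : t ≠ 1 := fun e => by
      have h4 := T.o3
      rw [e, orderOf_one] at h4
      omega
    have c3 : ∀ f : U →* L, E.ι (f t) ^ 3 = 1 := fun f => by rw [← map_pow, ← map_pow, t3, map_one, map_one]
    have h4 := lin.num (kb p) _ U (rho E C) (two_ne h2) (DS.Nt.cast_ne_zero (r := 3) Nat.prime_three (Ne.symm hp3))
      finrank7 x₁ x₂ t y T oy hyt (hcl _ _ oy T.o1) _ _ _ (by rw [ev_a, f2 T.o1]) (ev_t E C x₁)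
      (by rw [ev_b, hB T.o1]) (by rw [ev_a, ea, cj τ (hc3 _ ((oψ t).trans T.o3))]) (ev_t E C t) (ev_b E C t)
      (vT x₁ T.o1) (dd_three l7 hp3 (c3 τ) (nt' t1)) (dd_three l7 hp3 (c3 β) (map_ne E.inj (map_ne C.binj t1)))
      (fun k1 k2 => by
        rw [ev_rho, map_mul]
        exact dd_six l7 h2 hp3 (sa T.o1) (c3 β) (cab _ _) (by rw [f2 T.o1, k1]) k2)
    have p5 : 5 ≤ p := (Fact.out : p.Prime).five_le_of_ne_two_of_ne_three h2 hp3
    have ob : ∀ w : U, orderOf (E.ι (β w)) = orderOf w := fun w => by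
      rw [orderOf_injective _ E.inj, orderOf_injective _ C.binj]
    have h5 : ∃ (w v : U) (m : chevE7.Idx → kb p), (∀ c, c * E.ι (β w) = E.ι (β w) * c → ad chevE7 p c m = m) ∧
        ad chevE7 p (E.ι (β v)) m ≠ m := by
      rcases hnt hp3 with h | ⟨h, w, v, hw, hv⟩
      · obtain ⟨w, v, k, hw, hv, hk⟩ := hp5 p5 h
        exact ⟨w, v, nt.np p p5 _ _ k ((ob w).trans hw) (by rw [← map_conj', ← map_conj', hv, map_pow, map_pow]) hk⟩
      · have p7 : 7 ≤ p := by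
          rcases (show p = 6 ∨ 7 ≤ p by omega) with h6 | h6
          · exact absurd (h6 ▸ (Fact.out : p.Prime)) (by decide)
          · exact h6
        exact ⟨w, v, nt.n5 p p7 _ _ ((ob w).trans hw) (by rw [← map_conj', ← map_conj', hv, map_inv, map_inv])⟩
    obtain ⟨w, v, m, hm, hm'⟩ := h5
    have h6 := lin.three (kb p) _ U (rho E C) (two_ne h2) C.simple x₁ x₂ t T ⟨m, by
      rw [fx_alpha]
      rintro _ ⟨_, ⟨z, rfl⟩, rfl⟩
      exact hm _ (cab z w), v, by rw [rho_apply, map_one, one_mul]; exact hm'⟩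
    have h7 : Set.range α = θ '' Set.range τ := by
      ext x
      constructor
      · rintro ⟨z, rfl⟩
        exact ⟨_, ⟨_, rfl⟩, hθ' z⟩
      · rintro ⟨_, ⟨z, rfl⟩, rfl⟩
        obtain ⟨z, rfl⟩ := Finite.surjective_of_injective hψ z
        exact ⟨z, (hθ' z).symm⟩
    rw [fx_alpha, h7, e3] at h6
    rw [fx_tau] at h4
    exact absurd (h6.trans h4) (by norm_num)

end Cfsg.Agent.Cam.Odd
end

-- part: Cam/Odd/LinA
section
/-!
# Dimension relations for small groups of operators (lead)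

All relations are stated on an invariant subspace `N`.
-/

set_option autoImplicit false
set_option linter.unusedSectionVars false

namespace Cfsg.Agent.Cam.Odd.Lin

open Module

variable {K V : Type} [Field K] [AddCommGroup V] [Module K V] [FiniteDimensional K V]

/-- eigenspaces -/
abbrev E (g : Module.End K V) (c : K) : Submodule K V := Module.End.eigenspace g c

theorem mem_E {g : Module.End K V} {c : K} {v : V} : v ∈ E g c ↔ g v = c • v := Module.End.mem_eigenspace_iff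

theorem mem_E1 {g : Module.End K V} {v : V} : v ∈ E g 1 ↔ g v = v := by rw [mem_E, one_smul]

theorem mem_Em {g : Module.End K V} {v : V} : v ∈ E g (-1) ↔ g v = -v := by rw [mem_E, neg_one_smul]

/-- invariant subspaces -/
def Inv (g : Module.End K V) (N : Submodule K V) : Prop := ∀ v ∈ N, g v ∈ N

theorem Inv.top (g : Module.End K V) : Inv g ⊤ := fun _ _ => Submodule.mem_top

theorem Inv.inf {g : Module.End K V} {N N' : Submodule K V} (h : Inv g N) (h' : Inv g N') : Inv g (N ⊓ N') :=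
  fun v hv => ⟨h v hv.1, h' v hv.2⟩

theorem inv_E {g h : Module.End K V} (hc : ∀ v, h (g v) = g (h v)) (c : K) : Inv g (E h c) := fun v hv => by
  rw [mem_E] at hv ⊢
  rw [hc, hv, map_smul]

theorem ker_map (N : Submodule K V) (f : Module.End K V) :
    finrank K N = finrank K ↥(N ⊓ LinearMap.ker f) + finrank K (N.map f) := by
  have h1 := LinearMap.finrank_range_add_finrank_ker (f.domRestrict N)
  rw [LinearMap.range_domRestrict, LinearMap.ker_domRestrict, ← Submodule.finrank_map_subtype_eq,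
    Submodule.map_comap_subtype] at h1
  omega

/-- the rank-nullity formula with named kernel and image -/
theorem split {N A B : Submodule K V} (f : Module.End K V) (hA : ∀ v, v ∈ A ↔ v ∈ N ∧ f v = 0)
    (h1 : ∀ v ∈ N, f v ∈ B) (h2 : ∀ u ∈ B, ∃ v ∈ N, f v = u) : finrank K N = finrank K A + finrank K B := by
  have eA : N ⊓ LinearMap.ker f = A := by
    ext v
    rw [hA, Submodule.mem_inf, LinearMap.mem_ker]
  have eB : N.map f = B := by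
    ext u
    rw [Submodule.mem_map]
    exact ⟨fun ⟨v, hv, e⟩ => e ▸ h1 v hv, h2 u⟩
  rw [ker_map N f, eA, eB]

theorem le_of_inj {A B : Submodule K V} (f : Module.End K V) (h1 : ∀ v ∈ A, f v ∈ B) (h2 : ∀ v ∈ A, f v = 0 → v = 0) :
    finrank K A ≤ finrank K B := by
  have h3 : A ⊓ LinearMap.ker f = ⊥ := by
    rw [eq_bot_iff]
    intro v hv
    exact (Submodule.mem_bot K).2 (h2 v hv.1 hv.2)
  have h4 : A.map f ≤ B := by
    rintro _ ⟨v, hv, rfl⟩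
    exact h1 v hv
  have h5 := Submodule.finrank_mono h4
  rw [ker_map A f, h3, finrank_bot]
  omega

theorem zero_of_smul {c : K} (hc : c ≠ 0) {v : V} (h : c • v = 0) : v = 0 := (smul_eq_zero.1 h).resolve_left hc

/-- an involution -/
theorem pm (h2 : (2 : K) ≠ 0) {y : Module.End K V} (hy : ∀ v, y (y v) = v) {N : Submodule K V} (hN : Inv y N) :
    finrank K N = finrank K ↥(N ⊓ E y 1) + finrank K ↥(N ⊓ E y (-1)) := by
  refine split (y - 1) (fun v => ?_) (fun v hv => ?_) (fun u hu => ?_)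
  · rw [Submodule.mem_inf, mem_E1, LinearMap.sub_apply, Module.End.one_apply, sub_eq_zero]
  · rw [Submodule.mem_inf, mem_Em, LinearMap.sub_apply, Module.End.one_apply, map_sub, hy, neg_sub]
    exact ⟨sub_mem (hN v hv) hv, rfl⟩
  · rw [Submodule.mem_inf, mem_Em] at hu
    refine ⟨(-(2 : K)⁻¹) • u, N.smul_mem _ hu.1, ?_⟩
    rw [LinearMap.sub_apply, Module.End.one_apply, map_smul, hu.2]
    have h3 : (2 : K)⁻¹ * 2 = 1 := inv_mul_cancel₀ h2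
    linear_combination (norm := module) h3 • (u)

theorem pm_sup (h2 : (2 : K) ≠ 0) {y : Module.End K V} (hy : ∀ v, y (y v) = v) {N : Submodule K V} (hN : Inv y N) :
    N ≤ (N ⊓ E y 1) ⊔ (N ⊓ E y (-1)) := by
  intro v hv
  have h3 : (2 : K)⁻¹ * 2 = 1 := inv_mul_cancel₀ h2
  have e : v = (2 : K)⁻¹ • (v + y v) + (2 : K)⁻¹ • (v - y v) := by
    linear_combination (norm := module) (-h3) • v
  rw [e]
  refine Submodule.add_mem_sup (Submodule.smul_mem _ _ ⟨add_mem hv (hN v hv), ?_⟩)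
    (Submodule.smul_mem _ _ ⟨sub_mem hv (hN v hv), ?_⟩)
  · rw [SetLike.mem_coe, mem_E1, map_add, hy, add_comm]
  · rw [SetLike.mem_coe, mem_Em, map_sub, hy, neg_sub]

/-- an element of order three -/
theorem r3 (h3 : (3 : K) ≠ 0) {ω : K} (hω : ω * ω + ω + 1 = 0) {s : Module.End K V} (hs : ∀ v, s (s (s v)) = v)
    {N : Submodule K V} (hN : Inv s N) :
    finrank K N = finrank K ↥(N ⊓ E s 1) + finrank K ↥(N ⊓ E s ω) + finrank K ↥(N ⊓ E s (ω * ω)) := by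
  have i3 : (3 : K)⁻¹ * 3 = 1 := inv_mul_cancel₀ h3
  have m : ∀ v, v ∈ N ⊓ LinearMap.ker (s * s + s + 1) ↔ v ∈ N ∧ s (s v) + s v + v = 0 := fun v => by
    simp only [Submodule.mem_inf, LinearMap.mem_ker, LinearMap.add_apply, Module.End.mul_apply, Module.End.one_apply]
  have h1 : finrank K N = finrank K ↥(N ⊓ E s 1) + finrank K ↥(N ⊓ LinearMap.ker (s * s + s + 1)) := by
    refine split (s - 1) (fun v => ?_) (fun v hv => ?_) (fun u hu => ?_)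
    · rw [Submodule.mem_inf, mem_E1, LinearMap.sub_apply, Module.End.one_apply, sub_eq_zero]
    · rw [m, LinearMap.sub_apply, Module.End.one_apply, map_sub, map_sub, hs]
      exact ⟨sub_mem (hN v hv) hv, by abel⟩
    · rw [m] at hu
      refine ⟨(-(3 : K)⁻¹) • (s u + (2 : K) • u), N.smul_mem _ (add_mem (hN u hu.1) (N.smul_mem _ hu.1)), ?_⟩
      rw [LinearMap.sub_apply, Module.End.one_apply, map_smul, map_add, map_smul]
      linear_combination (norm := module) (-(3 : K)⁻¹) • hu.2 + i3 • (u)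
  have h4 : finrank K ↥(N ⊓ LinearMap.ker (s * s + s + 1)) =
      finrank K ↥(N ⊓ E s ω) + finrank K ↥(N ⊓ E s (ω * ω)) := by
    refine split (s - ω • 1) (fun v => ?_) (fun v hv => ?_) (fun u hu => ?_)
    · rw [m, Submodule.mem_inf, mem_E, LinearMap.sub_apply, LinearMap.smul_apply, Module.End.one_apply, sub_eq_zero]
      refine ⟨fun h => ⟨⟨h.1, ?_⟩, h.2⟩, fun h => ⟨h.1.1, h.2⟩⟩
      rw [h.2, map_smul, h.2]
      linear_combination (norm := module) hω • (v)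
    · rw [m] at hv
      rw [Submodule.mem_inf, mem_E, LinearMap.sub_apply, LinearMap.smul_apply, Module.End.one_apply, map_sub, map_smul]
      refine ⟨sub_mem (hN v hv.1) (N.smul_mem _ hv.1), ?_⟩
      linear_combination (norm := module) hv.2 - hω • (s v) + ((ω - 1) * hω) • (v)
    · rw [Submodule.mem_inf, mem_E] at hu
      refine ⟨((3 : K)⁻¹ * (ω - ω * ω)) • u, Submodule.smul_mem _ _ ((m u).2 ⟨hu.1, ?_⟩), ?_⟩
      · rw [hu.2, map_smul, hu.2]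
        linear_combination (norm := module) ((ω * ω - ω + 1) * hω) • (u)
      · rw [LinearMap.sub_apply, LinearMap.smul_apply, Module.End.one_apply, map_smul, hu.2]
        linear_combination (norm := module) (i3 - (3 : K)⁻¹ * (ω * ω - 3 * ω + 3) * hω) • (u)
  omega

section four

variable (h2 : (2 : K) ≠ 0) {a b : Module.End K V} (ha : ∀ v, a (a v) = v) (hb : ∀ v, b (b v) = v)
  (hab : ∀ v, a (b v) = b (a v)) {N : Submodule K V} (hNa : Inv a N) (hNb : Inv b N)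
include h2 ha hb hab hNa hNb

theorem w1 (c : K) : finrank K ↥(N ⊓ E a c) = finrank K ↥(N ⊓ E a c ⊓ E b 1) + finrank K ↥(N ⊓ E a c ⊓ E b (-1)) :=
  pm h2 hb (hNb.inf (inv_E hab c))

theorem w2 : finrank K ↥(N ⊓ E b 1) = finrank K ↥(N ⊓ E a 1 ⊓ E b 1) + finrank K ↥(N ⊓ E a (-1) ⊓ E b 1) := by
  rw [pm h2 ha (hNa.inf (inv_E (fun v => (hab v).symm) 1)), inf_right_comm N (E b 1), inf_right_comm N (E b 1)]

theorem w3 : finrank K ↥(N ⊓ E (a * b) 1) =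
    finrank K ↥(N ⊓ E a 1 ⊓ E b 1) + finrank K ↥(N ⊓ E a (-1) ⊓ E b (-1)) := by
  have e : ∀ c : K, c * c = 1 → N ⊓ E (a * b) 1 ⊓ E a c = N ⊓ E a c ⊓ E b c := fun c hc => by
    ext v
    simp only [Submodule.mem_inf, mem_E, one_smul, Module.End.mul_apply]
    constructor
    · rintro ⟨⟨h1, h3⟩, h4⟩
      refine ⟨⟨h1, h4⟩, ?_⟩
      rw [← h4, ← ha (b v), h3]
    · rintro ⟨⟨h1, h3⟩, h4⟩
      refine ⟨⟨h1, ?_⟩, h3⟩
      rw [h4, map_smul, h3, smul_smul, hc, one_smul]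
  rw [pm h2 ha (hNa.inf (inv_E (fun v => by simp only [Module.End.mul_apply, hab]) 1)), e 1 (by ring), e (-1) (by ring)]

/-- a four-group -/
theorem r4 : finrank K N + 2 * finrank K ↥(N ⊓ E a 1 ⊓ E b 1) =
    finrank K ↥(N ⊓ E a 1) + finrank K ↥(N ⊓ E b 1) + finrank K ↥(N ⊓ E (a * b) 1) := by
  have := pm h2 ha hNa
  have := w1 h2 ha hb hab hNa hNb 1
  have := w1 h2 ha hb hab hNa hNb (-1)
  have := w2 h2 ha hb hab hNa hNb
  have := w3 h2 ha hb hab hNa hNb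
  omega

end four

/-- an elementary abelian group of order nine -/
theorem r9 (h3 : (3 : K) ≠ 0) {ω : K} (hω : ω * ω + ω + 1 = 0) {s t : Module.End K V} (hs : ∀ v, s (s (s v)) = v)
    (ht : ∀ v, t (t (t v)) = v) (hst : ∀ v, s (t v) = t (s v)) {N : Submodule K V} (hNs : Inv s N) (hNt : Inv t N) :
    finrank K N + 3 * finrank K ↥(N ⊓ E s 1 ⊓ E t 1) =
      finrank K ↥(N ⊓ E s 1) + finrank K ↥(N ⊓ E t 1) + finrank K ↥(N ⊓ E (s * t) 1) +
        finrank K ↥(N ⊓ E (s * (t * t)) 1) := by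
  have e1 : ∀ c c' : K, c * c' = 1 → N ⊓ E (s * t) 1 ⊓ E s c = N ⊓ E s c ⊓ E t c' := fun c c' hc => by
    ext v
    simp only [Submodule.mem_inf, mem_E, one_smul, Module.End.mul_apply]
    constructor
    · rintro ⟨⟨h1, h4⟩, h5⟩
      refine ⟨⟨h1, h5⟩, ?_⟩
      rw [hst, h5, map_smul] at h4
      linear_combination (norm := module) c' • h4 - hc • (t v)
    · rintro ⟨⟨h1, h4⟩, h5⟩
      refine ⟨⟨h1, ?_⟩, h4⟩
      rw [h5, map_smul, h4, smul_smul, mul_comm, hc, one_smul]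
  have e2 : ∀ c : K, c * c * c = 1 → N ⊓ E (s * (t * t)) 1 ⊓ E s c = N ⊓ E s c ⊓ E t c := fun c hc => by
    ext v
    simp only [Submodule.mem_inf, mem_E, one_smul, Module.End.mul_apply]
    constructor
    · rintro ⟨⟨h1, h4⟩, h5⟩
      refine ⟨⟨h1, h5⟩, ?_⟩
      rw [← h5, ← ht (s v), ← hst, ← hst, h4]
    · rintro ⟨⟨h1, h4⟩, h5⟩
      refine ⟨⟨h1, ?_⟩, h4⟩
      rw [h5, map_smul, h5, map_smul, map_smul, h4, smul_smul, smul_smul, hc, one_smul]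
  have c1 : ω * (ω * ω) = 1 := by linear_combination (ω - 1) * hω
  have c2 : ω * ω * ω = 1 := by linear_combination (ω - 1) * hω
  have c3 : ω * ω * (ω * ω) * (ω * ω) = 1 := by linear_combination (ω * ω * ω + 1) * c2
  have k0 := r3 h3 hω hs hNs
  have k1 := fun c => r3 h3 hω ht (hNt.inf (inv_E hst c))
  have k2 := r3 h3 hω hs (hNs.inf (inv_E (fun v => (hst v).symm) 1))
  have k3 := r3 h3 hω hs (hNs.inf (inv_E (h := s * t) (fun v => by simp only [Module.End.mul_apply, hst]) 1))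
  have k4 := r3 h3 hω hs (hNs.inf (inv_E (h := s * (t * t)) (fun v => by simp only [Module.End.mul_apply, hst]) 1))
  rw [inf_right_comm N (E t 1), inf_right_comm N (E t 1), inf_right_comm N (E t 1)] at k2
  rw [e1 1 1 (by ring), e1 _ _ c1, e1 _ _ c2] at k3
  rw [e2 1 (by ring), e2 _ c2, e2 _ c3] at k4
  have := k1 1
  have := k1 ω
  have := k1 (ω * ω)
  omega

/-- the symmetric group of degree three -/
theorem rS (h3 : (3 : K) ≠ 0) {ω : K} (hω : ω * ω + ω + 1 = 0) {s y : Module.End K V} (hs : ∀ v, s (s (s v)) = v)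
    (hy : ∀ v, y (y v) = v) (hys : ∀ v, y (s v) = s (s (y v))) {N : Submodule K V} (hNs : Inv s N) (hNy : Inv y N) :
    finrank K N + 2 * finrank K ↥(N ⊓ E s 1 ⊓ E y 1) = finrank K ↥(N ⊓ E s 1) + 2 * finrank K ↥(N ⊓ E y 1) := by
  have i3 : (3 : K)⁻¹ * 3 = 1 := inv_mul_cancel₀ h3
  have c2 : ω * ω * ω = 1 := by linear_combination (ω - 1) * hω
  have hsy : ∀ v, s (y v) = y (s (s v)) := fun v => by rw [hys, hys, hs]
  have sw : ∀ c c' : K, c' = c * c → ∀ v, s v = c • v → s (y v) = c' • y v := fun c c' hc v hv => by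
    rw [hsy, hv, map_smul, hv, smul_smul, map_smul, hc]
  have yinj : ∀ v, y v = 0 → v = 0 := fun v hv => by rw [← hy v, hv, map_zero]
  have k0 := r3 h3 hω hs hNs
  have k1 : finrank K ↥(N ⊓ E s ω) ≤ finrank K ↥(N ⊓ E s (ω * ω)) :=
    le_of_inj y (fun v hv => ⟨hNy v hv.1, mem_E.2 (sw _ _ rfl v (mem_E.1 hv.2))⟩) fun v _ => yinj v
  have k2 : finrank K ↥(N ⊓ E s (ω * ω)) ≤ finrank K ↥(N ⊓ E s ω) :=
    le_of_inj y (fun v hv => ⟨hNy v hv.1, mem_E.2 (sw _ _ (by linear_combination (-ω) * c2) v (mem_E.1 hv.2))⟩)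
      fun v _ => yinj v
  have ap : ∀ v, (1 + (ω * ω) • s + ω • (s * s) : Module.End K V) v = v + (ω * ω) • s v + ω • s (s v) := fun v => by
    simp only [LinearMap.add_apply, LinearMap.smul_apply, Module.End.mul_apply, Module.End.one_apply]
  have k3 : finrank K ↥(N ⊓ E y 1) = finrank K ↥(N ⊓ E s 1 ⊓ E y 1) + finrank K ↥(N ⊓ E s ω) := by
    refine split (1 + (ω * ω) • s + ω • (s * s)) (fun v => ?_) (fun v hv => ?_) (fun u hu => ?_)
    · simp only [Submodule.mem_inf, mem_E1, ap]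
      constructor
      · rintro ⟨⟨h1, h4⟩, h5⟩
        refine ⟨⟨h1, h5⟩, ?_⟩
        rw [h4, h4]
        linear_combination (norm := module) hω • (v)
      · rintro ⟨⟨h1, h4⟩, h5⟩
        refine ⟨⟨h1, ?_⟩, h4⟩
        have h6 := congrArg y h5
        rw [map_add, map_add, map_smul, map_smul, map_zero, ← hsy, hys, h4] at h6
        have h7 : s (s v) + s v = (2 : K) • v := by
          linear_combination (norm := module) (-1 : K) • h5 - h6 + hω • (s (s v) + s v)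
        have h8 := congrArg s h7
        rw [map_add, hs, map_smul] at h8
        refine sub_eq_zero.1 (zero_of_smul h3 ?_)
        linear_combination (norm := module) h7 - h8
    · rw [Submodule.mem_inf, mem_E, ap]
      refine ⟨add_mem (add_mem hv.1 (N.smul_mem _ (hNs v hv.1))) (N.smul_mem _ (hNs _ (hNs v hv.1))), ?_⟩
      rw [map_add, map_add, map_smul, map_smul, hs]
      linear_combination (norm := module) (-c2) • (s v)
    · rw [Submodule.mem_inf, mem_E] at hu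
      refine ⟨(3 : K)⁻¹ • (u + y u), Submodule.smul_mem _ _ ⟨add_mem hu.1 (hNy u hu.1), ?_⟩, ?_⟩
      · rw [SetLike.mem_coe, mem_E1, map_add, hy, add_comm]
      · have h5 := sw _ _ rfl u hu.2
        rw [map_smul, map_add, ap, ap, h5, map_smul, h5, hu.2, map_smul, hu.2]
        linear_combination (norm := module) (i3 + (3 : K)⁻¹ * 2 * c2) • (u) +
          ((3 : K)⁻¹ * (ω * ω * ω - ω + 1) * hω) • (y u)
  omega

/-- nilpotent operators -/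
theorem nil3 {n : Module.End K V} (hn : ∀ v, n (n (n v)) = 0) {N : Submodule K V} (hN : Inv n N) :
    3 * finrank K (N.map (n * n)) ≤ finrank K N := by
  have l1 : N.map n ≤ N := by
    rintro _ ⟨v, hv, rfl⟩
    exact hN v hv
  have l2 : (N.map n).map n ≤ N.map n := Submodule.map_mono l1
  have l3 : ((N.map n).map n).map n = ⊥ := by
    rw [eq_bot_iff]
    rintro _ ⟨_, ⟨_, ⟨v, _, rfl⟩, rfl⟩, rfl⟩
    exact (Submodule.mem_bot K).2 (hn v)
  have e : N.map (n * n) = (N.map n).map n := Submodule.map_comp n n N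
  have k1 := ker_map N n
  have k2 := ker_map (N.map n) n
  have k3 := ker_map ((N.map n).map n) n
  have k4 := Submodule.finrank_mono (inf_le_inf_right (LinearMap.ker n) l1)
  have k5 := Submodule.finrank_mono (inf_le_inf_right (LinearMap.ker n) l2)
  rw [l3, finrank_bot] at k3
  rw [e]
  omega

theorem map_le_add {N A B : Submodule K V} (f : Module.End K V) (h : N ≤ A ⊔ B) :
    finrank K (N.map f) ≤ finrank K (A.map f) + finrank K (B.map f) := by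
  have h1 := Submodule.finrank_mono (Submodule.map_mono (f := f) h)
  rw [Submodule.map_sup] at h1
  exact h1.trans (Submodule.finrank_add_le_finrank_add_finrank _ _)

/-! ### the alternating group of degree four -/

/-- the relations of `A₄` -/
structure TO (a b s : Module.End K V) : Prop where
  aa : ∀ v, a (a v) = v
  bb : ∀ v, b (b v) = v
  ab : ∀ v, a (b v) = b (a v)
  sa : ∀ v, s (a v) = b (s v)
  sb : ∀ v, s (b v) = a (b (s v))
  sss : ∀ v, s (s (s v)) = v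

namespace TO

variable {a b s : Module.End K V} (h : TO a b s)
include h

theorem wt {c d : K} {v : V} (h1 : a v = c • v) (h2 : b v = d • v) : a (s v) = (c * d) • s v ∧ b (s v) = c • s v := by
  have h3 : b (s v) = c • s v := by rw [← h.sa, h1, map_smul]
  refine ⟨?_, h3⟩
  have h4 := congrArg b (h.sb v)
  rw [h.ab, h.bb, h2, map_smul, map_smul, h3, smul_smul] at h4
  rw [← h4, mul_comm]

theorem s_inj {v : V} (hv : s v = 0) : v = 0 := by rw [← h.sss v, hv, map_zero, map_zero]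

variable {N : Submodule K V} (hs : Inv s N)
include hs

theorem le_wt (c d : K) : finrank K ↥(N ⊓ E a c ⊓ E b d) ≤ finrank K ↥(N ⊓ E a (c * d) ⊓ E b c) :=
  le_of_inj s (fun v hv => ⟨⟨hs v hv.1.1, mem_E.2 (h.wt (mem_E.1 hv.1.2) (mem_E.1 hv.2)).1⟩,
    mem_E.2 (h.wt (mem_E.1 hv.1.2) (mem_E.1 hv.2)).2⟩) fun _ _ => h.s_inj

variable (h2 : (2 : K) ≠ 0) (ha : Inv a N) (hb : Inv b N)
include h2 ha hb

theorem dims : finrank K N = finrank K ↥(N ⊓ E a 1 ⊓ E b 1) + 3 * finrank K ↥(N ⊓ E a 1 ⊓ E b (-1)) ∧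
    finrank K ↥(N ⊓ E a 1) = finrank K ↥(N ⊓ E a 1 ⊓ E b 1) + finrank K ↥(N ⊓ E a 1 ⊓ E b (-1)) ∧
    finrank K ↥(N ⊓ E a (-1) ⊓ E b 1) = finrank K ↥(N ⊓ E a 1 ⊓ E b (-1)) ∧
    finrank K ↥(N ⊓ E a (-1) ⊓ E b (-1)) = finrank K ↥(N ⊓ E a 1 ⊓ E b (-1)) := by
  have k1 := h.le_wt hs 1 (-1)
  have k2 := h.le_wt hs (-1) 1
  have k3 := h.le_wt hs (-1) (-1)
  rw [one_mul] at k1
  rw [mul_one] at k2
  rw [neg_mul_neg, one_mul] at k3
  have := pm h2 h.aa ha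
  have := w1 h2 h.aa h.bb h.ab ha hb 1
  have := w1 h2 h.aa h.bb h.ab ha hb (-1)
  omega

theorem fix : finrank K ↥(N ⊓ E s 1) =
    finrank K ↥(N ⊓ E a 1 ⊓ E b 1 ⊓ E s 1) + finrank K ↥(N ⊓ E a 1 ⊓ E b (-1)) := by
  have h4 : (4 : K) ≠ 0 := by
    rw [show (4 : K) = 2 * 2 by norm_num]
    exact mul_ne_zero h2 h2
  have i4 : (4 : K)⁻¹ * 4 = 1 := inv_mul_cancel₀ h4
  have ap : ∀ v, (1 + a - b - a * b : Module.End K V) v = v + a v - b v - a (b v) := fun v => by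
    simp only [LinearMap.add_apply, LinearMap.sub_apply, Module.End.mul_apply, Module.End.one_apply]
  refine split (1 + a - b - a * b) (fun v => ?_) (fun v hv => ?_) (fun u hu => ?_)
  · simp only [Submodule.mem_inf, mem_E1, ap]
    constructor
    · rintro ⟨⟨⟨h1, h3⟩, h5⟩, h6⟩
      refine ⟨⟨h1, h6⟩, ?_⟩
      rw [h5, h3]
      abel
    · rintro ⟨⟨h1, h3⟩, h5⟩
      have h6 := congrArg s h5
      rw [map_sub, map_sub, map_add, h.sa, h.sa, h.sb, h3, map_zero, ← h.ab, h.bb] at h6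
      have h7 := congrArg s h6
      rw [map_sub, map_sub, map_add, h.sa, h.sa, h.sb, h3, map_zero, ← h.ab, h.bb] at h7
      refine ⟨⟨⟨h1, sub_eq_zero.1 (zero_of_smul h2 ?_)⟩, sub_eq_zero.1 (zero_of_smul h2 ?_)⟩, h3⟩
      · linear_combination (norm := module) (-1 : K) • h6 - h7
      · linear_combination (norm := module) (-1 : K) • h5 - h7
  · rw [ap]
    refine ⟨⟨sub_mem (sub_mem (add_mem hv.1 (ha v hv.1)) (hb v hv.1)) (ha _ (hb v hv.1)), ?_⟩, ?_⟩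
    · rw [SetLike.mem_coe, mem_E1, map_sub, map_sub, map_add, h.aa, h.aa]
      abel
    · rw [SetLike.mem_coe, mem_Em, map_sub, map_sub, map_add, h.bb, ← h.ab, ← h.ab, h.bb]
      abel
  · obtain ⟨⟨h1, h3⟩, h5⟩ := hu
    have u1 := mem_E.1 h3
    have u2 := mem_E.1 h5
    obtain ⟨v1, v2⟩ := h.wt u1 u2
    obtain ⟨t1, t2⟩ := h.wt v1 v2
    refine ⟨(4 : K)⁻¹ • (u + s u + s (s u)),
      Submodule.smul_mem _ _ ⟨add_mem (add_mem h1 (hs u h1)) (hs _ (hs u h1)), ?_⟩, ?_⟩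
    · rw [SetLike.mem_coe, mem_E1, map_add, map_add, h.sss]
      abel
    · rw [map_smul, map_add, map_add, ap, ap, ap, u2, v2, t2, map_smul, map_smul, map_smul, u1, v1, t1]
      linear_combination (norm := module) i4 • (u)

end TO

end Cfsg.Agent.Cam.Odd.Lin
end

-- part: Cam/Odd/Lin
section
/-!
# `BoxLin` (lead)
-/

set_option autoImplicit false
set_option linter.unusedSectionVars false

namespace Cfsg.Agent.Cam.Odd.Lin

open Module
open Cfsg.Agent.DS.NT (ev)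

variable {K V U : Type} [Field K] [AddCommGroup V] [Module K V] [FiniteDimensional K V] [Group U]

theorem ap_mul (l : U →* Module.End K V) (g h : U) (v : V) : l g (l h v) = l (g * h) v := by
  rw [map_mul, Module.End.mul_apply]

theorem ap_one (l : U →* Module.End K V) (v : V) : l 1 v = v := by rw [map_one, Module.End.one_apply]

theorem sq_of_order {x : U} (h : orderOf x = 2) : x * x = 1 := by rw [← pow_two, ← h, pow_orderOf_eq_one]

theorem cube_of_order {x : U} (h : orderOf x = 3) : x * (x * x) = 1 := by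
  rw [← pow_three, ← h, pow_orderOf_eq_one]

theorem inv_of_order {l : U →* Module.End K V} {x : U} (h : orderOf x = 2) (v : V) : l x (l x v) = v := by
  rw [ap_mul, sq_of_order h, ap_one]

theorem tet_o2 {x₁ x₂ t : U} (h : Tet x₁ x₂ t) : orderOf x₂ = 2 := by
  rw [← h.c1, ← MulAut.conj_apply, MulEquiv.orderOf_eq, h.o1]

theorem tet_to (l : U →* Module.End K V) {x₁ x₂ t : U} (h : Tet x₁ x₂ t) : TO (l x₁) (l x₂) (l t) where
  aa := inv_of_order h.o1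
  bb := inv_of_order (tet_o2 h)
  ab v := by rw [ap_mul, ap_mul, h.comm]
  sa v := by rw [ap_mul, ap_mul, ← h.c1, inv_mul_cancel_right]
  sb v := by rw [ap_mul, ap_mul, ap_mul, ← h.c2, inv_mul_cancel_right]
  sss v := by rw [ap_mul, ap_mul, mul_assoc, cube_of_order h.o3, ap_one]

theorem conj_le (l : U →* Module.End K V) {N : Submodule K V} (hN : ∀ g, Inv (l g) N) {x y : U} (h : IsConj x y) :
    finrank K ↥(N ⊓ E (l x) 1) ≤ finrank K ↥(N ⊓ E (l y) 1) := by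
  obtain ⟨g, rfl⟩ := isConj_iff.1 h
  refine le_of_inj (l g) (fun v hv => ⟨hN g v hv.1, mem_E1.2 ?_⟩) fun v _ hv => ?_
  · rw [ap_mul, inv_mul_cancel_right, ← ap_mul, mem_E1.1 hv.2]
  · rw [← ap_one l v, ← inv_mul_cancel g, ← ap_mul, hv, map_zero]

theorem conj_eq (l : U →* Module.End K V) {N : Submodule K V} (hN : ∀ g, Inv (l g) N) {x y : U} (h : IsConj x y) :
    finrank K ↥(N ⊓ E (l x) 1) = finrank K ↥(N ⊓ E (l y) 1) :=
  le_antisymm (conj_le l hN h) (conj_le l hN h.symm)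

/-- the fixed spaces of `x`, `t`, `E`, `A₄`, `S₃` and the twisted `S₃` -/
def sp (l : U →* Module.End K V) (x₁ x₂ t y : U) : ℕ → Submodule K V
  | 0 => ⊤
  | 1 => E (l x₁) 1
  | 2 => E (l t) 1
  | 3 => E (l x₁) 1 ⊓ E (l x₂) 1
  | 4 => E (l x₁) 1 ⊓ E (l x₂) 1 ⊓ E (l t) 1
  | 5 => E (l t) 1 ⊓ E (l y) 1
  | _ => E (l t) 1 ⊓ E (l y) (-1)

theorem inv_sp {g : Module.End K V} {l : U →* Module.End K V} (hc : ∀ u v, l u (g v) = g (l u v)) (x₁ x₂ t y : U)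
    (i : ℕ) : Inv g (sp l x₁ x₂ t y i) := by
  unfold sp
  split
  · exact Inv.top g
  · exact inv_E (hc _) _
  · exact inv_E (hc _) _
  · exact (inv_E (hc _) _).inf (inv_E (hc _) _)
  · exact ((inv_E (hc _) _).inf (inv_E (hc _) _)).inf (inv_E (hc _) _)
  · exact (inv_E (hc _) _).inf (inv_E (hc _) _)
  · exact (inv_E (hc _) _).inf (inv_E (hc _) _)

/-- the dimension of a subspace -/
noncomputable def dm (N : Submodule K V) : ℕ := finrank K N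

theorem dm_def (N : Submodule K V) : finrank K N = dm N := rfl

theorem dm_top : dm (⊤ : Submodule K V) = finrank K V := finrank_top K V

theorem dm_bot : dm (⊥ : Submodule K V) = 0 := finrank_bot K V

/-- the relations between the dimensions -/
def Rel (n : ℕ → ℕ) : Prop :=
  n 0 + 2 * n 3 = 3 * n 1 ∧ n 0 + 2 * n 4 = n 1 + 2 * n 2 ∧ n 0 + 2 * n 5 = n 2 + 2 * n 1 ∧
    2 * n 1 + 2 * n 6 = n 0 + n 2 ∧ n 4 ≤ n 3

theorem rel (h2 : (2 : K) ≠ 0) (h3 : (3 : K) ≠ 0) {ω : K} (hω : ω * ω + ω + 1 = 0) (l : U →* Module.End K V)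
    {x₁ x₂ t y : U} (h : Tet x₁ x₂ t) (hy : orderOf y = 2) (hyt : y * t * y⁻¹ = t⁻¹) (hc : IsConj y x₁)
    {N : Submodule K V} (hN : ∀ g, Inv (l g) N) : Rel fun i => dm (N ⊓ sp l x₁ x₂ t y i) := by
  have T := tet_to l h
  have ti : t⁻¹ = t * t := inv_eq_of_mul_eq_one_right (cube_of_order h.o3)
  have hys : ∀ v, l y (l t v) = l t (l t (l y v)) := fun v => by
    rw [ap_mul, ap_mul, ap_mul, ← ti, ← hyt, inv_mul_cancel_right]
  obtain ⟨k1, k2, -, -⟩ := T.dims (hN t) h2 (hN x₁) (hN x₂)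
  have k3 := T.fix (hN t) h2 (hN x₁) (hN x₂)
  have k4 := rS h3 hω T.sss (inv_of_order hy) hys (hN t) (hN y)
  have k5 := conj_eq l hN hc
  have k6 : Inv (l y) (E (l t) 1) := fun v hv => by
    rw [mem_E1] at hv ⊢
    have e : l t (l y v) = l y (l t (l t v)) := by rw [hys, hys, T.sss]
    rw [e, hv, hv]
  have k7 := pm h2 (inv_of_order hy) ((hN y).inf k6)
  have k8 : finrank K ↥(N ⊓ E (l x₁) 1 ⊓ E (l x₂) 1 ⊓ E (l t) 1) ≤ finrank K ↥(N ⊓ E (l x₁) 1 ⊓ E (l x₂) 1) :=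
    Submodule.finrank_mono inf_le_left
  simp only [dm_def] at k1 k2 k3 k4 k5 k7 k8
  simp only [Rel, sp, ← inf_assoc, inf_top_eq]
  omega

theorem arith0 (a s σ b c P Q d₁ d₂ f33 f34 f35 f43 f44 f45 f46 f53 f54 f63 f64 f65 f66 : ℕ)
    (h5 : 133 + 2 * b = a + 69 + a) (h6 : 133 + 3 * c = s + σ + s + s)
    (e33 : 4 * f33 + 3 * 69 + 3 * a = 133 + 9 * b)
    (e34 : 4 * f34 + 69 + 2 * σ + 3 * a = 133 + 3 * b + 6 * P)
    (e35 : 4 * f35 + 2 * 69 + σ + 3 * a = 133 + 6 * b + 3 * P)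
    (e43 : 4 * f43 + 3 * 69 + a + 2 * s = 133 + 3 * b + 6 * Q)
    (e44 : 4 * f44 + 69 + 2 * σ + a + 2 * s = 133 + b + 2 * P + 2 * Q + 4 * c)
    (e45 : 4 * f45 + 2 * 69 + σ + a + 2 * s = 133 + 2 * b + P + 4 * Q + 2 * c)
    (e46 : 4 * f46 + 133 + σ + 2 * b + 4 * Q = 2 * 69 + a + P + 2 * s + 2 * c)
    (e53 : 4 * f53 + 3 * 69 + 2 * a + s = 133 + 6 * b + 3 * Q)
    (e54 : 4 * f54 + 69 + 2 * σ + 2 * a + s = 133 + 2 * b + 4 * P + Q + 2 * c)
    (e63 : 4 * f63 + 133 + 6 * b + s = 3 * 69 + 2 * a + 3 * Q)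
    (e64 : 4 * f64 + 133 + 2 * b + 4 * P + s = 69 + 2 * σ + 2 * a + Q + 2 * c)
    (e65 : 4 * f65 + 133 + 4 * b + 2 * P + s = 2 * 69 + σ + 2 * a + 2 * Q + c)
    (e66 : 4 * f66 + 2 * 69 + 2 * a + 2 * P + 2 * Q = 133 + σ + 4 * b + s + c)
    (i1 : f45 ≤ f35) (i2 : f44 ≤ f43) (i3 : f64 ≤ f63)
    (h7 : f33 + 3 * f44 = f43 + f34 + d₁ + d₂) (h8 : f44 ≤ d₁) (h9 : f44 ≤ d₂) (ha : a = 63 ∨ a = 79)
    (hs : s = 43 ∨ s = 49 ∨ s = 67 ∨ s = 79) (hσ : σ = 43 ∨ σ = 49 ∨ σ = 67 ∨ σ = 79)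
    (hP : a = 63 → σ = 67 → P ≠ 29) : d₁ = 0 ∧ f66 ≤ 2 := by
  rcases ha with rfl | rfl <;> rcases hs with rfl | rfl | rfl | rfl <;> rcases hσ with rfl | rfl | rfl | rfl <;> (clear * - h7 h5 e33 e43 e34 e35 h6 e44 e66 h9 hP i3 e63 e64 i1 i2 e45 e46 e53; omega)

theorem arith (f : ℕ → ℕ → ℕ) (hl : ∀ j, Rel fun i => f i j) (hr : ∀ i, Rel fun j => f i j) (a s σ d₁ d₂ : ℕ)
    (h0 : f 0 0 = 133) (h1 : f 1 0 = a) (h2 : f 0 1 = 69) (h3 : f 2 0 = s) (h4 : f 0 2 = σ)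
    (h5 : 133 + 2 * f 1 1 = a + 69 + a) (h6 : 133 + 3 * f 2 2 = s + σ + s + s)
    (h7 : f 3 3 + 3 * f 4 4 = f 4 3 + f 3 4 + d₁ + d₂) (h8 : f 4 4 ≤ d₁) (h9 : f 4 4 ≤ d₂) (ha : a = 63 ∨ a = 79)
    (hs : s = 43 ∨ s = 49 ∨ s = 67 ∨ s = 79) (hσ : σ = 43 ∨ σ = 49 ∨ σ = 67 ∨ σ = 79)
    (hP : a = 63 → σ = 67 → f 1 2 ≠ 29) : d₁ = 0 ∧ f 6 6 ≤ 2 := by
  obtain ⟨a3, a4, a5, a6, -⟩ := hr 0
  obtain ⟨b3, b4, b5, b6, -⟩ := hr 1
  obtain ⟨c3, c4, c5, c6, -⟩ := hr 2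
  simp only [h0, h1, h2, h3, h4] at a3 a4 a5 a6 b3 b4 b5 b6 c3 c4 c5 c6
  refine arith0 a s σ (f 1 1) (f 2 2) (f 1 2) (f 2 1) d₁ d₂ (f 3 3) (f 3 4) (f 3 5) (f 4 3) (f 4 4) (f 4 5) (f 4 6)
    (f 5 3) (f 5 4) (f 6 3) (f 6 4) (f 6 5) (f 6 6) h5 h6 ?_ ?_ ?_ ?_ ?_ ?_ ?_ ?_ ?_ ?_ ?_ ?_ ?_ (hl 5).2.2.2.2
    (hr 4).2.2.2.2 (hr 6).2.2.2.2 h7 h8 h9 ha hs hσ hP
  · linarith only [a3, b3, (hl 3).1]
  · linarith only [a4, b4, (hl 4).1]
  · linarith only [a5, b5, (hl 5).1]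
  · linarith only [a3, b3, c3, (hl 3).2.1]
  · linarith only [a4, b4, c4, (hl 4).2.1]
  · linarith only [a5, b5, c5, (hl 5).2.1]
  · linarith only [a6, b6, c6, (hl 6).2.1]
  · linarith only [a3, b3, c3, (hl 3).2.2.1]
  · linarith only [a4, b4, c4, (hl 4).2.2.1]
  · linarith only [a3, b3, c3, (hl 3).2.2.2.1]
  · linarith only [a4, b4, c4, (hl 4).2.2.2.1]
  · linarith only [a5, b5, c5, (hl 5).2.2.2.1]
  · linarith only [a6, b6, c6, (hl 6).2.2.2.1]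

theorem arith16 (a1 a2 a3 b1 b2 b3 e e1 e2 e3 ee f11 f12 f13 f21 f22 f23 f31 f32 f33 : ℕ) (h1 : a1 = 63 ∨ a1 = 79)
    (h2 : a2 = 63 ∨ a2 = 79) (h3 : a3 = 63 ∨ a3 = 79) (k1 : b1 = 63 ∨ b1 = 79) (k2 : b2 = 63 ∨ b2 = 79)
    (k3 : b3 = 63 ∨ b3 = 79) (q0 : 133 + 2 * e = a1 + a2 + a3) (q1 : b1 + 2 * e1 = f11 + f21 + f31)
    (q2 : b2 + 2 * e2 = f12 + f22 + f32) (q3 : b3 + 2 * e3 = f13 + f23 + f33) (q4 : e + 2 * ee = e1 + e2 + e3)
    (p11 : 133 + 2 * f11 = a1 + b1 + 69) (p12 : 133 + 2 * f12 = a1 + b2 + 69) (p13 : 133 + 2 * f13 = a1 + b3 + 69)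
    (p21 : 133 + 2 * f21 = a2 + b1 + 69) (p22 : 133 + 2 * f22 = a2 + b2 + 69) (p23 : 133 + 2 * f23 = a2 + b3 + 69)
    (p31 : 133 + 2 * f31 = a3 + b1 + 69) (p32 : 133 + 2 * f32 = a3 + b2 + 69) (p33 : 133 + 2 * f33 = a3 + b3 + 69) :
    False := by
  have h : 8 * ee + 310 = a1 + a2 + a3 + b1 + b2 + b3 := by linarith
  clear q0 q1 q2 q3 q4 p11 p12 p13 p21 p22 p23 p31 p32 p33
  omega

section two

variable (ρ : U × U →* Module.End K V)

/-- the action of the left factor -/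
def lf : U →* Module.End K V := ρ.comp (MonoidHom.inl U U)
/-- the action of the right factor -/
def rt : U →* Module.End K V := ρ.comp (MonoidHom.inr U U)

theorem lf_apply (g : U) : lf ρ g = ρ (g, 1) := rfl
theorem rt_apply (g : U) : rt ρ g = ρ (1, g) := rfl

theorem lf_mul_rt (g h : U) : lf ρ g * rt ρ h = ρ (g, h) := by
  rw [lf_apply, rt_apply, ← map_mul, Prod.mk_mul_mk, mul_one, one_mul]

theorem lf_rt (g h : U) (v : V) : lf ρ g (rt ρ h v) = ρ (g, h) v := by rw [← lf_mul_rt, Module.End.mul_apply]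

theorem rt_lf (g h : U) (v : V) : rt ρ h (lf ρ g v) = lf ρ g (rt ρ h v) := by
  rw [lf_rt, lf_apply, rt_apply, ap_mul, Prod.mk_mul_mk, mul_one, one_mul]

theorem ev_eq (g : U × U) : ev ρ g 1 = finrank K ↥(⊤ ⊓ E (ρ g) 1) := by rw [top_inf_eq]; rfl

/-- the four-group generated by `(a, 1)` and `(1, b)` -/
theorem pair (h2 : (2 : K) ≠ 0) {a b : U} (ha : orderOf a = 2) (hb : orderOf b = 2) :
    finrank K V + 2 * finrank K ↥(E (lf ρ a) 1 ⊓ E (rt ρ b) 1) = ev ρ (a, 1) 1 + ev ρ (1, b) 1 + ev ρ (a, b) 1 := by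
  have h := r4 h2 (inv_of_order (l := lf ρ) ha) (inv_of_order (l := rt ρ) hb) (fun v => (rt_lf ρ a b v).symm)
    (Inv.top _) (Inv.top _)
  rw [lf_mul_rt, finrank_top, top_inf_eq, top_inf_eq, top_inf_eq] at h
  exact h

theorem sixteen (h2 : (2 : K) ≠ 0) (hV : finrank K V = 133) (x₁ x₂ : U) (o1 : orderOf x₁ = 2) (o2 : orderOf x₂ = 2)
    (hne : x₁ ≠ x₂) (hc : x₁ * x₂ = x₂ * x₁)
    (h : ∀ a ∈ ({x₁, x₂, x₁ * x₂} : Set U), (ev ρ (a, 1) 1 = 63 ∨ ev ρ (a, 1) 1 = 79) ∧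
      (ev ρ (1, a) 1 = 63 ∨ ev ρ (1, a) 1 = 79) ∧ ∀ b ∈ ({x₁, x₂, x₁ * x₂} : Set U), ev ρ (a, b) 1 = 69) : False := by
  have o3 : orderOf (x₁ * x₂) = 2 := by
    refine orderOf_eq_prime ?_ fun e => hne ?_
    · rw [pow_two, mul_assoc, ← mul_assoc x₂, ← hc, mul_assoc, sq_of_order o2, mul_one, sq_of_order o1]
    · rw [eq_inv_of_mul_eq_one_left e, inv_eq_of_mul_eq_one_right (sq_of_order o2)]
  have m1 : x₁ ∈ ({x₁, x₂, x₁ * x₂} : Set U) := by simp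
  have m2 : x₂ ∈ ({x₁, x₂, x₁ * x₂} : Set U) := by simp
  have m3 : x₁ * x₂ ∈ ({x₁, x₂, x₁ * x₂} : Set U) := by simp
  have q : ∀ (l : U →* Module.End K V) (N : Submodule K V), (∀ g, Inv (l g) N) →
      finrank K N + 2 * finrank K ↥(N ⊓ E (l x₁) 1 ⊓ E (l x₂) 1) =
        finrank K ↥(N ⊓ E (l x₁) 1) + finrank K ↥(N ⊓ E (l x₂) 1) + finrank K ↥(N ⊓ E (l (x₁ * x₂)) 1) := by
    intro l N hN
    rw [map_mul]
    exact r4 h2 (inv_of_order o1) (inv_of_order o2) (fun v => by rw [ap_mul, ap_mul, hc]) (hN _) (hN _)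
  have q0 := q (lf ρ) ⊤ fun _ => Inv.top _
  have q1 : ∀ b, ev ρ (1, b) 1 + 2 * finrank K ↥(E (lf ρ x₁) 1 ⊓ E (lf ρ x₂) 1 ⊓ E (rt ρ b) 1) =
      finrank K ↥(E (lf ρ x₁) 1 ⊓ E (rt ρ b) 1) + finrank K ↥(E (lf ρ x₂) 1 ⊓ E (rt ρ b) 1) +
        finrank K ↥(E (lf ρ (x₁ * x₂)) 1 ⊓ E (rt ρ b) 1) := fun b => by
    have := q (lf ρ) (E (rt ρ b) 1) fun g => inv_E (rt_lf ρ g b) 1
    rw [inf_assoc, inf_comm (E (rt ρ b) 1), inf_comm (E (rt ρ b) 1), inf_comm (E (rt ρ b) 1),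
      inf_comm (E (rt ρ b) 1)] at this
    exact this
  have q2 := q (rt ρ) (E (lf ρ x₁) 1 ⊓ E (lf ρ x₂) 1) fun g =>
    (inv_E (fun v => (rt_lf ρ _ g v).symm) 1).inf (inv_E (fun v => (rt_lf ρ _ g v).symm) 1)
  rw [finrank_top, top_inf_eq, top_inf_eq, top_inf_eq] at q0
  change _ = ev ρ (x₁, 1) 1 + ev ρ (x₂, 1) 1 + ev ρ (x₁ * x₂, 1) 1 at q0
  have pp : ∀ a ∈ ({x₁, x₂, x₁ * x₂} : Set U), ∀ b ∈ ({x₁, x₂, x₁ * x₂} : Set U), orderOf a = 2 → orderOf b = 2 →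
      133 + 2 * finrank K ↥(E (lf ρ a) 1 ⊓ E (rt ρ b) 1) = ev ρ (a, 1) 1 + ev ρ (1, b) 1 + 69 := fun a ha b hb oa ob => by
    rw [← hV, pair ρ h2 oa ob, (h a ha).2.2 b hb]
  rw [hV] at q0
  exact arith16 _ _ _ _ _ _ _ _ _ _ _ _ _ _ _ _ _ _ _ _ (h _ m1).1 (h _ m2).1 (h _ m3).1 (h _ m1).2.1 (h _ m2).2.1
    (h _ m3).2.1 q0 (q1 x₁) (q1 x₂) (q1 (x₁ * x₂)) q2 (pp _ m1 _ m1 o1 o1) (pp _ m1 _ m2 o1 o2) (pp _ m1 _ m3 o1 o3)
    (pp _ m2 _ m1 o2 o1) (pp _ m2 _ m2 o2 o2) (pp _ m2 _ m3 o2 o3) (pp _ m3 _ m1 o3 o1) (pp _ m3 _ m2 o3 o2)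
    (pp _ m3 _ m3 o3 o3)

theorem three (h2 : (2 : K) ≠ 0) (hU : IsSimpleGroup U) (x₁ x₂ t : U) (h : Tet x₁ x₂ t)
    (hv : ∃ v ∈ fx ρ {g | g.2 = 1}, ∃ u, ρ (1, u) v ≠ v) : 3 ≤ finrank K (fx ρ {g | g.2 = 1}) := by
  have hN : ∀ g, Inv (rt ρ g) (fx ρ {g | g.2 = 1}) := by
    rintro g v hv ⟨a, b⟩ (rfl : b = 1)
    rw [← lf_apply, ← rt_lf, lf_apply, hv (a, 1) rfl]
  obtain ⟨k1, -, -, -⟩ := (tet_to (rt ρ) h).dims (hN t) h2 (hN x₁) (hN x₂)
  by_contra h3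
  have k2 : fx ρ {g | g.2 = 1} ⊓ E (rt ρ x₁) 1 ⊓ E (rt ρ x₂) 1 = fx ρ {g | g.2 = 1} :=
    Submodule.eq_of_le_of_finrank_eq (inf_le_left.trans inf_le_left) (by omega)
  let Z : Subgroup U :=
    { carrier := {u | ∀ v ∈ fx ρ {g | g.2 = 1}, rt ρ u v = v}
      one_mem' := fun v _ => ap_one _ v
      mul_mem' := fun {a b} ha hb v hv => by rw [← ap_mul, hb v hv, ha v hv]
      inv_mem' := fun {a} ha v hv => by rw [← ha v hv, ap_mul, inv_mul_cancel, ap_one, ha v hv] }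
  have hZ : Z.Normal := ⟨fun a ha g v hv => by rw [← ap_mul, ← ap_mul, ha _ (hN _ v hv), ap_mul, mul_inv_cancel, ap_one]⟩
  rcases hU.eq_bot_or_eq_top_of_normal Z hZ with h4 | h4
  · have h5 : x₁ ∈ Z := fun v hv => mem_E1.1 (k2.ge hv).1.2
    have h6 := h.o1
    rw [h4, Subgroup.mem_bot] at h5
    rw [h5, orderOf_one] at h6
    omega
  · obtain ⟨v, hv, u, hu⟩ := hv
    exact hu ((h4.ge (Subgroup.mem_top u) : u ∈ Z) v hv)

theorem num [IsAlgClosed K] (h2 : (2 : K) ≠ 0) (h3 : (3 : K) ≠ 0) (hV : finrank K V = 133) (x₁ x₂ t y : U)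
    (h : Tet x₁ x₂ t) (hy : orderOf y = 2) (hyt : y * t * y⁻¹ = t⁻¹) (hc : IsConj y x₁) (f s σ : ℕ)
    (e1 : ev ρ (x₁, 1) 1 = f) (e2 : ev ρ (x₁, x₁) 1 = f) (e3 : ev ρ (1, x₁) 1 = 69) (e4 : ev ρ (t, 1) 1 = s)
    (e5 : ev ρ (t, t) 1 = s) (e6 : ev ρ (1, t) 1 = σ) (hf : f = 63 ∨ f = 79)
    (hs : s = 43 ∨ s = 49 ∨ s = 67 ∨ s = 79) (hσ : σ = 43 ∨ σ = 49 ∨ σ = 67 ∨ σ = 79)
    (hP : f = 63 → σ = 67 → ev ρ (x₁, t) 1 ≠ 29) : finrank K (fx ρ {g | g.1 = g.2}) ≤ 2 := by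
  obtain ⟨ω, hω⟩ : ∃ ω : K, ω * ω + ω + 1 = 0 := by
    obtain ⟨z, hz⟩ := IsAlgClosed.exists_eq_mul_self (-3 : K)
    refine ⟨(2 : K)⁻¹ * (z - 1), ?_⟩
    have i2 : (2 : K)⁻¹ * 2 = 1 := inv_mul_cancel₀ h2
    linear_combination (-(2 : K)⁻¹ * (2 : K)⁻¹) * hz - ((2 : K)⁻¹ * (z - 1) + (2 : K)⁻¹ * 2 + 1) * i2
  have TL := tet_to (lf ρ) h
  have TR := tet_to (rt ρ) h
  have ti : t⁻¹ = t * t := inv_eq_of_mul_eq_one_right (cube_of_order h.o3)
  have hl := fun j => rel h2 h3 hω (lf ρ) h hy hyt hc (N := sp (rt ρ) x₁ x₂ t y j)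
    fun g => inv_sp (fun u v => rt_lf ρ g u v) _ _ _ _ _
  have hr := fun i => rel h2 h3 hω (rt ρ) h hy hyt hc (N := sp (lf ρ) x₁ x₂ t y i)
    fun g => inv_sp (fun u v => (rt_lf ρ u g v).symm) _ _ _ _ _
  simp only [inf_comm (sp (rt ρ) x₁ x₂ t y _)] at hl
  have iE : ∀ {a b c : Module.End K V}, TO a b c → Inv c (E a 1 ⊓ E b 1) := fun T v hv => by
    have := T.wt (mem_E.1 hv.1) (mem_E.1 hv.2)
    rw [mul_one] at this
    exact ⟨mem_E.2 this.1, mem_E.2 this.2⟩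
  have k9 := r9 h3 hω TL.sss TR.sss (fun v => (rt_lf ρ t t v).symm)
    (N := sp (lf ρ) x₁ x₂ t y 3 ⊓ sp (rt ρ) x₁ x₂ t y 3)
    ((iE TL).inf (inv_sp (fun u v => rt_lf ρ t u v) _ _ _ _ _))
    ((inv_sp (fun u v => (rt_lf ρ u t v).symm) _ _ _ _ _).inf (iE TR))
  have k6 := r9 h3 hω TL.sss TR.sss (fun v => (rt_lf ρ t t v).symm) (Inv.top _) (Inv.top _)
  have k7 : finrank K ↥(⊤ ⊓ E (ρ (t, t * t)) 1) = finrank K ↥(⊤ ⊓ E (ρ (t, t)) 1) := by
    refine conj_eq ρ (fun _ => Inv.top _) (isConj_iff.2 ⟨(1, y⁻¹), ?_⟩)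
    rw [← ti, ← hyt]
    ext <;> simp only [mul_assoc, _root_.Prod.mk_mul_mk, _root_.one_mul, _root_.inv_mul_cancel_left, _root_.Prod.inv_mk, _root_.inv_one, _root_.inv_inv, _root_.mul_one, _root_.inv_mul_cancel]
  rw [← map_mul (rt ρ), lf_mul_rt, lf_mul_rt] at k9 k6
  rw [k7, ← ev_eq, finrank_top, top_inf_eq, top_inf_eq, hV, e5] at k6
  have s44 : sp (lf ρ) x₁ x₂ t y 3 ⊓ sp (rt ρ) x₁ x₂ t y 3 ⊓ E (lf ρ t) 1 ⊓ E (rt ρ t) 1 =
      sp (lf ρ) x₁ x₂ t y 4 ⊓ sp (rt ρ) x₁ x₂ t y 4 := by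
    simp only [sp]
    ac_rfl
  have s43 : sp (lf ρ) x₁ x₂ t y 3 ⊓ sp (rt ρ) x₁ x₂ t y 3 ⊓ E (lf ρ t) 1 =
      sp (lf ρ) x₁ x₂ t y 4 ⊓ sp (rt ρ) x₁ x₂ t y 3 := by
    simp only [sp]
    ac_rfl
  have s34 : sp (lf ρ) x₁ x₂ t y 3 ⊓ sp (rt ρ) x₁ x₂ t y 3 ⊓ E (rt ρ t) 1 =
      sp (lf ρ) x₁ x₂ t y 3 ⊓ sp (rt ρ) x₁ x₂ t y 4 := by
    simp only [sp]
    ac_rfl
  have le44 : ∀ u, (∀ v, rt ρ t v = v → rt ρ u v = v) →
      finrank K ↥(sp (lf ρ) x₁ x₂ t y 4 ⊓ sp (rt ρ) x₁ x₂ t y 4) ≤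
        finrank K ↥(sp (lf ρ) x₁ x₂ t y 3 ⊓ sp (rt ρ) x₁ x₂ t y 3 ⊓ E (ρ (t, u)) 1) := fun u hu => by
    rw [← s44]
    refine Submodule.finrank_mono fun v hv => ⟨hv.1.1, mem_E1.2 ?_⟩
    rw [← lf_rt, hu v (mem_E1.1 hv.2), mem_E1.1 hv.1.2]
  rw [s44, s43, s34] at k9
  have k12 : sp (lf ρ) x₁ x₂ t y 1 ⊓ sp (rt ρ) x₁ x₂ t y 2 = E (ρ (x₁, t)) 1 := by
    ext v
    simp only [sp, Submodule.mem_inf, mem_E1, ← lf_rt]
    refine ⟨fun hv => by rw [hv.2, hv.1], fun hv => ?_⟩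
    have h5 : rt ρ t v = lf ρ x₁ v := by rw [← TL.aa (rt ρ t v), hv]
    have h6 : lf ρ x₁ v = v := by
      have h7 := TR.sss v
      rw [h5, rt_lf, h5, TL.aa, h5] at h7
      exact h7
    exact ⟨h6, h5.trans h6⟩
  obtain ⟨d0, d2⟩ := arith (fun i j => dm (sp (lf ρ) x₁ x₂ t y i ⊓ sp (rt ρ) x₁ x₂ t y j)) hl hr f s σ _ _
    (by simp only [sp, top_inf_eq, dm_top, hV]) (by simp only [sp, inf_top_eq]; exact e1)
    (by simp only [sp, top_inf_eq]; exact e3) (by simp only [sp, inf_top_eq]; exact e4)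
    (by simp only [sp, top_inf_eq]; exact e6)
    (by have := pair ρ h2 h.o1 h.o1; rw [hV, e1, e2, e3] at this; exact this)
    (by rw [← e4, ← e6] ; rw [← e4] at k6; exact k6) k9 (le44 t fun _ hv => hv)
    (le44 (t * t) fun v hv => by rw [← ap_mul, hv, hv]) hf hs hσ (by simp only [k12]; exact hP)
  refine le_trans ?_ d2
  have d1 := Submodule.finrank_eq_zero.1 d0
  have hys : ∀ (l : U →* Module.End K V) v, l y (l t v) = l t (l t (l y v)) := fun l v => by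
    rw [ap_mul, ap_mul, ap_mul, ← ti, ← hyt, inv_mul_cancel_right]
  have hsy : ∀ (l : U →* Module.End K V) v, l t (l y v) = l y (l t (l t v)) := fun l v => by
    rw [hys, hys, (tet_to l h).sss]
  -- the two operators
  let e : (U →* Module.End K V) → Module.End K V := fun l => (1 - l y) * (1 + l t + l t * l t)
  let eE : (U →* Module.End K V) → Module.End K V := fun l => 1 + l x₁ + l x₂ + l x₁ * l x₂
  have e_ap : ∀ l v, e l v = v + l t v + l t (l t v) - (l y v + l y (l t v) + l y (l t (l t v))) := fun l v => by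
    simp only [e, LinearMap.add_apply, LinearMap.sub_apply, Module.End.mul_apply, Module.End.one_apply, map_add]
    abel
  have eE_ap : ∀ l v, eE l v = v + l x₁ v + l x₂ v + l x₁ (l x₂ v) := fun l v => by
    simp only [eE, LinearMap.add_apply, Module.End.mul_apply, Module.End.one_apply]
  have e_mem : ∀ l v, e l v ∈ sp l x₁ x₂ t y 6 := fun l v => by
    have T := tet_to l h
    refine ⟨mem_E1.2 ?_, mem_Em.2 ?_⟩
    · simp only [e_ap, map_sub, map_add, hsy, T.sss]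
      abel
    · simp only [e_ap, map_sub, map_add, inv_of_order hy]
      abel
  have eE_mem : ∀ l v, eE l v ∈ sp l x₁ x₂ t y 3 := fun l v => by
    have T := tet_to l h
    refine ⟨mem_E1.2 ?_, mem_E1.2 ?_⟩
    · simp only [eE_ap, map_add, T.aa]
      abel
    · simp only [eE_ap, map_add, T.ab, T.bb]
      abel
  have sw : ∀ v ∈ fx ρ {g | g.1 = g.2}, ∀ g, lf ρ g v = rt ρ g⁻¹ v := fun v hv g => by
    rw [← hv (g⁻¹, g⁻¹) rfl, ← lf_rt, ap_mul, mul_inv_cancel, ap_one, lf_rt, hv _ rfl]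
  have i2 : ∀ {x : U}, orderOf x = 2 → x⁻¹ = x := fun hx => inv_eq_of_mul_eq_one_right (sq_of_order hx)
  have sw2 : ∀ v ∈ fx ρ {g | g.1 = g.2}, ∀ g g', lf ρ g (lf ρ g' v) = rt ρ g'⁻¹ (rt ρ g⁻¹ v) := fun v hv g g' => by
    rw [ap_mul, sw v hv, mul_inv_rev, ← ap_mul]
  refine le_of_inj (e (lf ρ)) (fun v hv => ⟨e_mem _ v, ?_⟩) fun v hv h0 => ?_
  · have : e (lf ρ) v = e (rt ρ) v := by
      rw [e_ap, e_ap, ap_mul (lf ρ) t t, sw2 v hv, sw2 v hv, sw v hv, sw v hv, sw v hv, i2 hy, ← ti, inv_inv, ti,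
        ← ap_mul, ← ap_mul, ← hys, hsy]
      abel
    rw [this]
    exact e_mem _ v
  · have hE : eE (lf ρ) v = 0 := by
      rw [← Submodule.mem_bot K, ← d1]
      refine ⟨⟨eE_mem _ v, ?_⟩, mem_E1.2 ?_⟩
      · have : eE (lf ρ) v = eE (rt ρ) v := by
          rw [eE_ap, eE_ap, sw2 v hv, sw v hv, sw v hv, i2 h.o1, i2 (tet_o2 h), TR.ab]
        rw [this]
        exact eE_mem _ v
      · have h5 : lf ρ t (rt ρ t v) = v := by rw [lf_rt, hv _ rfl]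
        rw [← lf_rt, eE_ap]
        simp only [map_add, rt_lf, TL.sa, TL.sb, h5, ← TL.ab, TL.bb]
        abel
    let W : Submodule K V :=
      { carrier := {w | ∀ g, e (lf ρ) (lf ρ g w) = 0 ∧ eE (lf ρ) (lf ρ g w) = 0}
        zero_mem' := fun g => by simp only [map_zero, and_self]
        add_mem' := fun {a b} ha hb g => by simp only [map_add, (ha g).1, (ha g).2, (hb g).1, (hb g).2, add_zero, and_self]
        smul_mem' := fun c a ha g => by simp only [map_smul, (ha g).1, (ha g).2, smul_zero, and_self] }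
    have hvW : v ∈ W := fun g => by
      rw [sw v hv]
      constructor
      · have h5 := congrArg (rt ρ g⁻¹) h0
        rw [e_ap] at h5 ⊢
        simpa only [map_sub, map_add, rt_lf, map_zero] using h5
      · have h5 := congrArg (rt ρ g⁻¹) hE
        rw [eE_ap] at h5 ⊢
        simpa only [map_add, rt_lf, map_zero] using h5
    have hW := rel h2 h3 hω (lf ρ) h hy hyt hc (N := W) fun g w hw g' => by rw [ap_mul]; exact hw _
    have z3 : W ⊓ sp (lf ρ) x₁ x₂ t y 3 = ⊥ := by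
      rw [eq_bot_iff]
      intro w hw
      have h5 := (hw.1 1).2
      rw [ap_one, eE_ap, mem_E1.1 hw.2.2, mem_E1.1 hw.2.1] at h5
      exact zero_of_smul h2 (zero_of_smul h2 (by linear_combination (norm := module) h5))
    have z6 : W ⊓ sp (lf ρ) x₁ x₂ t y 6 = ⊥ := by
      rw [eq_bot_iff]
      intro w hw
      have h5 := (hw.1 1).1
      rw [ap_one, e_ap, mem_E1.1 hw.2.1, mem_E1.1 hw.2.1, mem_Em.1 hw.2.2] at h5
      exact zero_of_smul h2 (zero_of_smul h3 (by linear_combination (norm := module) h5))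
    simp only [Rel, z3, z6, dm_bot] at hW
    have z0 : dm (W ⊓ sp (lf ρ) x₁ x₂ t y 0) = 0 := by (clear * - hW; omega)
    exact (Submodule.mem_bot K).1 ((Submodule.finrank_eq_zero.1 z0).le ⟨hvW, Submodule.mem_top⟩)

theorem jor (h3 : (3 : K) = 0) (hV : finrank K V = 133) (x₁ x₂ t : U) (h : Tet x₁ x₂ t) (e1 : ev ρ (x₁, 1) 1 = 63)
    (e2 : ev ρ (x₁, x₁) 1 = 63) (e3 : ev ρ (1, x₁) 1 = 69) : 43 ≤ rk2 (ρ (t, t)) ∧ rk2 (ρ (t, 1)) ≤ 42 := by
  have h2 : (2 : K) ≠ 0 := fun h => one_ne_zero (α := K) (by linear_combination h3 - h)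
  have TL := tet_to (lf ρ) h
  have TR := tet_to (rt ρ) h
  have iL : ∀ g u c, Inv (lf ρ g) (E (rt ρ u) c) := fun g u c => inv_E (rt_lf ρ g u) c
  have iR : ∀ g u c, Inv (rt ρ g) (E (lf ρ u) c) := fun g u c => inv_E (fun v => (rt_lf ρ u g v).symm) c
  have p0 := pair ρ h2 h.o1 h.o1
  obtain ⟨a1, a2, -, -⟩ := TL.dims (Inv.top _) h2 (Inv.top _) (Inv.top _)
  obtain ⟨b1, b2, -, -⟩ := TL.dims (iL t x₁ 1) h2 (iL _ _ _) (iL _ _ _)
  obtain ⟨c1, c2, c3, c4⟩ := TR.dims ((iR t x₁ 1).inf (iR t x₂ 1)) h2 ((iR _ _ _).inf (iR _ _ _))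
    ((iR _ _ _).inf (iR _ _ _))
  rw [top_inf_eq] at a1 a2
  rw [finrank_top] at a1
  rw [inf_assoc (E (rt ρ x₁) 1), inf_comm (E (rt ρ x₁) 1) (E (lf ρ x₁) 1 ⊓ E (lf ρ x₂) 1)] at b1 b2
  rw [inf_comm (E (rt ρ x₁) 1) (E (lf ρ x₁) 1)] at b1 b2
  change finrank K ↥(E (lf ρ x₁) 1) = 63 at e1
  change finrank K ↥(E (rt ρ x₁) 1) = 69 at e3
  change _ = finrank K ↥(E (lf ρ x₁) 1) + finrank K ↥(E (rt ρ x₁) 1) + _ at p0
  have sq : ∀ (g : Module.End K V) v, ((g - 1) ^ 2 : Module.End K V) v = v + g v + g (g v) := fun g v => by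
    simp only [pow_two, Module.End.mul_apply, LinearMap.sub_apply, Module.End.one_apply, map_sub]
    linear_combination (norm := module) (-h3) • g v
  have h4 : ∀ v : V, v + v + v + v = v := fun v => by linear_combination (norm := module) h3 • v
  constructor
  · -- the free orbits
    have wt : ∀ {a b s : Module.End K V} (T : TO a b s) (g : Module.End K V) (hg : ∀ (c d : K) (v : V), a v = c • v → b v = d • v →
        a (g v) = (c * d) • g v ∧ b (g v) = c • g v) (u u' : V), a u = (1 : K) • u → b u = (-1 : K) • u →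
        a u' = (1 : K) • u' → b u' = (1 : K) • u' → u + u' + g (u + u') + g (g (u + u')) = 0 → u = 0 := by
      intro a b s T g hg u u' u1 u2 v1 v2 h0
      obtain ⟨u3, u4⟩ := hg _ _ _ u1 u2
      obtain ⟨u5, u6⟩ := hg _ _ _ u3 u4
      obtain ⟨v3, v4⟩ := hg _ _ _ v1 v2
      obtain ⟨v5, v6⟩ := hg _ _ _ v3 v4
      simp only [map_add] at h0
      have h5 := congrArg a h0
      have h6 := congrArg b h0
      have h7 := congrArg b h5
      simp only [map_add, u1, u3, u5, v1, v3, v5, map_smul, u2, u4, u6, v2, v4, v6, map_zero] at h5 h6 h7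
      rw [← h4 u]
      linear_combination (norm := module) h0 + h5 - h6 - h7
    have d0 : (E (lf ρ x₁) 1 ⊓ E (lf ρ x₂) (-1)) ⊓
        (E (lf ρ x₁) 1 ⊓ E (lf ρ x₂) 1 ⊓ E (rt ρ x₁) 1 ⊓ E (rt ρ x₂) (-1)) = ⊥ := by
      rw [eq_bot_iff]
      intro v hv
      have h5 := mem_Em.1 hv.1.2
      rw [mem_E1.1 hv.2.1.1.2] at h5
      exact zero_of_smul h2 (by linear_combination (norm := module) h5)
    have d1 := Submodule.finrank_sup_add_finrank_inf_eq (E (lf ρ x₁) 1 ⊓ E (lf ρ x₂) (-1))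
      (E (lf ρ x₁) 1 ⊓ E (lf ρ x₂) 1 ⊓ E (rt ρ x₁) 1 ⊓ E (rt ρ x₂) (-1))
    rw [d0, finrank_bot] at d1
    refine le_trans (by omega) (le_of_inj (A := (E (lf ρ x₁) 1 ⊓ E (lf ρ x₂) (-1)) ⊔
      (E (lf ρ x₁) 1 ⊓ E (lf ρ x₂) 1 ⊓ E (rt ρ x₁) 1 ⊓ E (rt ρ x₂) (-1))) ((ρ (t, t) - 1) ^ 2)
      (fun v _ => LinearMap.mem_range_self _ v) fun v hv h0 => ?_)
    obtain ⟨u, hu, u', hu', rfl⟩ := Submodule.mem_sup.1 hv
    rw [sq] at h0
    have z1 : u = 0 := by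
      refine wt TL (ρ (t, t)) (fun c d v h5 h6 => ?_) u u' (mem_E.1 hu.1) (mem_E.1 hu.2) (mem_E.1 hu'.1.1.1)
        (mem_E.1 hu'.1.1.2) h0
      rw [← lf_rt]
      exact TL.wt (by rw [← rt_lf, h5, map_smul]) (by rw [← rt_lf, h6, map_smul])
    have z2 : u' = 0 := by
      refine wt TR (ρ (t, t)) (fun c d v h5 h6 => ?_) u' 0 (mem_E.1 hu'.1.2) (mem_E.1 hu'.2) (by simp) (by simp only [_root_.map_zero, _root_.smul_zero])
        (by rw [z1, add_comm 0] at h0; exact h0)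
      rw [← lf_rt, ← rt_lf]
      exact TR.wt (by rw [rt_lf, h5, map_smul]) (by rw [rt_lf, h6, map_smul])
    rw [z1, z2, add_zero]
  · -- the Jordan blocks
    have hn : ∀ v, (lf ρ t - 1) ((lf ρ t - 1) ((lf ρ t - 1) v)) = 0 := fun v => by
      simp only [LinearMap.sub_apply, Module.End.one_apply, map_sub, TL.sss]
      linear_combination (norm := module) h3 • (lf ρ t v - lf ρ t (lf ρ t v))
    have n3 : ∀ N, Inv (lf ρ t) N → 3 * finrank K (N.map ((lf ρ t - 1) * (lf ρ t - 1))) ≤ finrank K N := fun N hN =>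
      nil3 hn fun v hv => sub_mem (hN v hv) hv
    have iE : Inv (lf ρ t) (E (lf ρ x₁) 1 ⊓ E (lf ρ x₂) 1) := fun v hv => by
      have := TL.wt (mem_E.1 hv.1) (mem_E.1 hv.2)
      rw [mul_one] at this
      exact ⟨mem_E.2 this.1, mem_E.2 this.2⟩
    have ap : ∀ v, (1 + lf ρ x₁ + lf ρ x₂ + lf ρ x₁ * lf ρ x₂ : Module.End K V) v =
        v + lf ρ x₁ v + lf ρ x₂ v + lf ρ x₁ (lf ρ x₂ v) := fun v => by
      simp only [LinearMap.add_apply, Module.End.mul_apply, Module.End.one_apply]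
    have pm1 : ∀ v, v + lf ρ x₁ v + lf ρ x₂ v + lf ρ x₁ (lf ρ x₂ v) ∈ E (lf ρ x₁) 1 ⊓ E (lf ρ x₂) 1 := fun v => by
      refine ⟨mem_E1.2 ?_, mem_E1.2 ?_⟩
      · simp only [map_add, TL.aa]
        abel
      · simp only [map_add, TL.ab, TL.bb]
        abel
    have pm2 : ∀ u ∈ E (lf ρ x₁) 1 ⊓ E (lf ρ x₂) 1, u + lf ρ x₁ u + lf ρ x₂ u + lf ρ x₁ (lf ρ x₂ u) = u := fun u hu => by
      rw [mem_E1.1 hu.2, mem_E1.1 hu.1, h4]
    obtain ⟨M, hM⟩ : ∃ M : Submodule K V, ∀ v, v ∈ M ↔ v + lf ρ x₁ v + lf ρ x₂ v + lf ρ x₁ (lf ρ x₂ v) = 0 :=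
      ⟨LinearMap.ker (1 + lf ρ x₁ + lf ρ x₂ + lf ρ x₁ * lf ρ x₂), fun v => by rw [LinearMap.mem_ker, ap]⟩
    have m1 : finrank K (⊤ : Submodule K V) = finrank K M + finrank K ↥(E (lf ρ x₁) 1 ⊓ E (lf ρ x₂) 1) :=
      split (1 + lf ρ x₁ + lf ρ x₂ + lf ρ x₁ * lf ρ x₂) (fun v => by simp only [hM, ap, Submodule.mem_top, true_and])
        (fun v _ => by rw [ap]; exact pm1 v) fun u hu => ⟨u, Submodule.mem_top, by rw [ap, pm2 u hu]⟩
    have m2 : (⊤ : Submodule K V) ≤ M ⊔ (E (lf ρ x₁) 1 ⊓ E (lf ρ x₂) 1) := fun v _ => by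
      rw [← sub_add_cancel v (v + lf ρ x₁ v + lf ρ x₂ v + lf ρ x₁ (lf ρ x₂ v))]
      refine Submodule.add_mem_sup ?_ (pm1 v)
      rw [hM, ← ap, map_sub, ap, ap, pm2 _ (pm1 v), sub_self]
    have m3 : Inv (lf ρ t) M := fun v hv => by
      rw [hM] at hv ⊢
      have h5 := congrArg (lf ρ t) hv
      simp only [map_add, TL.sa, TL.sb, ← TL.ab, TL.bb, map_zero] at h5
      rw [← h5]
      abel
    have r0 := map_le_add ((lf ρ t - 1) * (lf ρ t - 1)) m2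
    have r1 := map_le_add ((lf ρ t - 1) * (lf ρ t - 1)) (pm_sup h2 TR.aa ((iR x₁ x₁ 1).inf (iR x₁ x₂ 1)))
    have r2 := fun c => map_le_add ((lf ρ t - 1) * (lf ρ t - 1))
      (pm_sup h2 TR.bb (((iR x₂ x₁ 1).inf (iR x₂ x₂ 1)).inf (inv_E TR.ab c)))
    have r3 := fun c d => n3 _ ((iE.inf (iL t x₁ c)).inf (iL t x₂ d))
    have := r2 1
    have := r2 (-1)
    have := r3 1 1
    have := r3 1 (-1)
    have := r3 (-1) 1
    have := r3 (-1) (-1)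
    have := n3 M m3
    rw [finrank_top] at m1
    rw [rk2, LinearMap.range_eq_map, pow_two, ← lf_apply]
    omega

end two

/-- **the linear algebra box** -/
theorem boxLin : BoxLin where
  sixteen _ _ _ _ _ _ _ _ _ ρ := sixteen ρ
  num _ _ _ _ _ _ _ _ _ ρ := num ρ
  three _ _ _ _ _ _ _ _ _ ρ := three ρ
  jor _ _ _ _ _ _ _ _ _ ρ := jor ρ

end Cfsg.Agent.Cam.Odd.Lin
end

private theorem dce_1b98897ca1bc : _root_.True := by
  try have : _root_.True := by simp only [_root_.Cfsg.Agent.Cam.Odd.Lin.sp.eq_5]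
  try have : _root_.True := by simp only [_root_.Cfsg.Agent.Cam.Odd.Lin.sp.eq_3]
  try have : _root_.True := by simp only [_root_.Cfsg.Agent.Cam.Odd.Lin.sp.eq_7]
  try have : _root_.True := by simp only [_root_.Cfsg.Agent.Cam.Odd.Lin.sp.eq_4]
  try have : _root_.True := by simp only [_root_.Cfsg.Agent.Cam.Odd.Lin.sp.eq_6]
  try have : _root_.True := by simp only [_root_.Cfsg.Agent.Cam.Odd.Lin.sp.eq_2]
  try have : _root_.True := by simp only [_root_.Cfsg.Agent.Cam.Ex.PsiS.eq_1]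
  try have : _root_.True := by simp only [_root_.Cfsg.Agent.Cam.Odd.Lin.sp.eq_1]
  try have : _root_.True := by simp only [_root_.Cfsg.Agent.Cam.Odd.rk2.eq_1]
  try have : _root_.True := by simp only [_root_.Cfsg.Agent.Cam.Odd.Lin.Rel.eq_1]
  exact _root_.True.intro
end
end
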